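import Cfsg.Agent.LFourType.CentZ
import Mathlib.LinearAlgebra.Matrix.GeneralLinearGroup.Defs

/-!
The two cases of the classification by fusion of the sides.
-/

set_option autoImplicit false

namespace Cfsg.Lib.LFourType

open Matrix

universe u v

/-- `B` not moved: the side `A` is normal. -/
def CaseTwoProp : Prop :=
  ∀ {G : Type u} [Group G] [Finite G] (C : Coord G), Cfsg.oddCore G = ⊥ → ¬ C.swap.Moved → C.A.Normal

/-- the conclusion for a group without odd core -/
def Embeds (G : Type u) [Group G] (F : Type v) [Field F] [Fintype F] : Prop :=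
  ∃ f : G →* GL (Fin 3) F ⧸ Subgroup.center (GL (Fin 3) F), Function.Injective f

/-- both sides moved -/
def CaseOneProp : Prop :=
  ∀ {G : Type u} [Group G] [Finite G] {F : Type v} [Field F] [Fintype F] (C : Coord G),
    Fintype.card F = 4 → Cfsg.oddCore G = ⊥ → C.Moved → C.swap.Moved → Embeds G F

/-- a normal side -/
def AffineProp : Prop :=
  ∀ {G : Type u} [Group G] [Finite G] {F : Type v} [Field F] [Fintype F] (C : Coord G),
    Fintype.card F = 4 → Cfsg.oddCore G = ⊥ → C.A.Normal → Embeds G F

end Cfsg.Lib.LFourType
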