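import Cfsg.Agent.LFourType.TorusChain

/-!
Neither side moved and no odd core: the three shears contradict the commutativity of a torus, so split
elements of a side have trivial cores.
-/

set_option autoImplicit false
set_option linter.unusedSectionVars false
set_option linter.style.haveILetI false
set_option maxHeartbeats 400000

namespace Cfsg.Lib.LFourType.Coord

open Subgroup
open Cfsg.Lib.Walter (Qt bar Oc mem_Oc)

universe u

variable {G : Type u} [Group G] [Finite G] {C : Coord G}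

/-- the projection onto `C(a)/O(C(a))` -/
local notation "qk" => Cfsg.Lib.Walter.qm

variable {u : G} {L : Subgroup (Qt u)} {U : Subgroup G}

/-- `y` shears the line at `z * w` into the line at `w`, fixing the other two -/
structure Shear (u : G) (L : Subgroup (Qt u)) (U : Subgroup G) (p : ℕ) (V : Subgroup G) (z w y : G) : Prop where
  mem : y ∈ inL u L U
  pow : y ^ p = 1
  comm : Commute y z
  inv : w * y * w⁻¹ = y⁻¹
  inv' : z * w * y * (z * w)⁻¹ = y⁻¹
  fix : ∀ e ∈ V, Commute e z → Commute y e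
  fix' : ∀ e ∈ V, Commute e w → Commute y e
  shift : ∀ e ∈ V, Commute e (z * w) → Commute (y * e * y⁻¹ * e⁻¹) w
  move : ∀ e ∈ V, Commute e (z * w) → e ≠ 1 → y * e * y⁻¹ ≠ e

theorem Shear.conj {p : ℕ} {V : Subgroup G} {z w y ρ : G} (hy : Shear u L U p V z w y) (hρ : ρ ∈ inL u L U)
    (hn : ρ ∈ normalizer (V : Set G)) {z' w' : G} (hz : ρ * z * ρ⁻¹ = z') (hw : ρ * w * ρ⁻¹ = w') :
    Shear u L U p V z' w' (ρ * y * ρ⁻¹) := by
  have hzw : ρ * (z * w) * ρ⁻¹ = z' * w' := by rw [← hz, ← hw]; group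
  have hback : ∀ e ∈ V, ρ⁻¹ * e * ρ ∈ V := fun e he => by simpa using cj_mem (inv_mem hn) he
  have hcomm : ∀ {e v v' : G}, ρ * v * ρ⁻¹ = v' → Commute e v' → Commute (ρ⁻¹ * e * ρ) v := by
    intro e v v' hv hc
    have := commute_conj (g := ρ⁻¹) hc
    rw [← hv] at this
    simpa [mul_assoc] using this
  have hconj : ∀ {e v : G}, Commute v (ρ⁻¹ * e * ρ) → Commute (ρ * v * ρ⁻¹) e := fun {e v} hc => by
    have := commute_conj (g := ρ) hc
    simpa [mul_assoc] using this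
  refine ⟨mul_mem (mul_mem hρ hy.mem) (inv_mem hρ), ?_, hz ▸ commute_conj hy.comm, ?_, ?_,
    fun e he hc => hconj (hy.fix _ (hback e he) (hcomm hz hc)),
    fun e he hc => hconj (hy.fix' _ (hback e he) (hcomm hw hc)), fun e he hc => ?_, fun e he hc he1 hh => ?_⟩
  · rw [show ρ * y * ρ⁻¹ = MulAut.conj ρ y from rfl, ← map_pow, hy.pow, map_one]
  · rw [← hw, show ρ * w * ρ⁻¹ * (ρ * y * ρ⁻¹) * (ρ * w * ρ⁻¹)⁻¹ = ρ * (w * y * w⁻¹) * ρ⁻¹ by group, hy.inv]
    group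
  · rw [← hzw, show ρ * (z * w) * ρ⁻¹ * (ρ * y * ρ⁻¹) * (ρ * (z * w) * ρ⁻¹)⁻¹ = ρ * (z * w * y * (z * w)⁻¹) * ρ⁻¹
      by group, hy.inv']
    group
  · have := commute_conj (g := ρ) (hy.shift _ (hback e he) (hcomm hzw hc))
    rw [hw] at this
    rwa [show ρ * (y * (ρ⁻¹ * e * ρ) * y⁻¹ * (ρ⁻¹ * e * ρ)⁻¹) * ρ⁻¹ = ρ * y * ρ⁻¹ * e * (ρ * y * ρ⁻¹)⁻¹ * e⁻¹
      by group] at this
  · refine hy.move _ (hback e he) (hcomm hzw hc) (fun h1 => he1 ?_) ?_
    · have := congrArg (fun q => ρ * q * ρ⁻¹) h1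
      simpa [mul_assoc] using this
    · have := congrArg (fun q => ρ⁻¹ * q * ρ) hh
      simpa [mul_assoc] using this

variable (F : C.Fixed) (h : C.Split u L U)
include F h

/-- **split elements have trivial cores** -/
theorem Fixed.Oc_split : Oc u = ⊥ := by
  by_contra hne
  obtain ⟨p, V, hp, hVle, hVne, hVc, hVe, hVn⟩ :=
    exists_elementary (Cfsg.Agent.PF.isSolvable_of_odd _ (odd_Oc u)) hne
  have hV : Lines u p V := ⟨hp, hVle, hVne, hVc, hVe, fun g hg => hVn (Oc_normalized hg)⟩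
  obtain ⟨z, hz, hz1⟩ := C.exists_Z_ne_one
  obtain ⟨y, hy, hyp, hy1, hyz, hyinv, hyline⟩ := F.exists_torus h hV hz hz1
  obtain ⟨w, hw, hw1, hne', hyw, hshift⟩ := F.shear h hV hz hz1 hy hyp hy1 hyz hyinv hyline
  set w' := z * w
  have hzA := C.Z_le_A hz
  have hwA := C.Z_le_A hw
  have hw' : w' ∈ C.Z := mul_mem hz hw
  have hw'1 : w' ≠ 1 := fun e => hne' (mul_left_cancel (e.trans (C.A_sq hzA).symm)).symm
  have hzw' : z ≠ w' := fun e => hw1 (by simpa [w'] using e)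
  have hww' : w ≠ w' := fun e => hz1 (by simpa [w'] using e)
  -- a rotation with `z ↦ w ↦ w' ↦ z`
  obtain ⟨r, hrA, hru, hrL, hrU, hrZ⟩ := h.rot
  have hr0 : r ∈ inL u L U := mem_inL.2 ⟨⟨hru, hrL⟩,
    mem_centralizer_iff.2 fun v hv => (mul_inv_eq_iff_eq_mul.1 (hrU v hv)).symm⟩
  obtain ⟨ρ, hρ, hρA, hρZ, hρz⟩ : ∃ ρ ∈ inL u L U, ρ ∈ normalizer (C.A : Set G) ∧
      (∀ v ∈ C.Z, ρ * v * ρ⁻¹ = v → v = 1) ∧ ρ * z * ρ⁻¹ = w := by
    by_cases e : r * z * r⁻¹ = w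
    · exact ⟨r, hr0, hrA, hrZ, e⟩
    have hrw' : r * z * r⁻¹ = w' := C.Z_fourth hz hw (C.conj_mem_Z F.hA hrA hz) hz1 hw1 hne'
      (fun e => hz1 (conj_eq_one_iff.1 e)) (fun e => hz1 (hrZ z hz e)) e
    have h2 := F.rot_cycle h hrZ hrA hz hz1
    rw [hrw'] at h2
    refine ⟨r⁻¹, inv_mem hr0, inv_mem hrA, fun v hv hh => hrZ v hv ?_, ?_⟩
    · rw [inv_inv] at hh
      nth_rewrite 1 [← hh]
      group
    · have h3 : r * w * r⁻¹ = z := by
        have e1 : r * w' * r⁻¹ = w := by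
          rw [h2, ← mul_assoc, C.A_sq hzA, one_mul]
        calc r * w * r⁻¹ = r * (z * w') * r⁻¹ := by
              rw [show z * w' = w from (mul_assoc z z w).symm.trans (by rw [C.A_sq hzA, one_mul])]
          _ = (r * z * r⁻¹) * (r * w' * r⁻¹) := by group
          _ = z := by rw [hrw', e1, mul_assoc z w w, C.A_sq hwA, mul_one]
      rw [← h3]; group
  have hρw : ρ * w * ρ⁻¹ = w' := by rw [← hρz]; rw [F.rot_cycle h hρZ hρA hz hz1, hρz]
  have hρw' : ρ * w' * ρ⁻¹ = z := by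
    rw [show ρ * (z * w) * ρ⁻¹ = (ρ * z * ρ⁻¹) * (ρ * w * ρ⁻¹) by group, hρz, hρw]
    show w * (z * w) = z
    rw [← mul_assoc, (C.A_comm hwA hzA).eq, mul_assoc, C.A_sq hwA, mul_one]
  have hρn := hV.norm (inL_le_cent hρ)
  have h1 : Shear u L U p V z w y := ⟨hy, hyp, hyz, hyinv w hw hw1 hne', hyinv w' hw' hw'1 hzw', hyline, hyw,
    fun e he hc => (hshift e he hc).1, fun e he hc he1 => (hshift e he hc).2 he1⟩
  have h2 := h1.conj hρ hρn hρz hρw
  have h3 := h2.conj hρ hρn hρw hρw'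
  set x2 := ρ * y * ρ⁻¹
  set x3 := ρ * x2 * ρ⁻¹
  have e2 : w * w' = z := by
    show w * (z * w) = z
    rw [← mul_assoc, (C.A_comm hwA hzA).eq, mul_assoc, C.A_sq hwA, mul_one]
  have e3 : w' * z = w := by
    show z * w * z = w
    rw [(C.A_comm hzA hwA).eq, mul_assoc, C.A_sq hzA, mul_one]
  have hVn' : ∀ {g}, g ∈ inL u L U → ∀ {x}, x ∈ V → g * x * g⁻¹ ∈ V := fun {g} hg {x} hx =>
    cj_mem (hV.norm (inL_le_cent hg)) hx
  set c := y * x2 * y⁻¹ * x2⁻¹ with hcd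
  have hc : c ∈ inL u L U := mul_mem (mul_mem (mul_mem hy h2.mem) (inv_mem hy)) (inv_mem h2.mem)
  -- the commutator fixes the lines at `w` and `w'`
  have hcw : ∀ e ∈ V, Commute e w → Commute c e := fun e he hc' =>
    (((hyw e he hc').mul_left (h2.fix e he hc')).mul_left (hyw e he hc').inv_left).mul_left
      (h2.fix e he hc').inv_left
  have hcw' : ∀ e ∈ V, Commute e w' → Commute c e := by
    intro e he hc'
    set d := y * e * y⁻¹ * e⁻¹
    have hdV : d ∈ V := mul_mem (hVn' hy he) (inv_mem he)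
    have hd : y * e * y⁻¹ = d * e := by simp [d]
    have hd2 : Commute x2 d := h2.fix d hdV (h1.shift e he hc')
    have hyd : Commute y d := hyw d hdV (h1.shift e he hc')
    have hye : y⁻¹ * e * y = d⁻¹ * e := by
      calc y⁻¹ * e * y = y⁻¹ * (d⁻¹ * (d * e)) * y := by rw [inv_mul_cancel_left]
        _ = (y⁻¹ * d⁻¹ * y) * (y⁻¹ * (y * e * y⁻¹) * y) := by rw [hd]; group
        _ = d⁻¹ * e := by rw [(hyd.inv_inv).eq, inv_mul_cancel_right]; group
    have hx2e : x2⁻¹ * e * x2 = e := by rw [((h2.fix' e he hc').inv_left).eq, inv_mul_cancel_right]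
    refine mul_inv_eq_iff_eq_mul.1 ?_
    calc c * e * c⁻¹ = y * (x2 * (y⁻¹ * (x2⁻¹ * e * x2) * y) * x2⁻¹) * y⁻¹ := by rw [hcd]; group
      _ = y * (x2 * (d⁻¹ * e) * x2⁻¹) * y⁻¹ := by rw [hx2e, hye]
      _ = y * (d⁻¹ * e) * y⁻¹ := by
        rw [((hd2.inv_right).mul_right (h2.fix' e he hc')).eq, mul_inv_cancel_right]
      _ = e := by
        rw [show y * (d⁻¹ * e) * y⁻¹ = (y * d⁻¹ * y⁻¹) * (y * e * y⁻¹) by group, hd, (hyd.inv_right).eq,
          mul_inv_cancel_right, inv_mul_cancel_left]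
  -- and moves the line at `z` into the line at `w`
  have hcz : ∀ e ∈ V, Commute e z →
      Commute (c * e * c⁻¹ * e⁻¹) w ∧ (e ≠ 1 → c * e * c⁻¹ * e⁻¹ ≠ 1) := by
    intro e he hez
    set f := x2 * e * x2⁻¹ * e⁻¹ with hfd
    have hfV : f ∈ V := mul_mem (hVn' h2.mem he) (inv_mem he)
    have hfw : Commute f w' := h2.shift e he (e2.symm ▸ hez)
    set g := y * f * y⁻¹ * f⁻¹ with hgd
    have hgV : g ∈ V := mul_mem (hVn' hy hfV) (inv_mem hfV)
    have hgw : Commute g w := h1.shift f hfV hfw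
    have hye : Commute y e := hyline e he hez
    have h2g : Commute x2 g := h2.fix g hgV hgw
    have hyg : Commute y g := hyw g hgV hgw
    have h2f : Commute x2 f := h2.fix' f hfV hfw
    have a1 : x2⁻¹ * e * x2 = f⁻¹ * e := by
      have : x2 * e * x2⁻¹ = f * e := by simp [f]
      calc x2⁻¹ * e * x2 = x2⁻¹ * (f⁻¹ * (f * e)) * x2 := by rw [inv_mul_cancel_left]
        _ = (x2⁻¹ * f⁻¹ * x2) * (x2⁻¹ * (x2 * e * x2⁻¹) * x2) := by rw [this]; group
        _ = f⁻¹ * e := by rw [(h2f.inv_inv).eq, inv_mul_cancel_right]; group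
    have a2 : y⁻¹ * f * y = g⁻¹ * f := by
      have : y * f * y⁻¹ = g * f := by simp [g]
      calc y⁻¹ * f * y = y⁻¹ * (g⁻¹ * (g * f)) * y := by rw [inv_mul_cancel_left]
        _ = (y⁻¹ * g⁻¹ * y) * (y⁻¹ * (y * f * y⁻¹) * y) := by rw [this]; group
        _ = g⁻¹ * f := by rw [(hyg.inv_inv).eq, inv_mul_cancel_right]; group
    have hval : c * e * c⁻¹ = g * e := by
      calc c * e * c⁻¹ = y * (x2 * (y⁻¹ * (x2⁻¹ * e * x2) * y) * x2⁻¹) * y⁻¹ := by rw [hcd]; group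
        _ = y * (x2 * ((y⁻¹ * f * y)⁻¹ * (y⁻¹ * e * y)) * x2⁻¹) * y⁻¹ := by rw [a1]; group
        _ = y * ((x2 * f⁻¹ * x2⁻¹) * (x2 * g * x2⁻¹) * (x2 * e * x2⁻¹)) * y⁻¹ := by
          rw [a2, (hye.inv_left).eq, inv_mul_cancel_right]; group
        _ = y * (f⁻¹ * g * (f * e)) * y⁻¹ := by
          rw [(h2f.inv_right).eq, mul_inv_cancel_right, h2g.eq, mul_inv_cancel_right,
            show x2 * e * x2⁻¹ = f * e by simp [f]]
        _ = y * (g * e) * y⁻¹ := by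
          rw [(hVc _ (inv_mem hfV) _ hgV).eq]; group
        _ = g * e := by rw [(hyg.mul_right hye).eq, mul_inv_cancel_right]
    rw [hval, mul_inv_cancel_right]
    refine ⟨hgw, fun he1 hg1 => ?_⟩
    have hf1 : f ≠ 1 := fun hh => h2.move e he (e2.symm ▸ hez) he1 (mul_inv_eq_one.1 hh)
    exact h1.move f hfV hfw hf1 (mul_inv_eq_one.1 hg1)
  -- the commutator is an element of the torus at `w'`, inverted by `z`
  have hsplit : ∀ g ∈ inL u L U, (∀ e ∈ V, Commute e z → Commute g e) → (∀ e ∈ V, Commute e w → Commute g e) →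
      (∀ e ∈ V, Commute e w' → Commute g e) → g = 1 := fun g hg a1 a2 a3 =>
    F.eq_one_of_fix h hV hg fun v hv hv1 q hq hqv => by
      rcases mem_four C.card_Z hz hw (C.A_sq hzA) hz1 hw1 hne' hv with rfl | rfl | rfl | rfl
      · exact absurd rfl hv1
      · exact a1 q hq hqv
      · exact a2 q hq hqv
      · exact a3 q hq hqv
  have hzL := F.Z_mem_inL h hz
  have hw'L := F.Z_mem_inL h hw'
  have hzc : z * c * z⁻¹ = c⁻¹ := by
    refine eq_inv_of_mul_eq_one_left ?_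
    have hn : z ∈ normalizer (V : Set G) := hV.norm (inL_le_cent hzL)
    refine hsplit _ (mul_mem (mul_mem (mul_mem hzL hc) (inv_mem hzL)) hc) (fun e he hez => ?_) (fun e he hew => ?_)
      (fun e he hew => ?_)
    · obtain ⟨hgw, -⟩ := hcz e he hez
      set g := c * e * c⁻¹ * e⁻¹
      have hgV : g ∈ V := mul_mem (hVn' hc he) (inv_mem he)
      have hval : c * e * c⁻¹ = g * e := by simp [g]
      have hzg : z * g * z⁻¹ = g⁻¹ := F.V_inverted h hV hw hw1 hz hz1 (Ne.symm hne') hgV hgw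
      refine mul_inv_eq_iff_eq_mul.1 ?_
      calc z * c * z⁻¹ * c * e * (z * c * z⁻¹ * c)⁻¹ = z * (c * (z⁻¹ * (c * e * c⁻¹) * z) * c⁻¹) * z⁻¹ := by group
        _ = z * (c * (g⁻¹ * e) * c⁻¹) * z⁻¹ := by
          rw [hval, inv_eq_of_mul_eq_one_right (C.A_sq hzA), show z * (g * e) * z = (z * g * z⁻¹) * (z * e * z) by group,
            hzg, hez.symm.eq, mul_assoc e z z, C.A_sq hzA, mul_one]
        _ = z * (g⁻¹ * (g * e)) * z⁻¹ := by
          rw [show c * (g⁻¹ * e) * c⁻¹ = (c * g⁻¹ * c⁻¹) * (c * e * c⁻¹) by group,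
            ((hcw g hgV hgw).inv_right).eq, mul_inv_cancel_right, hval]
        _ = e := by rw [inv_mul_cancel_left, hez.symm.eq, mul_inv_cancel_right]
    all_goals
      refine mul_inv_eq_iff_eq_mul.1 ?_
      rw [show z * c * z⁻¹ * c * e * (z * c * z⁻¹ * c)⁻¹ = z * (c * (z⁻¹ * (c * e * c⁻¹) * z) * c⁻¹) * z⁻¹ by group]
    · have hzi : z⁻¹ * e * z = e⁻¹ := by
        have := F.V_inverted h hV hw hw1 hz hz1 (Ne.symm hne') he hew
        rw [inv_eq_of_mul_eq_one_right (C.A_sq hzA)] at this ⊢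
        exact this
      rw [(hcw e he hew).eq, mul_inv_cancel_right, hzi, ((hcw e he hew).inv_right).eq, mul_inv_cancel_right,
        ← hzi]
      group
    · have hzi : z⁻¹ * e * z = e⁻¹ := by
        have := F.V_inverted h hV hw' hw'1 hz hz1 (Ne.symm hzw') he hew
        rw [inv_eq_of_mul_eq_one_right (C.A_sq hzA)] at this ⊢
        exact this
      rw [(hcw' e he hew).eq, mul_inv_cancel_right, hzi, ((hcw' e he hew).inv_right).eq, mul_inv_cancel_right,
        ← hzi]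
      group
  have hcomm : Commute c w' := by
    refine (mul_inv_eq_iff_eq_mul.1 (mul_inv_eq_one.1 ?_)).symm
    refine hsplit _ (mul_mem (mul_mem (mul_mem hw'L hc) (inv_mem hw'L)) (inv_mem hc)) (fun e he hez => ?_)
      (fun e he hew => ?_) (fun e he hew => ?_)
    all_goals
      refine mul_inv_eq_iff_eq_mul.1 ?_
      rw [show w' * c * w'⁻¹ * c⁻¹ * e * (w' * c * w'⁻¹ * c⁻¹)⁻¹ =
        w' * (c * (w'⁻¹ * (c⁻¹ * e * c) * w') * c⁻¹) * w'⁻¹ by group]
    · obtain ⟨hgw, -⟩ := hcz e he hez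
      set g := c * e * c⁻¹ * e⁻¹
      have hgV : g ∈ V := mul_mem (hVn' hc he) (inv_mem he)
      have hval : c * e * c⁻¹ = g * e := by simp [g]
      have hgc : Commute c g := hcw g hgV hgw
      have hci : c⁻¹ * e * c = g⁻¹ * e := by
        calc c⁻¹ * e * c = c⁻¹ * (g⁻¹ * (g * e)) * c := by rw [inv_mul_cancel_left]
          _ = (c⁻¹ * g⁻¹ * c) * (c⁻¹ * (c * e * c⁻¹) * c) := by rw [hval]; group
          _ = g⁻¹ * e := by rw [(hgc.inv_inv).eq, inv_mul_cancel_right]; group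
      have hwi : ∀ {q}, q ∈ V → ∀ {v}, v ∈ C.Z → v ≠ 1 → v ≠ w' → Commute q v → w'⁻¹ * q * w' = q⁻¹ :=
        fun {q} hq {v} hv hv1 hvne hqv => by
          have := F.V_inverted h hV hv hv1 hw' hw'1 hvne hq hqv
          rw [inv_eq_of_mul_eq_one_right (C.A_sq (C.Z_le_A hw'))] at this ⊢
          exact this
      rw [hci, show w'⁻¹ * (g⁻¹ * e) * w' = (w'⁻¹ * g * w')⁻¹ * (w'⁻¹ * e * w') by group, hwi hgV hw hw1 hww' hgw,
        hwi he hz hz1 hzw' hez, inv_inv,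
        show c * (g * e⁻¹) * c⁻¹ = (c * g * c⁻¹) * (c * e * c⁻¹)⁻¹ by group, hgc.eq, mul_inv_cancel_right, hval,
        (hVc g hgV e he).eq, mul_inv_rev, mul_inv_cancel_left, ← hwi he hz hz1 hzw' hez]
      group
    · have hwi : w'⁻¹ * e * w' = e⁻¹ := by
        have := F.V_inverted h hV hw hw1 hw' hw'1 hww' he hew
        rw [inv_eq_of_mul_eq_one_right (C.A_sq (C.Z_le_A hw'))] at this ⊢
        exact this
      rw [((hcw e he hew).inv_left).eq, inv_mul_cancel_right, hwi, ((hcw e he hew).inv_right).eq, mul_inv_cancel_right,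
        ← hwi]
      group
    · rw [((hcw' e he hew).inv_left).eq, inv_mul_cancel_right, mul_assoc w'⁻¹ e w', hew.eq, inv_mul_cancel_left,
        (hcw' e he hew).eq, mul_inv_cancel_right, hew.symm.eq, mul_inv_cancel_right]
  -- the order of the commutator
  have hcp : c ^ p = 1 := by
    refine hsplit _ (pow_mem hc p) (fun e he hez => ?_) (fun e he hew => (hcw e he hew).pow_left p)
      (fun e he hew => (hcw' e he hew).pow_left p)
    obtain ⟨hgw, -⟩ := hcz e he hez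
    set g := c * e * c⁻¹ * e⁻¹
    have hgV : g ∈ V := mul_mem (hVn' hc he) (inv_mem he)
    have hit : ∀ n : ℕ, c ^ n * e * (c ^ n)⁻¹ = g ^ n * e := by
      intro n
      induction n with
      | zero => simp
      | succ n ih =>
        rw [pow_succ' c n, show c * c ^ n * e * (c * c ^ n)⁻¹ = c * (c ^ n * e * (c ^ n)⁻¹) * c⁻¹ by group, ih,
          show c * (g ^ n * e) * c⁻¹ = (c * g ^ n * c⁻¹) * (c * e * c⁻¹) by group,
          ((hcw g hgV hgw).pow_right n).eq, mul_inv_cancel_right, show c * e * c⁻¹ = g * e by simp [g],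
          ← mul_assoc (g ^ n) g e, ← pow_succ]
    refine mul_inv_eq_iff_eq_mul.1 ?_
    rw [hit p, hVe g hgV, one_mul]
  -- two elements of the torus at `w'`
  have hodd : ∀ {g : G}, g ^ p = 1 → Odd (orderOf g) := fun hg =>
    (F.odd_p h hV).of_dvd_nat (orderOf_dvd_of_pow_eq_one hg)
  have hz3 : z * x3 * z⁻¹ = x3⁻¹ := h3.inv
  obtain ⟨hcL, hct⟩ := h.tor_comm_mem hw' hw'1 hz (inL_le_cent hc) (hodd hcp) hcomm hzc
  obtain ⟨h3L, h3t⟩ := h.tor_comm_mem hw' hw'1 hz (inL_le_cent h3.mem) (hodd h3.pow) h3.comm hz3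
  obtain ⟨F', _, _, -, K⟩ := Cfsg.Lib.Walter.exists_top h.psl
  have hwo : orderOf (⟨_, h.Z_mem w' hw' (C.A_le_cent h.a_mem (C.Z_le_A hw'))⟩ : L) = 2 := by
    refine orderOf_involution (Subtype.ext ?_) fun e => hw'1 (C.qm_eq_one h.a_mem (C.Z_le_A hw') (congrArg Subtype.val e))
    show qk u _ * qk u _ = 1
    rw [← map_mul]
    exact (congrArg (qk u) (Subtype.ext (C.A_sq (C.Z_le_A hw')))).trans (map_one _)
  obtain ⟨τ, hτ, -⟩ := K.exists_gen hwo
  have hcc : Commute c x3 := by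
    obtain ⟨i, hi⟩ := mem_zpowers_iff.1 (hτ ▸ hct)
    obtain ⟨j, hj⟩ := mem_zpowers_iff.1 (hτ ▸ h3t)
    have hq : Commute (qk u ⟨c, inL_le_cent hc⟩) (qk u ⟨x3, inL_le_cent h3.mem⟩) := by
      have := ((Commute.refl τ).zpow_zpow i j).map L.subtype
      rwa [hi, hj] at this
    have h0 : c * x3 * c⁻¹ * x3⁻¹ ∈ Oc u := mem_Oc.2 ⟨mul_mem (mul_mem (mul_mem (inL_le_cent hc) (inL_le_cent h3.mem))
      (inv_mem (inL_le_cent hc))) (inv_mem (inL_le_cent h3.mem)), by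
        rw [show (⟨c * x3 * c⁻¹ * x3⁻¹, _⟩ : centralizer ({u} : Set G)) =
          ⟨c, inL_le_cent hc⟩ * ⟨x3, inL_le_cent h3.mem⟩ * ⟨c, inL_le_cent hc⟩⁻¹ * ⟨x3, inL_le_cent h3.mem⟩⁻¹ from rfl,
          map_mul, map_mul, map_mul, map_inv, map_inv, hq.eq, mul_inv_cancel_right, mul_inv_cancel]⟩
    have h1 : c * x3 * c⁻¹ * x3⁻¹ ∈ Oc u ⊓ centralizer (U : Set G) := mem_inf.2 ⟨h0,
      mul_mem (mul_mem (mul_mem hc.2 h3.mem.2) (inv_mem hc.2)) (inv_mem h3.mem.2)⟩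
    rw [F.Oc_cent_U h, mem_bot] at h1
    exact mul_inv_eq_iff_eq_mul.1 (mul_inv_eq_one.1 h1)
  obtain ⟨e, he, hew, he1⟩ := F.exists_line h hV hw hw1
  set d := x3 * e * x3⁻¹ * e⁻¹
  have hdV : d ∈ V := mul_mem (hVn' h3.mem he) (inv_mem he)
  have hdz : Commute d z := h3.shift e he (e3.symm ▸ hew)
  have hd1 : d ≠ 1 := fun hh => h3.move e he (e3.symm ▸ hew) he1 (mul_inv_eq_one.1 hh)
  refine (hcz d hdV hdz).2 hd1 ?_
  have hce : c * e * c⁻¹ = e := by rw [(hcw e he hew).eq, mul_inv_cancel_right]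
  have : c * d * c⁻¹ = d := by
    simp only [d]
    rw [show c * (x3 * e * x3⁻¹ * e⁻¹) * c⁻¹ =
      (c * x3) * e * (c * x3)⁻¹ * (c * e * c⁻¹)⁻¹ by group, hcc.eq,
      show x3 * c * e * (x3 * c)⁻¹ = x3 * (c * e * c⁻¹) * x3⁻¹ by group, hce]
  rw [this, mul_inv_cancel]

end Cfsg.Lib.LFourType.Coord
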