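import Cfsg.Agent.LFourType.CaseTwoA
import Cfsg.Agent.LFourType.Spec
import Cfsg.Agent.LFourType.TorusFalse

/-!
If the side `B` is not moved and the group has no odd core, the side `A` is normal.
-/

set_option autoImplicit false
set_option linter.unusedSectionVars false
set_option linter.style.haveILetI false
set_option maxHeartbeats 400000

namespace Cfsg.Lib.LFourType

open Subgroup
open Cfsg.Lib.Walter (Qt bar Oc)

universe u

namespace Coord

variable {G : Type u} [Group G] [Finite G] {C : Coord G} (F : C.Fixed)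
include F

theorem Fixed.Oc_inf_le_FA {z : G} (hz : z ∈ C.Z) (hz1 : z ≠ 1) {H : Subgroup G} (hH : H ≤ C.A)
    (h8 : 8 ≤ Nat.card H) : Oc z ⊓ centralizer (H : Set G) ≤ C.FA := by
  haveI : Fact (Nat.Prime 2) := ⟨Nat.prime_two⟩
  set X := Oc z ⊓ centralizer (H : Set G)
  have ho : Odd (Nat.card X) := (odd_Oc z).of_dvd_nat (card_dvd_of_le inf_le_left)
  have hn : C.A ≤ normalizer (X : Set G) := fun y hy =>
    mem_normalizer_inf (C.A_le_normalizer_Oc (C.Z_le_A hz) hy) (C.A_le_normalizer_cent' hH hy)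
  by_cases hZH : C.Z ≤ H
  · exact F.le_FA_of_cent_Z (inf_le_right.trans (centralizer_le hZH)) ho hn
  -- `H` is a hyperplane
  have hgen : ∀ {w}, w ∈ C.A → w ∉ H → H ⊔ zpowers w = C.A := fun {w} hw hwH => by
    refine eq_of_le_of_card_ge (sup_le hH (zpowers_le.2 hw)) ?_
    have hlt : Nat.card H < Nat.card (H ⊔ zpowers w : Subgroup G) := lt_of_le_of_ne (card_le_of_le le_sup_left)
      fun e => hwH ((eq_of_le_of_card_ge (le_sup_left : H ≤ H ⊔ zpowers w) e.ge).ge (mem_sup_right (mem_zpowers w)))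
    have hd := card_dvd_of_le (sup_le hH (zpowers_le.2 hw))
    rw [C.card_A] at hd ⊢
    have := Nat.le_of_dvd (by norm_num) hd
    interval_cases hc : Nat.card (H ⊔ zpowers w : Subgroup G) <;> omega
  have hfin : ∀ {x w : G}, x ∈ X → w ∈ C.A → w ∉ H → Commute w x → x ∈ C.FA := by
    intro x w hx hw hwH hc
    have hA' : C.A ≤ centralizer ({x} : Set G) := hgen hw hwH ▸ sup_le
      (fun q hq => mem_centralizer_singleton_iff.2 (mem_centralizer_iff.1 (mem_inf.1 hx).2 q hq))
      (zpowers_le.2 (mem_centralizer_singleton_iff.2 hc.eq))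
    exact C.mem_FA_of_odd (mem_centralizer_iff.2 fun a ha => mem_centralizer_singleton_iff.1 (hA' ha))
      (odd_orderOf ho hx)
  by_cases hzH : z ∈ H
  swap
  · exact fun x hx => hfin hx (C.Z_le_A hz) hzH
      ((show Commute x z from mem_centralizer_singleton_iff.1 (Oc_le z (mem_inf.1 hx).1)).symm)
  by_cases ht : ∀ y ∈ H, y ≠ 1 → C.Triv y X
  · exact (C.le_Dl_sup hH inf_le_right ho hn ht).trans
      (sup_le (inf_le_right.trans ((C.Dl_le_FA F.hA F.hO F.hB).1 H hH (by omega))) inf_le_right)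
  push Not at ht
  obtain ⟨u, huH, hu1, hnt⟩ := ht
  have hu := hH huH
  have hXu : X ≤ centralizer ({u} : Set G) := inf_le_right.trans (centralizer_le (Set.singleton_subset_iff.2 huH))
  have huZ : u ∉ C.Z := fun hh => hnt (C.triv_Z hh hu1 hXu ho hn)
  obtain ⟨L, U, h, hUH⟩ := C.split_of_not_triv F.hA hu huZ hXu ho hn hH h8
    (fun x hx y hy => mem_centralizer_iff.1 (mem_inf.1 hx).2 y hy) hnt
  have hOu := F.Oc_split h
  obtain ⟨b, hb, eb⟩ := C.exists_comm_eq hz hu huZ
  have hbS := C.B_le hb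
  have hbz : ∀ w ∈ C.Z, b * w * b⁻¹ = w := fun w hw => by
    rw [(C.Z_central hw hbS).symm.eq, mul_inv_cancel_right]
  have hbA := C.S_le_normalizer_A hbS
  set X' := conjS b X
  set H' := conjS b H
  have hH'A : H' ≤ C.A := by rintro _ ⟨q, hq, rfl⟩; exact cj_mem hbA (hH hq)
  have huH' : u ∈ H' := by
    have := conj_mem_conjS (g := b) (mul_mem huH hzH)
    rwa [show b * (u * z) * b⁻¹ = (b * u * b⁻¹) * (b * z * b⁻¹) by group, eb, hbz z hz, mul_assoc u z z,
      C.A_sq (C.Z_le_A hz), mul_one] at this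
  have hX'c : ∀ x ∈ X', ∀ q ∈ H', Commute q x := by
    rintro _ ⟨x, hx, rfl⟩ _ ⟨q, hq, rfl⟩
    exact (show Commute q x from mem_centralizer_iff.1 (mem_inf.1 hx).2 q hq).map (MulAut.conj b).toMonoidHom
  have hX'u : X' ≤ centralizer ({u} : Set G) := fun x hx =>
    mem_centralizer_singleton_iff.2 (hX'c x hx u huH').symm.eq
  have hX'o : Odd (Nat.card X') := by rw [card_conjS]; exact ho
  have hX'n : C.A ≤ normalizer (X' : Set G) := fun y hy => ZStarApps.mem_normalizer_of_maps fun x hx => by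
    have h1 : b⁻¹ * y * b⁻¹⁻¹ ∈ C.A := cj_mem (inv_mem hbA) hy
    have := cj_mem (hn h1) (mem_conjS.1 hx)
    refine mem_conjS.2 ?_
    rwa [show b⁻¹ * y * b⁻¹⁻¹ * (b⁻¹ * x * b) * (b⁻¹ * y * b⁻¹⁻¹)⁻¹ = b⁻¹ * (y * x * y⁻¹) * b by group] at this
  have htriv : C.Triv u X' := by
    by_contra hnt'
    obtain ⟨L', U', h', hU'H⟩ := C.split_of_not_triv F.hA hu huZ hX'u hX'o hX'n hH'A (by rw [card_conjS]; exact h8)
      (fun x hx y hy => (hX'c x hx y hy).eq) hnt'
    have hUU := h.eq_of_mem h' h.mem_self F.hA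
    obtain ⟨e, he, he1, hne⟩ : ∃ e ∈ U, e ≠ 1 ∧ u ≠ e := by
      by_contra hc
      push Not at hc
      have hle : U ≤ zpowers u := fun v hv => by
        by_cases hv1 : v = 1
        · exact hv1 ▸ one_mem _
        · exact hc v hv hv1 ▸ mem_zpowers u
      have := card_le_of_le hle
      rw [h.card, Nat.card_zpowers, orderOf_involution (C.A_sq hu) hu1] at this
      omega
    have heA := h.U_le he
    obtain ⟨w, hw, ew⟩ := C.commutator_mem_Z hbS (C.A_le heA)
    have hbe : b * e * b⁻¹ = e * w := by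
      rw [ew, mul_inv_eq_iff_eq_mul, mul_assoc e b w, (C.Z_central hw hbS).symm.eq, ← mul_assoc]
    have hbA' : b ∉ C.A := fun hbA => by
      have : u * z = u := by rw [← eb, (C.A_comm hbA hu).eq, mul_inv_cancel_right]
      exact hz1 (by simpa using this)
    have hw1 : w ≠ 1 := fun e1 => by
      rw [e1, mul_one] at hbe
      exact hbA' (C.mem_A_of_commute heA (fun hh => he1 (h.U_Z e he hh)) hbS (mul_inv_eq_iff_eq_mul.1 hbe).symm)
    have hzw : z ≠ w := fun e1 => by
      have h1 : b * (u * e) * b⁻¹ = u * e := by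
        rw [show b * (u * e) * b⁻¹ = (b * u * b⁻¹) * (b * e * b⁻¹) by group, eb, hbe, ← e1,
          show u * z * (e * z) = u * (z * e) * z by group, (C.A_comm (C.Z_le_A hz) heA).eq,
          show u * (e * z) * z = u * e * (z * z) by group, C.A_sq (C.Z_le_A hz), mul_one]
      exact hbA' (C.mem_A_of_commute (mul_mem hu heA)
        (fun hh => hne ((mul_eq_one_iff_eq_inv.1 (h.U_Z _ (mul_mem h.mem_self he) hh)).trans
          (inv_eq_of_mul_eq_one_right (C.A_sq heA)))) hbS (mul_inv_eq_iff_eq_mul.1 h1).symm)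
    -- the commutator would lie in the hyperplane
    have h1 := mem_conjS.1 (hU'H (hUU.symm ▸ he : e ∈ U'))
    have h2 : b⁻¹ * e * b = e * w := by
      rw [show b⁻¹ * e * b = b⁻¹ * (e * w * w⁻¹) * b by group, ← hbe,
        show b⁻¹ * (b * e * b⁻¹ * w⁻¹) * b = e * (b⁻¹ * w⁻¹ * b) by group,
        inv_eq_of_mul_eq_one_right (C.A_sq (C.Z_le_A hw)), mul_assoc b⁻¹ w b, (C.Z_central hw hbS).eq,
        inv_mul_cancel_left]
      exact hbe.symm
    rw [h2] at h1
    have hwH : w ∈ H := by simpa using mul_mem (inv_mem (hUH he)) h1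
    refine hZH fun v hv => ?_
    rcases mem_four C.card_Z hz hw (C.A_sq (C.Z_le_A hz)) hz1 hw1 hzw hv with rfl | rfl | rfl | rfl
    · exact one_mem _
    · exact hzH
    · exact hwH
    · exact mul_mem hzH hwH
  intro x hx
  obtain ⟨w, hw, hwH⟩ := SetLike.not_le_iff_exists.1 hZH
  have h1 := htriv _ (conj_mem_conjS (g := b) hx) w (C.Z_le_A hw)
  rw [hOu, mem_bot, inv_mul_eq_one] at h1
  refine hfin hx (C.Z_le_A hw) hwH (mul_inv_eq_iff_eq_mul.1 ?_)
  have := congrArg (fun q => b⁻¹ * q * b) h1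
  rw [show w * (b * x * b⁻¹) * w⁻¹ = (w * b) * x * (w * b)⁻¹ by group, (C.Z_central hw hbS).eq] at this
  simpa [mul_assoc] using this.symm

theorem Fixed.A_normal : C.A.Normal := by
  haveI : Fact (Nat.Prime 2) := ⟨Nat.prime_two⟩
  have hOcFA : ∀ z ∈ C.Z, z ≠ 1 → Oc z ≤ C.FA := fun z hz hz1 =>
    le_of_four (E := C.A) (by rw [C.card_A]; norm_num) (fun p hp q hq => C.A_comm hp hq) (fun p hp => C.A_sq hp)
      (odd_Oc z) (C.A_le_normalizer_Oc (C.Z_le_A hz)) fun H hH h8 =>
        F.Oc_inf_le_FA hz hz1 hH (by rw [C.card_A] at h8; omega)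
  have htop : ∀ M : Subgroup G, normalizer ((C.S : Subgroup G) : Set G) ≤ M →
      (∀ z ∈ C.Z, z ≠ 1 → Oc z ≤ M) → M = ⊤ := fun M hN hO => by
    have hZ : ∀ z ∈ C.Z, z ≠ 1 → centralizer ({z} : Set G) ≤ M := fun z hz hz1 => C.cent_Z_le hz hz1 (hO z hz hz1) hN
    have hNA := C.normalizer_le_of_cent F.hA hN hZ
    exact C.eq_top_of_contains F.hA F.hB M hN hNA (C.normalizer_B_le_of_cent F.hB hN hZ) hZ
      (fun a ha haZ => (relIndex_le_five (C := C) F.hA ha haZ hNA hZ).1)
      (fun b hb hbZ => by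
        obtain ⟨hb', hbZ'⟩ := C.mem_A_not_Z_swap hb hbZ
        exact (relIndex_le_five (C := C.swap) F.hB hb' hbZ'
          (by rw [C.swap_A]; exact C.normalizer_B_le_of_cent F.hB hN hZ) (by rwa [C.swap_Z])).1)
  haveI : C.FA.Normal := normalizer_eq_top_iff.1 (htop _ (C.normalizer_S_le.trans C.FA_normalized)
    fun z hz hz1 => (hOcFA z hz hz1).trans le_normalizer)
  have hFA : C.FA = ⊥ := le_bot_iff.1 (F.hO ▸ Cfsg.Lib.AltEightType.le_oddCore C.odd_FA)
  refine normalizer_eq_top_iff.1 (top_le_iff.1 ?_)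
  rw [← htop _ le_rfl fun z hz hz1 => (hOcFA z hz hz1).trans (by rw [hFA]; exact bot_le)]
  exact C.normalizer_S_le

end Coord

/-- **the case of an unmoved side `B`** -/
theorem caseTwoProp : CaseTwoProp.{u} := by
  intro G _ _ C hO hB
  by_cases hA : C.Moved
  · exact C.A_normal_moved hO hA hB
  · exact Coord.Fixed.A_normal ⟨hA, hB, hO⟩

end Cfsg.Lib.LFourType
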