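import Cfsg.Agent.LFourType.Local

/-!
The centralizers of the central involutions act trivially on the sides; fixed points of the sides lie in their
cores; a moved side is fused into the centre.
-/

set_option autoImplicit false
set_option linter.unusedSectionVars false
set_option linter.style.haveILetI false

namespace Cfsg.Lib.LFourType

open Subgroup Coord
open Cfsg.Lib.Walter (Qt Oc)
open Cfsg.Lib.AltEightType (odd_sup eq_one_of_odd_two)

universe u

variable {G : Type u} [Group G] [Finite G]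

theorem Oc_normalized {a g : G} (hg : g ∈ centralizer ({a} : Set G)) : g ∈ normalizer (Oc a : Set G) :=
  Cfsg.Lib.Components.centralizer_le_normalizer_centralizerPPrimeCore a hg

theorem le_Oc {a : G} {U : Subgroup G} (hU : U ≤ centralizer ({a} : Set G))
    (hn : centralizer ({a} : Set G) ≤ normalizer (U : Set G)) (ho : Odd (Nat.card U)) : U ≤ Oc a :=
  Cfsg.Lib.Components.le_centralizerPPrimeCore hU hn (Nat.coprime_two_right.2 ho)

theorem conj_Oc (g a : G) {x : G} (hx : x ∈ Oc a) : g * x * g⁻¹ ∈ Oc (g * a * g⁻¹) := by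
  have hle : conjS g (Oc a) ≤ centralizer ({g * a * g⁻¹} : Set G) := by
    rintro _ ⟨y, hy, rfl⟩
    exact mem_centralizer_singleton_iff.2
      (commute_conj (g := g) (show Commute y a from mem_centralizer_singleton_iff.1 (Oc_le a hy))).eq
  refine le_Oc hle (fun c hc => ZStarApps.mem_normalizer_of_maps ?_) ?_ (conj_mem_conjS hx)
  · rintro _ ⟨y, hy, rfl⟩
    refine mem_conjS.2 ?_
    show g⁻¹ * (c * (g * y * g⁻¹) * c⁻¹) * g ∈ Oc a
    rw [show g⁻¹ * (c * (g * y * g⁻¹) * c⁻¹) * g = g⁻¹ * c * g * y * (g⁻¹ * c * g)⁻¹ by group]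
    refine (mem_normalizer_iff.1 (Oc_normalized (mem_centralizer_singleton_iff.2 ?_)) y).1 hy
    have := (commute_conj (g := g⁻¹) (show Commute c (g * a * g⁻¹) from mem_centralizer_singleton_iff.1 hc)).eq
    rwa [inv_inv, show g⁻¹ * (g * a * g⁻¹) * g = a by group] at this
  · rw [card_conjS]; exact odd_Oc a

theorem sq_mem_imp {D : Subgroup G} {x : G} (ho : Odd (orderOf x)) (h : x * x ∈ D) : x ∈ D := by
  obtain ⟨k, hk⟩ := ho
  have : (x * x) ^ (k + 1) = x := by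
    rw [← pow_two, ← pow_mul, show 2 * (k + 1) = orderOf x + 1 by omega, pow_succ, pow_orderOf_eq_one, one_mul]
  exact this ▸ pow_mem h _

theorem odd_orderOf {D : Subgroup G} (hD : Odd (Nat.card D)) {x : G} (hx : x ∈ D) : Odd (orderOf x) :=
  hD.of_dvd_nat (Nat.card_zpowers x ▸ card_dvd_of_le (zpowers_le.2 hx))

/-- an odd subgroup acted on by a four-group of commuting involutions is generated by its fixed points -/
theorem le_of_four {E X M : Subgroup G} (h4 : 4 ≤ Nat.card E) (hc : ∀ a ∈ E, ∀ b ∈ E, Commute a b)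
    (hsq : ∀ a ∈ E, a * a = 1) (ho : Odd (Nat.card X)) (hn : E ≤ normalizer (X : Set G))
    (h : ∀ H ≤ E, Nat.card E ≤ 2 * Nat.card H → X ⊓ centralizer (H : Set G) ≤ M) : X ≤ M := by
  haveI : Fact (Nat.Prime 2) := ⟨Nat.prime_two⟩
  rw [Cfsg.Agent.S1324.result 2 E X ⟨⟨⟨fun x y => Subtype.ext (hc x x.2 y y.2).eq⟩⟩,
    fun x hx => by rw [pow_two]; exact hsq x hx⟩ (by simpa using h4)
    (fun h2 => (Nat.not_even_iff_odd.2 ho) (even_iff_two_dvd.2 h2)) hn]
  refine iSup_le fun ⟨H, hH, hr⟩ => h H hH ?_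
  rw [← Cfsg.Lib.KBal.card_mul_relIndex' hH, mul_comm 2]
  exact Nat.mul_le_mul_left _ hr

theorem exists_ne_one_of_card {H : Subgroup G} (h : 2 ≤ Nat.card H) : ∃ x ∈ H, x ≠ 1 := by
  rcases H.bot_or_exists_ne_one with e | e
  · rw [e, card_bot] at h; omega
  · exact e

/-- the involutions of a four-group suffice -/
theorem le_of_four' {E X M : Subgroup G} (h4 : 4 ≤ Nat.card E) (hc : ∀ a ∈ E, ∀ b ∈ E, Commute a b)
    (hsq : ∀ a ∈ E, a * a = 1) (ho : Odd (Nat.card X)) (hn : E ≤ normalizer (X : Set G))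
    (h : ∀ e ∈ E, e ≠ 1 → X ⊓ centralizer ({e} : Set G) ≤ M) : X ≤ M :=
  le_of_four h4 hc hsq ho hn fun H hH h2 => by
    obtain ⟨e, he, he1⟩ := exists_ne_one_of_card (H := H) (by omega)
    exact (inf_le_inf_left X (centralizer_le (Set.singleton_subset_iff.2 he))).trans (h e (hH he) he1)

namespace Coord

variable (C : Coord G)

theorem cent_Z {z : G} (hz : z ∈ C.Z) (hz1 : z ≠ 1) {g : G} (hg : g ∈ centralizer ({z} : Set G)) :
    ∃ o ∈ Oc z, ∃ m ∈ normalizer ((C.S : Subgroup G) : Set G), m ∈ centralizer ({z} : Set G) ∧ g = o * m :=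
  C.cent_Z_decomp hz hz1 hg

/-- what normalises the side and lies in the core of a central involution centralises the side -/
theorem cent_of_core {z o : G} (hz : z ∈ C.Z) (ho : o ∈ Oc z) (hn : o ∈ normalizer (C.A : Set G)) {a : G}
    (ha : a ∈ C.A) : o * a * o⁻¹ = a := by
  have haN := Oc_normalized (a := z) (C.A_le_cent (C.Z_le_A hz) ha)
  have h1 : o * a * o⁻¹ * a⁻¹ ∈ Oc z := by
    rw [show o * a * o⁻¹ * a⁻¹ = o * (a * o⁻¹ * a⁻¹) by group]
    exact mul_mem ho ((mem_normalizer_iff.1 haN _).1 (inv_mem ho))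
  exact mul_inv_eq_one.1 (eq_one_of_odd h1 (C.A_sq (mul_mem (cj_mem hn ha) (inv_mem ha))))

/-- **`O(C(A)) ≤ O(C(z))`** -/
theorem FA_le_Oc {z : G} (hz : z ∈ C.Z) (hz1 : z ≠ 1) : C.FA ≤ Oc z := by
  intro x hx
  have hxz : x ∈ centralizer ({z} : Set G) :=
    mem_centralizer_singleton_iff.2 (C.FA_commute hx (C.Z_le_A hz)).symm.eq
  obtain ⟨o, ho, m, hm, hmz, e⟩ := C.cent_Z hz hz1 hxz
  have hmA := C.normalizer_S_le hm
  have hFn : ∀ g ∈ C.FA, g ∈ normalizer (C.A : Set G) := fun g hg =>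
    ZStarApps.mem_normalizer_of_maps fun a ha => by
      rw [(C.FA_commute hg ha).symm.eq, mul_inv_cancel_right]; exact ha
  have hoA : o ∈ normalizer (C.A : Set G) := by
    rw [show o = x * m⁻¹ by rw [e, mul_inv_cancel_right]]
    exact mul_mem (hFn x hx) (inv_mem hmA)
  have hmc : m ∈ centralizer (C.A : Set G) := mem_centralizer_iff.2 fun a ha => by
    have h1 := C.cent_of_core hz ho hoA (cj_mem hmA ha)
    have h2 : x * a * x⁻¹ = a := by rw [(C.FA_commute hx ha).symm.eq, mul_inv_cancel_right]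
    rw [e, show o * m * a * (o * m)⁻¹ = o * (m * a * m⁻¹) * o⁻¹ by group, h1] at h2
    exact (mul_inv_eq_iff_eq_mul.1 h2).symm
  obtain ⟨a', ha', f, hf, rfl⟩ := C.cent_decomp hmc
  have hfS : f ∈ normalizer ((C.S : Subgroup G) : Set G) := by
    have := mul_mem (le_normalizer (inv_mem (C.A_le ha'))) hm
    rwa [inv_mul_cancel_left] at this
  have hfC : f ∈ centralizer ((C.S : Subgroup G) : Set G) := mem_centralizer_iff.2 fun s hs => by
    have h1 : f * s * f⁻¹ * s⁻¹ ∈ (C.S : Subgroup G) := mul_mem (cj_mem hfS hs) (inv_mem hs)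
    have h2 : f * s * f⁻¹ * s⁻¹ ∈ C.FA := by
      rw [show f * s * f⁻¹ * s⁻¹ = f * (s * f⁻¹ * s⁻¹) by group]
      exact mul_mem hf (C.conj_FA (C.S_le_normalizer_A hs) (inv_mem hf))
    obtain ⟨a0, ha0, ha0Z⟩ := C.exists_not_mem_Z_A
    have h3 := C.mem_A_of_commute ha0 ha0Z h1 (C.FA_commute h2 ha0)
    exact (mul_inv_eq_iff_eq_mul.1 (mul_inv_eq_one.1 (eq_one_of_odd_two C.odd_FA h2 (C.A_sq h3)))).symm
  set E := C.FA ⊓ centralizer ((C.S : Subgroup G) : Set G)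
  have hEz : E ≤ centralizer ({z} : Set G) := fun g hg =>
    mem_centralizer_singleton_iff.2 (mem_centralizer_iff.1 hg.2 z (C.Z_le hz)).symm
  have hEn : E ≤ normalizer (Oc z : Set G) := fun g hg => Oc_normalized (hEz hg)
  have hgen : centralizer ({z} : Set G) ≤ normalizer ((Oc z ⊔ E : Subgroup G) : Set G) := by
    intro g hg
    obtain ⟨o', ho', m', hm', hm'z, rfl⟩ := C.cent_Z hz hz1 hg
    refine mul_mem (le_normalizer (mem_sup_left ho')) (ZStarApps.mem_normalizer_of_maps fun y hy => ?_)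
    have hle : Oc z ⊔ E ≤ (Oc z ⊔ E).comap (MulAut.conj m').toMonoidHom := by
      refine sup_le (fun v hv => mem_sup_left ?_) (fun v hv => mem_sup_right ?_)
      · exact (mem_normalizer_iff.1 (Oc_normalized hm'z) v).1 hv
      · refine ⟨C.conj_FA (C.normalizer_S_le hm') hv.1, mem_centralizer_iff.2 fun s hs => ?_⟩
        have := (commute_conj (g := m') (show Commute (m'⁻¹ * s * m'⁻¹⁻¹) v from
          mem_centralizer_iff.1 hv.2 _ (cj_mem (inv_mem hm') hs))).eq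
        rwa [show m' * (m'⁻¹ * s * m'⁻¹⁻¹) * m'⁻¹ = s by group] at this
    exact hle hy
  have hfO : f ∈ Oc z := le_Oc (sup_le (Oc_le z) hEz) hgen
    (odd_sup (odd_Oc z) (C.odd_FA.of_dvd_nat (card_dvd_of_le inf_le_left)) hEn) (mem_sup_right ⟨hf, hfC⟩)
  have ha'D : a' ∈ Oc z ⊔ C.FA := by
    rw [show a' = o⁻¹ * x * f⁻¹ by rw [e]; group]
    exact mul_mem (mul_mem (mem_sup_left (inv_mem ho)) (mem_sup_right hx)) (mem_sup_right (inv_mem hf))
  have ha1 : a' = 1 := eq_one_of_odd_two (odd_sup (odd_Oc z) C.odd_FA fun g hg => Oc_normalized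
    (mem_centralizer_singleton_iff.2 (C.FA_commute hg (C.Z_le_A hz)).symm.eq)) ha'D (C.A_sq ha')
  rw [e, ha1, one_mul]
  exact mul_mem ho hfO

/-- **the sides act trivially at central involutions** -/
theorem triv_Z {z : G} (hz : z ∈ C.Z) (hz1 : z ≠ 1) {X : Subgroup G} (hXC : X ≤ centralizer ({z} : Set G))
    (ho : Odd (Nat.card X)) (hn : C.A ≤ normalizer (X : Set G)) : C.Triv z X := by
  intro x hx y hy
  obtain ⟨o, hoz, m, hm, hmz, e⟩ := C.cent_Z hz hz1 (hXC hx)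
  have hyN := Oc_normalized (a := z) (C.A_le_cent (C.Z_le_A hz) hy)
  have hw : m⁻¹ * (o⁻¹ * (y * o * y⁻¹)) * m ∈ Oc z := by
    have := (mem_normalizer_iff.1 (Oc_normalized (inv_mem hmz)) _).1
      (mul_mem (inv_mem hoz) ((mem_normalizer_iff.1 hyN o).1 hoz))
    simpa using this
  have hv : m⁻¹ * y * m * y⁻¹ ∈ C.A := by
    have := cj_mem (inv_mem (C.normalizer_S_le hm)) hy
    rw [inv_inv] at this
    exact mul_mem this (inv_mem hy)
  have he : x⁻¹ * (y * x * y⁻¹) = m⁻¹ * (o⁻¹ * (y * o * y⁻¹)) * m * (m⁻¹ * y * m * y⁻¹) := by rw [e]; group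
  have hvD : m⁻¹ * y * m * y⁻¹ ∈ Oc z ⊔ X := by
    rw [eq_inv_mul_of_mul_eq he.symm]
    exact mul_mem (mem_sup_left (inv_mem hw)) (mem_sup_right (mul_mem (inv_mem hx) (cj_mem (hn hy) hx)))
  have hv1 := eq_one_of_odd_two (odd_sup (odd_Oc z) ho fun g hg => Oc_normalized (hXC hg)) hvD (C.A_sq hv)
  rw [he, hv1, mul_one]
  exact hw

variable {C}

/-- an invariant subgroup trivial modulo the core splits -/
theorem Triv.decomp {a : G} {X : Subgroup G} (h : C.Triv a X) (hXC : X ≤ centralizer ({a} : Set G))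
    (ho : Odd (Nat.card X)) (hn : C.A ≤ normalizer (X : Set G)) (ha : a ∈ C.A) {x : G} (hx : x ∈ X) :
    ∃ n ∈ X ⊓ Oc a, ∃ f ∈ X ⊓ C.FA, x = f * n := by
  have hnN : C.A ≤ normalizer ((X ⊓ Oc a : Subgroup G) : Set G) := fun y hy =>
    ZStarApps.mem_normalizer_of_maps fun v hv => ⟨cj_mem (hn hy) hv.1,
      (mem_normalizer_iff.1 (Oc_normalized (C.A_le_cent ha hy)) v).1 hv.2⟩
  have hxN : x ∈ normalizer ((X ⊓ Oc a : Subgroup G) : Set G) :=
    ZStarApps.mem_normalizer_of_maps fun v hv => mem_inf.2 ⟨mul_mem (mul_mem hx hv.1) (inv_mem hx),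
      (mem_normalizer_iff.1 (Oc_normalized (hXC hx)) v).1 hv.2⟩
  have hsol : Group.IsSolvable C.A := Group.isSolvable_of_comm fun p q => Subtype.ext (C.A_comm p.2 q.2).eq
  have hcop : (Nat.card C.A).Coprime (Nat.card (X ⊓ Oc a : Subgroup G)) := by
    rw [C.card_A, show (16 : ℕ) = 2 ^ 4 from rfl]
    exact (Nat.coprime_two_left.2 (ho.of_dvd_nat (card_dvd_of_le inf_le_left))).pow_left 4
  obtain ⟨n, hn', hc⟩ := Cfsg.Lib.Coprime.exists_fixed_of_commutator_mem hnN hcop (Or.inl hsol) hxN (fun y hy => by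
    have h1 : x⁻¹ * (y * x * y⁻¹) ∈ X ⊓ Oc a := mem_inf.2 ⟨mul_mem (inv_mem hx) (cj_mem (hn hy) hx), h x hx y hy⟩
    have := (mem_normalizer_iff.1 hxN _).1 h1
    rwa [show x * (x⁻¹ * (y * x * y⁻¹)) * x⁻¹ = y * x * y⁻¹ * x⁻¹ by group] at this)
  exact ⟨n⁻¹, inv_mem hn', x * n, mem_inf.2 ⟨mul_mem hx hn'.1, C.mem_FA_of_odd hc (odd_orderOf ho (mul_mem hx hn'.1))⟩,
    by group⟩

variable (C)

/-- **a moved side is fused into the centre** -/
theorem fused_of_moved (hM : C.Moved) {a : G} (ha : a ∈ C.A) :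
    ∃ n ∈ normalizer (C.A : Set G), n * a * n⁻¹ ∈ C.Z := by
  haveI : Fact (Nat.Prime 2) := ⟨Nat.prime_two⟩
  obtain ⟨n, hn, z₀, hz₀, hout⟩ := hM
  have hdis : ∀ w ∈ C.Z, n⁻¹ * w * n ∈ C.Z → w = 1 := by
    intro w hw hw'
    by_contra hw1
    set H := centralizer ({w} : Set G) ⊓ normalizer (C.A : Set G)
    have hSH : (C.S : Subgroup G) ≤ H := le_inf (C.S_le_centralizer hw) C.S_le_normalizer_A
    have hnS : ((n • C.S : Sylow 2 G) : Subgroup G) ≤ H := by
      rw [Sylow.coe_subgroup_smul]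
      rintro _ ⟨s, hs, rfl⟩
      refine mem_inf.2 ⟨mem_centralizer_singleton_iff.2 ?_, mul_mem (mul_mem hn (C.S_le_normalizer_A hs)) (inv_mem hn)⟩
      have := (commute_conj (g := n) (C.Z_central hw' hs)).eq
      rw [show n * (n⁻¹ * w * n) * n⁻¹ = w by group] at this
      exact this.symm
    obtain ⟨c, hc, hcS⟩ := Cfsg.Lib.Transfer.exists_conj_mem_of_sylow_le H (n • C.S) C.S hnS hSH
    obtain ⟨o, ho, m, hm, -, rfl⟩ := C.cent_Z hw hw1 (mem_inf.1 hc).1
    have hoA : o ∈ normalizer (C.A : Set G) := by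
      have := mul_mem (mem_inf.1 hc).2 (inv_mem (C.normalizer_S_le hm))
      rwa [mul_inv_cancel_right] at this
    have hcn : o * m * n ∈ normalizer ((C.S : Subgroup G) : Set G) :=
      Sylow.smul_eq_iff_mem_normalizer.1 (by rw [mul_smul, hcS])
    refine hout ?_
    have h1 := C.normalizer_S_conj_Z hcn hz₀
    have h2 : m * (n * z₀ * n⁻¹) * m⁻¹ ∈ C.A :=
      cj_mem (C.normalizer_S_le hm) (cj_mem hn (C.Z_le_A hz₀))
    rw [show o * m * n * z₀ * (o * m * n)⁻¹ = o * (m * (n * z₀ * n⁻¹) * m⁻¹) * o⁻¹ by group,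
      C.cent_of_core hw ho hoA h2] at h1
    have := C.normalizer_S_conj_Z (inv_mem hm) h1
    simpa [mul_assoc] using this
  by_cases haZ : a ∈ C.Z
  · exact ⟨1, one_mem _, by simpa using haZ⟩
  -- `A = n Z n⁻¹ Z`
  have hinj : Function.Injective (fun p : C.Z × C.Z =>
      (⟨n * p.1 * n⁻¹ * p.2, mul_mem (cj_mem hn (C.Z_le_A p.1.2)) (C.Z_le_A p.2.2)⟩ : C.A)) := by
    intro p q e
    have e' : n * p.1 * n⁻¹ * p.2 = n * q.1 * n⁻¹ * q.2 := congrArg Subtype.val e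
    have h2 : n * ((q.1 : G)⁻¹ * p.1) * n⁻¹ = (q.2 : G) * (p.2 : G)⁻¹ := by
      calc n * ((q.1 : G)⁻¹ * p.1) * n⁻¹ = (n * q.1 * n⁻¹)⁻¹ * (n * p.1 * n⁻¹ * p.2) * (p.2 : G)⁻¹ := by group
        _ = (q.2 : G) * (p.2 : G)⁻¹ := by rw [e']; group
    have h3 : n * ((q.1 : G)⁻¹ * p.1) * n⁻¹ = 1 := hdis _ (h2.symm ▸ mul_mem q.2.2 (inv_mem p.2.2)) (by
      rw [show n⁻¹ * (n * ((q.1 : G)⁻¹ * p.1) * n⁻¹) * n = (q.1 : G)⁻¹ * p.1 by group]
      exact mul_mem (inv_mem q.1.2) p.1.2)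
    rw [h3] at h2
    have h4 : q.1 = p.1 := Subtype.ext (inv_mul_eq_one.1 (conj_eq_one_iff.1 h3))
    exact Prod.ext h4.symm (Subtype.ext (mul_inv_eq_one.1 h2.symm).symm)
  obtain ⟨⟨p, q⟩, hpq⟩ := ((Nat.bijective_iff_injective_and_card _).2 ⟨hinj, by
    rw [Nat.card_prod, C.card_Z, C.card_A]⟩).2 ⟨a, ha⟩
  have e : n * p * n⁻¹ * q = a := congrArg Subtype.val hpq
  have hv : n * (p : G) * n⁻¹ ∉ C.Z := fun h => haZ (e ▸ mul_mem h q.2)
  obtain ⟨b, hb, eb⟩ := C.exists_comm_eq q.2 (cj_mem hn (C.Z_le_A p.2)) hv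
  refine ⟨(b * n)⁻¹, inv_mem (mul_mem (C.S_le_normalizer_A (C.B_le hb)) hn), ?_⟩
  rw [← e, ← eb, show (b * n)⁻¹ * (b * (n * (p : G) * n⁻¹) * b⁻¹) * (b * n)⁻¹⁻¹ = (p : G) by group]
  exact p.2

end Coord

end Cfsg.Lib.LFourType
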