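import Cfsg.Agent.Components.Misc.KBalancedFunctor

/-!
The uniqueness argument for consistent families of invariant subgroups, with the invariance asked only of the
elementary abelian group.
-/

set_option linter.style.haveILetI false
set_option linter.unusedSectionVars false

namespace Cfsg.Lib.KBal

open Subgroup Cfsg Cfsg.Lib.Components
open scoped commutatorElement

universe u

variable {G : Type u} [Group G] [Finite G] {p : ℕ} [hp : Fact p.Prime]

/-- a consistent family of invariant subgroups determines the centralizers -/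
theorem inf_centralizer_le_of_invariant {A : Subgroup G} (hA : IsElementaryAbelian p A) {k : ℕ}
    (hAk : p ^ (k + 2) ≤ Nat.card A) :
    ∀ n : ℕ, ∀ K : Subgroup G, Nat.card K = n → Group.IsSolvable ↥K → ¬ p ∣ Nat.card K →
      A ≤ normalizer (K : Set G) → ∀ L : Subgroup G → Subgroup G,
      (∀ B, Big p k A B → L B ≤ K ⊓ centralizer (B : Set G)) →
      (∀ B, Big p k A B → A ≤ normalizer (L B : Set G)) →
      (∀ B B', Big p k A B → Big p k A B' → L B ⊓ centralizer (B' : Set G) ≤ L B') →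
      K ≤ ⨆ B : {B // Big p k A B}, L B →
      ∀ B, Big p k A B → K ⊓ centralizer (B : Set G) ≤ L B := by
  classical
  intro n
  induction n using Nat.strong_induction_on with
  | _ n ih =>
  intro K hn hKs hKp hAK L hLK hLn hLc hgen
  by_cases hK1 : K = ⊥
  · intro B _
    rw [hK1, bot_inf_eq]
    exact bot_le
  haveI := hKs
  haveI : Nontrivial ↥K := (nontrivial_iff_ne_bot K).mpr hK1
  set K' : Subgroup G := (commutator ↥K).map K.subtype with hK'
  have hK'K : K' ≤ K := map_subtype_le _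
  have hlt : Nat.card K' < n := by
    rw [← hn]
    refine lt_of_le_of_ne (Nat.le_of_dvd Nat.card_pos (card_dvd_of_le hK'K)) fun e => ?_
    have h1 := eq_of_le_of_card_ge hK'K e.ge
    refine (Group.IsSolvable.commutator_lt_top_of_nontrivial ↥K).ne (map_injective K.subtype_injective ?_)
    rw [← hK', h1, ← MonoidHom.range_eq_map, range_subtype]
  -- the hyperplanes
  have hhyp : ∀ H : {H : Subgroup G // H ≤ A ∧ H.relIndex A ≤ p}, Big p k A H := fun H =>
    big_of_relIndex_le (j := 1) ((Nat.pow_le_pow_right hp.out.pos (by omega)).trans hAk) H.2.1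
      (by simpa using H.2.2)
  have hbig2 : ∀ H₁ H₂ : {H : Subgroup G // H ≤ A ∧ H.relIndex A ≤ p}, Big p k A (H₁.1 ⊓ H₂.1) :=
    fun H₁ H₂ => big_of_relIndex_le (j := 2) hAk (inf_le_left.trans H₁.2.1)
      (relIndex_inf_le.trans (by rw [pow_two]; exact Nat.mul_le_mul H₁.2.2 H₂.2.2))
  have hsplit : ∀ M : Subgroup G, A ≤ normalizer (M : Set G) → ∀ B, Big p k A B →
      L B ⊓ M ≤ ⨆ H : {H : Subgroup G // H ≤ A ∧ H.relIndex A ≤ p}, L H.1 ⊓ M := by
    intro M hAM B hB
    have hX : ¬ p ∣ Nat.card ↥(L B ⊓ M) := fun h =>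
      hKp (h.trans (card_dvd_of_le (inf_le_left.trans ((hLK B hB).trans inf_le_left))))
    refine (Cfsg.Agent.S1324.result p A (L B ⊓ M) hA (sq_le hAk) hX
      (Cfsg.Lib.Coprime.le_normalizer_inf (hLn B hB) hAM)).trans_le ?_
    exact iSup_mono fun H => le_inf (fun x hx => hLc B H hB (hhyp H) ⟨hx.1.1, hx.2⟩)
      (fun x hx => hx.1.2)
  have hgenH : K ≤ ⨆ H : {H : Subgroup G // H ≤ A ∧ H.relIndex A ≤ p}, L H.1 :=
    hgen.trans (iSup_le fun B => by simpa using hsplit ⊤ (fun a _ => mem_normalizer_iff.mpr (by simp)) B B.2)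
  -- the derived subgroup is generated by the family
  set J := ⨆ H : {H : Subgroup G // H ≤ A ∧ H.relIndex A ≤ p}, L H.1 ⊓ K' with hJ
  have hAK' : A ≤ normalizer (K' : Set G) :=
    hAK.trans (Cfsg.Lib.GenFittingAction.le_normalizer_map_char K (commutator ↥K))
  have hcomK : ∀ x ∈ K, ∀ y ∈ K, ⁅x, y⁆ ∈ K' := fun x hx y hy =>
    ⟨⁅(⟨x, hx⟩ : ↥K), ⟨y, hy⟩⁆, commutator_mem_commutator (mem_top _) (mem_top _), by simp⟩
  have hpair : ∀ (H₁ H₂ : {H : Subgroup G // H ≤ A ∧ H.relIndex A ≤ p}) (x y : G), x ∈ L H₁.1 →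
      y ∈ L H₂.1 → ⁅x, y⁆ ∈ J := by
    intro H₁ H₂ x y hx hy
    have hB := hbig2 H₁ H₂
    have hx' : x ∈ L (H₁.1 ⊓ H₂.1) :=
      hLc _ _ (hhyp H₁) hB ⟨hx, centralizer_le inf_le_left (hLK _ (hhyp H₁) hx).2⟩
    have hy' : y ∈ L (H₁.1 ⊓ H₂.1) :=
      hLc _ _ (hhyp H₂) hB ⟨hy, centralizer_le inf_le_right (hLK _ (hhyp H₂) hy).2⟩
    refine hsplit K' hAK' _ hB ⟨?_, hcomK x (hLK _ (hhyp H₁) hx).1 y (hLK _ (hhyp H₂) hy).1⟩
    exact (L _).mul_mem ((L _).mul_mem ((L _).mul_mem hx' hy') ((L _).inv_mem hx')) ((L _).inv_mem hy')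
  have hJn : K ≤ normalizer (J : Set G) := by
    refine hgenH.trans (iSup_le fun H₂ => fun y hy => ?_)
    have key : ∀ y ∈ L H₂.1, ∀ z ∈ J, y * z * y⁻¹ ∈ J := by
      intro y hy z hz
      refine (iSup_le (fun H₁ => ?_) : J ≤ J.comap (MulAut.conj y).toMonoidHom) hz
      intro x hx
      show y * x * y⁻¹ ∈ J
      rw [show y * x * y⁻¹ = ⁅y, x⁆ * x by group]
      exact mul_mem (hpair H₂ H₁ y x hy hx.1) (le_iSup (fun H : {H : Subgroup G // H ≤ A ∧
        H.relIndex A ≤ p} => L H.1 ⊓ K') H₁ hx)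
    refine mem_normalizer_iff.mpr fun z => ⟨key y hy z, fun h => ?_⟩
    have := key y⁻¹ (inv_mem hy) _ h
    simpa [mul_assoc] using this
  have hK'J : K' ≤ J := by
    set N := normalizer (J : Set G)
    set J₀ := J.subgroupOf N
    haveI : J₀.Normal := Subgroup.normal_in_normalizer
    set π := QuotientGroup.mk' J₀
    have hcent : ∀ (H₁ H₂ : {H : Subgroup G // H ≤ A ∧ H.relIndex A ≤ p}) (x y : ↥N),
        (x : G) ∈ L H₁.1 → (y : G) ∈ L H₂.1 → π x * π y = π y * π x := fun H₁ H₂ x y hx hy => by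
      refine commutatorElement_eq_one_iff_mul_comm.mp ?_
      rw [← map_commutatorElement]
      exact (QuotientGroup.eq_one_iff _).mpr (hpair H₁ H₂ x y hx hy)
    have hall : ∀ x y : ↥N, (x : G) ∈ K → (y : G) ∈ K → π x * π y = π y * π x := by
      have h1 : ∀ (H₂ : {H : Subgroup G // H ≤ A ∧ H.relIndex A ≤ p}) (x y : ↥N),
          (x : G) ∈ K → (y : G) ∈ L H₂.1 → π x * π y = π y * π x := by
        intro H₂ x y hx hy
        let S : Subgroup G := ((centralizer ({π y} : Set (↥N ⧸ J₀))).comap π).map N.subtype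
        have hS : K ≤ S := hgenH.trans (iSup_le fun H₁ x hx =>
          ⟨⟨x, hJn (hLK _ (hhyp H₁) hx).1⟩, mem_centralizer_singleton_iff.mpr
            (hcent H₁ H₂ ⟨x, _⟩ y hx hy), rfl⟩)
        obtain ⟨x', hx', e⟩ := hS hx
        obtain rfl : x' = x := Subtype.ext e
        exact mem_centralizer_singleton_iff.mp hx'
      intro x y hx hy
      let S : Subgroup G := ((centralizer ({π x} : Set (↥N ⧸ J₀))).comap π).map N.subtype
      have hS : K ≤ S := hgenH.trans (iSup_le fun H₂ y hy =>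
        ⟨⟨y, hJn (hLK _ (hhyp H₂) hy).1⟩, mem_centralizer_singleton_iff.mpr
          (h1 H₂ x ⟨y, _⟩ hx hy).symm, rfl⟩)
      obtain ⟨y', hy', e⟩ := hS hy
      obtain rfl : y' = y := Subtype.ext e
      exact (mem_centralizer_singleton_iff.mp hy').symm
    rw [hK', map_subtype_commutator, commutator_le]
    intro x hx y hy
    have := (QuotientGroup.eq_one_iff _).mp (show π ⁅(⟨x, hJn hx⟩ : ↥N), ⟨y, hJn hy⟩⁆ = 1 by
      rw [map_commutatorElement]
      exact commutatorElement_eq_one_iff_mul_comm.mpr (hall _ _ hx hy))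
    exact this
  -- induction
  have hind : ∀ B, Big p k A B → K' ⊓ centralizer (B : Set G) ≤ L B := fun B hB =>
    (ih _ hlt K' rfl (Cfsg.Lib.Coprime.isSolvable_of_le hK'K hKs)
      (fun h => hKp (h.trans (card_dvd_of_le hK'K))) hAK' (fun B => L B ⊓ K')
      (fun B hB => le_inf inf_le_right (inf_le_left.trans ((hLK B hB).trans inf_le_right)))
      (fun B hB => Cfsg.Lib.Coprime.le_normalizer_inf (hLn B hB) hAK')
      (fun B B' hB hB' x hx => ⟨hLc B B' hB hB' ⟨hx.1.1, hx.2⟩, hx.1.2⟩)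
      (hK'J.trans (iSup_le fun H => le_iSup (fun B : {B // Big p k A B} => L B.1 ⊓ K') ⟨H.1, hhyp H⟩))
      B hB).trans inf_le_left
  -- the abelianization
  intro B hB x hx
  have hBK : B ≤ normalizer (K : Set G) := hB.1.trans hAK
  have hcopB : (Nat.card B).Coprime (Nat.card K) := by
    obtain ⟨m, hm⟩ := IsPGroup.iff_card.mp (show IsPGroup p ↥A from
      fun g => ⟨1, Subtype.ext (by simpa using hA.2 _ g.2)⟩)
    exact (hm ▸ (hp.out.coprime_iff_not_dvd.mpr hKp).pow_left m).coprime_dvd_left (card_dvd_of_le hB.1)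
  have hBs : Group.IsSolvable ↥B := by
    haveI := (elemAb_of_le hA hB.1).1
    exact Group.isSolvable_of_comm fun a b => mul_comm' a b
  set T : Subgroup (Abelianization ↥K) := ((L B).subgroupOf K).map Abelianization.of
  have hφ : ∀ y : ↥K, norm hBK y ∈ T := by
    intro y
    have hle : K ≤ (T.comap (norm hBK)).map K.subtype := by
      refine hgen.trans (iSup_le fun B' => ?_)
      intro z hz
      have hzK : z ∈ K := (hLK _ B'.2 hz).1
      obtain ⟨w, ⟨hw1, hw2⟩, hw⟩ := norm_mem hBK (hB.1.trans (hLn _ B'.2))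
        ((hLK _ B'.2).trans inf_le_left) hcopB hBs (x := ⟨z, hzK⟩) hz
      exact ⟨⟨z, hzK⟩, ⟨w, hLc _ _ B'.2 hB ⟨hw1, hw2⟩, hw⟩, rfl⟩
    obtain ⟨y', hy', e⟩ := hle y.2
    obtain rfl : y' = y := Subtype.ext e
    exact hy'
  have hxT : Abelianization.of (⟨x, hx.1⟩ : ↥K) ∈ T := by
    set v := Abelianization.of (⟨x, hx.1⟩ : ↥K)
    have h1 : norm hBK ⟨x, hx.1⟩ = v ^ Nat.card B := by
      letI := Fintype.ofFinite ↥B
      show ∏ h : ↥B, _ = _
      rw [Nat.card_eq_fintype_card, ← Finset.card_univ, ← Finset.prod_const]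
      refine Finset.prod_congr rfl fun h _ => congrArg Abelianization.of (Subtype.ext ?_)
      show (h : G) * x * (h : G)⁻¹ = x
      rw [mem_centralizer_iff.mp hx.2 h h.2, mul_inv_cancel_right]
    have h2 : v ∈ zpowers (v ^ Nat.card B) := mem_zpowers_pow_iff.mpr
      (((hcopB.coprime_dvd_right (card_quotient_dvd_card _)).coprime_dvd_right (orderOf_dvd_natCard v)))
    exact zpowers_le.mpr (h1 ▸ hφ ⟨x, hx.1⟩) h2
  obtain ⟨l, hl, hle⟩ := hxT
  have h3 : (l : G)⁻¹ * x ∈ L B := hind B hB ⟨⟨l⁻¹ * ⟨x, hx.1⟩, by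
      rw [← Abelianization.ker_of, SetLike.mem_coe, MonoidHom.mem_ker, map_mul, map_inv, hle, inv_mul_cancel], rfl⟩,
    (centralizer (B : Set G)).mul_mem ((centralizer (B : Set G)).inv_mem (hLK B hB hl).2) hx.2⟩
  simpa using mul_mem (show (l : G) ∈ L B from hl) h3

end Cfsg.Lib.KBal
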