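import Cfsg.Agent.LFourType.Closure
import Cfsg.Agent.LFourType.WeakClosure

/-!
Neither side moved: the cores of the four-subgroups of a side form a balanced family.
-/

set_option autoImplicit false
set_option linter.unusedSectionVars false
set_option linter.style.haveILetI false
set_option maxHeartbeats 400000

namespace Cfsg.Lib.LFourType

open Subgroup
open Cfsg.Lib.Walter (Oc)

universe u

variable {G : Type u} [Group G] [Finite G]

/-- the common core of a subgroup -/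
def Dl (B : Subgroup G) : Subgroup G := ⨅ b : {b : G // b ∈ B ∧ b ≠ 1}, Oc (b : G)

theorem Dl_le {B : Subgroup G} {b : G} (hb : b ∈ B) (hb1 : b ≠ 1) : Dl B ≤ Oc b :=
  iInf_le (fun b : {b : G // b ∈ B ∧ b ≠ 1} => Oc (b : G)) ⟨b, hb, hb1⟩

theorem le_Dl {B X : Subgroup G} (h : ∀ b ∈ B, b ≠ 1 → X ≤ Oc b) : X ≤ Dl B :=
  le_iInf fun b => h b b.2.1 b.2.2

theorem Dl_anti {B B' : Subgroup G} (h : B ≤ B') : Dl B' ≤ Dl B :=
  le_Dl fun _ hb hb1 => Dl_le (h hb) hb1

theorem Dl_le_cent (B : Subgroup G) : Dl B ≤ centralizer (B : Set G) := fun x hx =>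
  mem_centralizer_iff.2 fun b hb => by
    by_cases hb1 : b = 1
    · rw [hb1, one_mul, mul_one]
    · exact (mem_centralizer_singleton_iff.1 (Oc_le b (Dl_le hb hb1 hx))).symm

theorem odd_Dl {B : Subgroup G} (h : 2 ≤ Nat.card B) : Odd (Nat.card (Dl B)) := by
  obtain ⟨b, hb, hb1⟩ := exists_ne_one_of_card h
  exact (odd_Oc b).of_dvd_nat (card_dvd_of_le (Dl_le hb hb1))

theorem cent_le_normalizer_Dl {B : Subgroup G} : centralizer (B : Set G) ≤ normalizer (Dl B : Set G) :=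
  fun n hn => ZStarApps.mem_normalizer_of_maps fun x hx => (le_Dl fun b hb hb1 y hy => by
    obtain ⟨v, hv, rfl⟩ := hy
    have := conj_Oc n b (Dl_le hb hb1 hv)
    rwa [show n * b * n⁻¹ = b by rw [← mem_centralizer_iff.1 hn b hb, mul_inv_cancel_right]] at this :
      (Dl B).map (MulAut.conj n).toMonoidHom ≤ Dl B) ⟨x, hx, rfl⟩

/-- a map preserving both members preserves the join -/
theorem mem_normalizer_sup {X Y : Subgroup G} {n : G} (hX : n ∈ normalizer (X : Set G))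
    (hY : n ∈ normalizer (Y : Set G)) : n ∈ normalizer ((X ⊔ Y : Subgroup G) : Set G) := by
  refine ZStarApps.mem_normalizer_of_maps fun x hx => ?_
  have hle : X ⊔ Y ≤ (X ⊔ Y).comap (MulAut.conj n).toMonoidHom :=
    sup_le (fun v hv => mem_sup_left ((mem_normalizer_iff.1 hX v).1 hv))
      (fun v hv => mem_sup_right ((mem_normalizer_iff.1 hY v).1 hv))
  exact hle hx

theorem mem_normalizer_inf {X Y : Subgroup G} {n : G} (hX : n ∈ normalizer (X : Set G))
    (hY : n ∈ normalizer (Y : Set G)) : n ∈ normalizer ((X ⊓ Y : Subgroup G) : Set G) :=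
  ZStarApps.mem_normalizer_of_maps fun x hx =>
    mem_inf.2 ⟨(mem_normalizer_iff.1 hX x).1 hx.1, (mem_normalizer_iff.1 hY x).1 hx.2⟩

theorem exists_four_le {B : Subgroup G} (hB : IsPGroup 2 B) (h : 4 ≤ Nat.card B) :
    ∃ E ≤ B, Nat.card E = 4 := by
  haveI : Fact (Nat.Prime 2) := ⟨Nat.prime_two⟩
  obtain ⟨E, hE⟩ := Sylow.exists_subgroup_card_pow_prime_of_le_card (n := 2) (G := B) Nat.prime_two hB
    (by simpa using h)
  refine ⟨E.map B.subtype, map_subtype_le _, ?_⟩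
  rw [card_map_of_injective B.subtype_injective, hE]; norm_num

namespace Coord

variable (C : Coord G)

theorem elem_A : Cfsg.IsElementaryAbelian 2 C.A :=
  ⟨⟨⟨fun x y => Subtype.ext (C.A_comm x.2 y.2).eq⟩⟩, fun x hx => by rw [pow_two]; exact C.A_sq hx⟩

theorem A_le_normalizer_Dl {B : Subgroup G} (hB : B ≤ C.A) : C.A ≤ normalizer (Dl B : Set G) :=
  (C.A_le_centralizer.trans (centralizer_le hB)).trans cent_le_normalizer_Dl

theorem A_le_normalizer_cent {a : G} (ha : a ∈ C.A) :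
    C.A ≤ normalizer (centralizer ({a} : Set G) : Set G) :=
  (C.A_le_cent ha).trans le_normalizer

theorem A_le_normalizer_cent' {B : Subgroup G} (hB : B ≤ C.A) :
    C.A ≤ normalizer (centralizer (B : Set G) : Set G) :=
  (C.A_le_centralizer.trans (centralizer_le hB)).trans le_normalizer

theorem FA_le_cent {B : Subgroup G} (hB : B ≤ C.A) : C.FA ≤ centralizer (B : Set G) :=
  C.FA_le.trans (centralizer_le hB)

theorem A_le_normalizer_FA : C.A ≤ normalizer (C.FA : Set G) := le_normalizer.trans C.FA_normalized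

variable (hA : ¬ C.Moved)
include hA

/-- **weak balance** -/
theorem triv_at {a : G} (ha : a ∈ C.A) (ha1 : a ≠ 1) {X : Subgroup G} (hXC : X ≤ centralizer ({a} : Set G))
    (ho : Odd (Nat.card X)) (hn : C.A ≤ normalizer (X : Set G)) {B : Subgroup G} (hB : B ≤ C.A)
    (hB4 : 4 ≤ Nat.card B) (hXB : X ≤ Dl B) : C.Triv a X := by
  by_cases haZ : a ∈ C.Z
  · exact C.triv_Z haZ ha1 hXC ho hn
  obtain ⟨E, hE, hE4⟩ := exists_four_le (C.isPGroup_of_le_S (hB.trans C.A_le)) hB4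
  exact C.triv_of_delta hA ha haZ hXC ho hn (hE.trans hB) hE4 fun b hb hb1 => hXB.trans (Dl_le (hE hb) hb1)

omit hA in
/-- an invariant subgroup trivial at all members splits -/
theorem le_Dl_sup {H X : Subgroup G} (hH : H ≤ C.A) (hXC : X ≤ centralizer (H : Set G)) (ho : Odd (Nat.card X))
    (hn : C.A ≤ normalizer (X : Set G)) (ht : ∀ h ∈ H, h ≠ 1 → C.Triv h X) :
    X ≤ (X ⊓ Dl H) ⊔ (X ⊓ C.FA) := by
  intro x hx
  have hnN : C.A ≤ normalizer ((X ⊓ Dl H : Subgroup G) : Set G) := fun y hy =>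
    mem_normalizer_inf (hn hy) (C.A_le_normalizer_Dl hH hy)
  have hxN : x ∈ normalizer ((X ⊓ Dl H : Subgroup G) : Set G) :=
    mem_normalizer_inf (le_normalizer hx) (cent_le_normalizer_Dl (hXC hx))
  have hsol : Group.IsSolvable C.A := Group.isSolvable_of_comm fun p q => Subtype.ext (C.A_comm p.2 q.2).eq
  have hcop : (Nat.card C.A).Coprime (Nat.card (X ⊓ Dl H : Subgroup G)) := by
    rw [C.card_A, show (16 : ℕ) = 2 ^ 4 from rfl]
    exact (Nat.coprime_two_left.2 (ho.of_dvd_nat (card_dvd_of_le inf_le_left))).pow_left 4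
  obtain ⟨n, hn', hc⟩ := Cfsg.Lib.Coprime.exists_fixed_of_commutator_mem hnN hcop (Or.inl hsol) hxN (fun y hy => by
    have h1 : x⁻¹ * (y * x * y⁻¹) ∈ X ⊓ Dl H := mem_inf.2 ⟨mul_mem (inv_mem hx) (cj_mem (hn hy) hx),
      le_Dl (X := zpowers (x⁻¹ * (y * x * y⁻¹))) (fun h hh hh1 => zpowers_le.2 (ht h hh hh1 x hx y hy))
        (mem_zpowers _)⟩
    have := (mem_normalizer_iff.1 hxN _).1 h1
    rwa [show x * (x⁻¹ * (y * x * y⁻¹)) * x⁻¹ = y * x * y⁻¹ * x⁻¹ by group] at this)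
  rw [show x = x * n * n⁻¹ by group]
  exact mul_mem (mem_sup_right (mem_inf.2 ⟨mul_mem hx hn'.1,
    C.mem_FA_of_odd hc (odd_orderOf ho (mul_mem hx hn'.1))⟩)) (mem_sup_left (inv_mem hn'))

omit hA in
/-- the value of the functor at `a` -/
def theta (a : G) : Subgroup G :=
  (⨆ B : {B // Cfsg.Lib.KBal.Big 2 2 C.A B}, Dl B.1 ⊓ centralizer ({a} : Set G)) ⊔ C.FA

omit hA in
theorem Dl_inf_le_theta (a : G) {B : Subgroup G} (hB : B ≤ C.A) (h4 : 4 ≤ Nat.card B) :
    Dl B ⊓ centralizer ({a} : Set G) ≤ C.theta a :=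
  le_sup_of_le_left (le_iSup (fun B : {B // Cfsg.Lib.KBal.Big 2 2 C.A B} => Dl B.1 ⊓ centralizer ({a} : Set G))
    ⟨B, hB, by norm_num; exact h4⟩)

omit hA in
theorem FA_le_cent_one {a : G} (ha : a ∈ C.A) : C.FA ≤ centralizer ({a} : Set G) := fun _ hf =>
  mem_centralizer_singleton_iff.2 (C.FA_commute hf ha).symm.eq

omit hA in
theorem theta_le_cent {a : G} (ha : a ∈ C.A) : C.theta a ≤ centralizer ({a} : Set G) :=
  sup_le (iSup_le fun _ => inf_le_right) (C.FA_le_cent_one ha)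

omit hA in
theorem odd_core_FA {a : G} (ha : a ∈ C.A) : Odd (Nat.card (Oc a ⊔ C.FA : Subgroup G)) :=
  Cfsg.Lib.AltEightType.odd_sup (odd_Oc a) C.odd_FA fun _ hf => Oc_normalized (C.FA_le_cent_one ha hf)

theorem theta_le_core {a : G} (ha : a ∈ C.A) (ha1 : a ≠ 1) : C.theta a ≤ Oc a ⊔ C.FA := by
  refine sup_le (iSup_le fun B => ?_) le_sup_right
  intro x hx
  have h4 : 4 ≤ Nat.card B.1 := by simpa using B.2.2
  have ho : Odd (Nat.card (Dl B.1 ⊓ centralizer ({a} : Set G) : Subgroup G)) :=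
    (odd_Dl (by omega)).of_dvd_nat (card_dvd_of_le inf_le_left)
  have hn : C.A ≤ normalizer ((Dl B.1 ⊓ centralizer ({a} : Set G) : Subgroup G) : Set G) := fun y hy =>
    mem_normalizer_inf (C.A_le_normalizer_Dl B.2.1 hy) (C.A_le_normalizer_cent ha hy)
  obtain ⟨n, hn', f, hf, rfl⟩ :=
    (C.triv_at hA ha ha1 inf_le_right ho hn B.2.1 h4 inf_le_left).decomp inf_le_right ho hn ha hx
  exact mul_mem (mem_sup_right hf.2) (mem_sup_left hn'.2)

theorem odd_theta {a : G} (ha : a ∈ C.A) (ha1 : a ≠ 1) : Odd (Nat.card (C.theta a)) :=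
  (C.odd_core_FA ha).of_dvd_nat (card_dvd_of_le (C.theta_le_core hA ha ha1))

omit hA in
theorem A_le_normalizer_theta {a : G} (ha : a ∈ C.A) : C.A ≤ normalizer (C.theta a : Set G) := fun y hy => by
  refine mem_normalizer_sup (ZStarApps.mem_normalizer_of_maps fun x hx => ?_) (C.A_le_normalizer_FA hy)
  set T := ⨆ B : {B // Cfsg.Lib.KBal.Big 2 2 C.A B}, Dl B.1 ⊓ centralizer ({a} : Set G)
  have hle : T ≤ T.comap (MulAut.conj y).toMonoidHom := iSup_le fun B v hv =>
    le_iSup (fun B : {B // Cfsg.Lib.KBal.Big 2 2 C.A B} => Dl B.1 ⊓ centralizer ({a} : Set G)) B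
      ((mem_normalizer_iff.1 (mem_normalizer_inf (C.A_le_normalizer_Dl B.2.1 hy) (C.A_le_normalizer_cent ha hy)) v).1 hv)
  exact hle hx

theorem theta_balanced {a b : G} (ha : a ∈ C.A) (ha1 : a ≠ 1) (hb : b ∈ C.A) :
    C.theta a ⊓ centralizer ({b} : Set G) ≤ C.theta b := by
  haveI : Fact (Nat.Prime 2) := ⟨Nat.prime_two⟩
  have hK := C.odd_theta hA ha ha1
  let L : Subgroup G → Subgroup G := fun B => (Dl B ⊓ centralizer ({a} : Set G)) ⊔ C.FA
  have key := Cfsg.Lib.KBal.inf_centralizer_le_of_invariant (p := 2) C.elem_A (k := 2) (by rw [C.card_A]; norm_num)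
    _ (C.theta a) rfl (Cfsg.Agent.PF.isSolvable_of_odd _ hK)
    (fun h2 => Nat.not_even_iff_odd.2 hK (even_iff_two_dvd.2 h2)) (C.A_le_normalizer_theta ha) L
    (fun B hB => le_inf (sup_le (C.Dl_inf_le_theta a hB.1 (by simpa using hB.2)) le_sup_right)
      (sup_le (inf_le_left.trans (Dl_le_cent B)) (C.FA_le_cent hB.1)))
    (fun B hB y hy => mem_normalizer_sup
      (mem_normalizer_inf (C.A_le_normalizer_Dl hB.1 hy) (C.A_le_normalizer_cent ha hy)) (C.A_le_normalizer_FA hy))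
    ?_ ?_
  · refine le_of_four (E := C.A) (by rw [C.card_A]; norm_num) (fun p hp q hq => C.A_comm hp hq) (fun p hp => C.A_sq hp)
      (hK.of_dvd_nat (card_dvd_of_le inf_le_left))
      (fun y hy => mem_normalizer_inf (C.A_le_normalizer_theta ha hy) (C.A_le_normalizer_cent hb hy))
      fun H hH h8 => ?_
    rw [C.card_A] at h8
    set H' := H ⊔ zpowers b
    have hH' : H' ≤ C.A := sup_le hH (zpowers_le.2 hb)
    have h4 : 4 ≤ Nat.card H' := le_trans (by omega) (card_le_of_le (le_sup_left : H ≤ H'))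
    intro x hx
    obtain ⟨⟨hxK, hxb⟩, hxH⟩ := hx
    have hH'C : H' ≤ centralizer ({x} : Set G) := sup_le
      (fun q hq => mem_centralizer_singleton_iff.2 (mem_centralizer_iff.1 hxH q hq))
      (zpowers_le.2 (mem_centralizer_singleton_iff.2 (mem_centralizer_singleton_iff.1 hxb).symm))
    have hxc : x ∈ centralizer (H' : Set G) := mem_centralizer_iff.2 fun q hq =>
      mem_centralizer_singleton_iff.1 (hH'C hq)
    refine (sup_le (le_inf inf_le_left ?_ |>.trans (C.Dl_inf_le_theta b hH' h4)) le_sup_right)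
      (key H' ⟨hH', by simpa using h4⟩ (mem_inf.2 ⟨hxK, hxc⟩))
    exact inf_le_left.trans ((Dl_le_cent H').trans (centralizer_le
      (Set.singleton_subset_iff.2 (mem_sup_right (mem_zpowers b) : b ∈ H'))))
  · intro B B' hB hB' x hx'
    obtain ⟨hx, hxB'⟩ := mem_inf.1 hx'
    have hFN : C.FA ≤ normalizer ((Dl B ⊓ centralizer ({a} : Set G) : Subgroup G) : Set G) := fun f hf =>
      mem_normalizer_inf (cent_le_normalizer_Dl (C.FA_le_cent hB.1 hf)) (le_normalizer (C.FA_le_cent_one ha hf))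
    obtain ⟨d, hd, f, hf, rfl⟩ := (Cfsg.Lib.Coprime.mem_sup_of_le_normalizer hFN).1 hx
    refine mul_mem ?_ (mem_sup_right hf)
    set Y := Dl B ⊓ centralizer ({a} : Set G) ⊓ centralizer (B' : Set G)
    have hdY : d ∈ Y := mem_inf.2 ⟨hd, by
      have := mul_mem hxB' (inv_mem (C.FA_le_cent hB'.1 hf))
      rwa [mul_inv_cancel_right] at this⟩
    have h4 : 4 ≤ Nat.card B := by simpa using hB.2
    have hYo : Odd (Nat.card Y) := (odd_Dl (by omega)).of_dvd_nat (card_dvd_of_le (inf_le_left.trans inf_le_left))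
    have hYn : C.A ≤ normalizer (Y : Set G) := fun y hy => mem_normalizer_inf
      (mem_normalizer_inf (C.A_le_normalizer_Dl hB.1 hy) (C.A_le_normalizer_cent ha hy))
      (C.A_le_normalizer_cent' hB'.1 hy)
    refine (show (Y ⊓ Dl B') ⊔ (Y ⊓ C.FA) ≤ L B' from sup_le (le_sup_of_le_left ?_) (le_sup_of_le_right inf_le_right)) (C.le_Dl_sup hB'.1 inf_le_right hYo hYn
      (fun b' hb' hb'1 => C.triv_at hA (hB'.1 hb') hb'1
        (inf_le_right.trans (centralizer_le (Set.singleton_subset_iff.2 hb'))) hYo hYn hB.1 h4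
        (inf_le_left.trans inf_le_left)) hdY)
    exact le_inf inf_le_right (inf_le_left.trans (inf_le_left.trans inf_le_right))
  · exact sup_le (iSup_le fun B => le_iSup_of_le B le_sup_left)
      (le_iSup_of_le ⟨C.A, le_rfl, by rw [C.card_A]; norm_num⟩ le_sup_right)

omit hA in
/-- the closure of the functor -/
def Wd : Subgroup G := ⨆ a : {a : G // a ∈ C.A ∧ a ≠ 1}, C.theta (a : G)

theorem Wd_spec : Odd (Nat.card C.Wd) ∧ ∀ a ∈ C.A, a ≠ 1 → C.Wd ⊓ centralizer ({a} : Set G) = C.theta a := by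
  haveI : Fact (Nat.Prime 2) := ⟨Nat.prime_two⟩
  obtain ⟨h1, h2⟩ := Cfsg.Agent.S0217.result C.A (fun a ha b hb => (C.A_comm ha hb).eq)
    (fun a ha => by rw [pow_two]; exact C.A_sq ha) (by rw [C.card_A]; norm_num) C.theta
    (fun a ha _ => C.theta_le_cent ha)
    (fun a ha ha1 h => Nat.not_even_iff_odd.2 (C.odd_theta hA ha ha1) (even_iff_two_dvd.2 h))
    (fun a ha _ b hb x hx => cj_mem (C.A_le_normalizer_theta ha hb) hx)
    (fun a ha ha1 => Cfsg.Agent.PF.isSolvable_of_odd _ (C.odd_theta hA ha ha1))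
    fun a ha ha1 b hb _ => C.theta_balanced hA ha ha1 hb
  exact ⟨Nat.not_even_iff_odd.1 fun h => h1 (even_iff_two_dvd.1 h), h2⟩

omit hA in
theorem theta_le_Wd {a : G} (ha : a ∈ C.A) (ha1 : a ≠ 1) : C.theta a ≤ C.Wd :=
  le_iSup (fun a : {a : G // a ∈ C.A ∧ a ≠ 1} => C.theta (a : G)) ⟨a, ha, ha1⟩

omit hA in
theorem FA_le_Wd : C.FA ≤ C.Wd := by
  obtain ⟨z, hz, hz1⟩ := C.exists_Z_ne_one
  exact le_sup_right.trans (C.theta_le_Wd (C.Z_le_A hz) hz1)

omit hA in
theorem Dl_le_Wd {B : Subgroup G} (hB : B ≤ C.A) (h4 : 4 ≤ Nat.card B) : Dl B ≤ C.Wd :=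
  le_of_four' (E := C.A) (by rw [C.card_A]; norm_num) (fun p hp q hq => C.A_comm hp hq) (fun p hp => C.A_sq hp)
    (odd_Dl (by omega)) (C.A_le_normalizer_Dl hB) fun e he he1 =>
      (C.Dl_inf_le_theta e hB h4).trans (C.theta_le_Wd he he1)

theorem Wd_inf_triv {a : G} (ha : a ∈ C.A) (ha1 : a ≠ 1) {X : Subgroup G}
    (hX : X ≤ C.Wd ⊓ centralizer ({a} : Set G)) : C.Triv a X := fun x hx y hy => by
  have h1 := C.theta_le_core hA ha ha1 ((C.Wd_spec hA).2 a ha ha1 ▸ hX hx)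
  obtain ⟨o, ho, f, hf, rfl⟩ := (Cfsg.Lib.Coprime.mem_sup_of_le_normalizer (N := Oc a) (H := C.FA)
    fun v hv => Oc_normalized (C.FA_le_cent_one ha hv)).1 h1
  have hyN := Oc_normalized (a := a) (C.A_le_cent ha hy)
  have h2 := cj_mem (Oc_normalized (inv_mem (C.FA_le_cent_one ha hf)))
    (mul_mem (inv_mem ho) (cj_mem hyN ho))
  have h3 : y * f = f * y := (C.FA_commute hf hy).eq
  rw [inv_inv] at h2
  rwa [show (o * f)⁻¹ * (y * (o * f) * y⁻¹) = f⁻¹ * (o⁻¹ * (y * o * y⁻¹)) * f by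
    rw [show y * (o * f) * y⁻¹ = (y * o * y⁻¹) * (y * f * y⁻¹) by group, h3, mul_inv_cancel_right]; group]

omit hA in
theorem Wd_normalized {n : G} (hn : n ∈ normalizer (C.A : Set G)) : n ∈ normalizer (C.Wd : Set G) := by
  refine ZStarApps.mem_normalizer_of_maps fun x hx => ?_
  have hle : C.Wd ≤ C.Wd.comap (MulAut.conj n).toMonoidHom := iSup_le fun a => sup_le
    (iSup_le fun B v hv => ?_) fun v hv => C.FA_le_Wd (C.conj_FA hn hv)
  · exact hle hx
  show n * v * n⁻¹ ∈ C.Wd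
  have h4 : 4 ≤ Nat.card B.1 := by simpa using B.2.2
  refine C.Dl_le_Wd (B := conjS n B.1) ?_ (by rw [card_conjS]; exact h4)
    (le_Dl (X := zpowers (n * v * n⁻¹)) (fun b hb hb1 => zpowers_le.2 ?_) (mem_zpowers _))
  · rintro _ ⟨b, hb, rfl⟩; exact cj_mem hn (B.2.1 hb)
  · have := conj_Oc n (n⁻¹ * b * n) (Dl_le (mem_conjS.1 hb) (fun e => hb1 (by
      have := congrArg (fun q => n * q * n⁻¹) e
      simpa [mul_assoc] using this)) hv.1)
    rwa [show n * (n⁻¹ * b * n) * n⁻¹ = b by group] at this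

end Coord

end Cfsg.Lib.LFourType
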