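import Cfsg.Agent.LFourType.Moved

/-!
Fixed points of the complementary part cover its centralizer modulo the core.
-/

set_option autoImplicit false
set_option linter.unusedSectionVars false
set_option linter.style.haveILetI false

namespace Cfsg.Lib.LFourType.Coord

open Subgroup
open Cfsg.Lib.Walter (Qt bar Oc mem_Oc)

universe u

/-- the projection onto `C(a)/O(C(a))` -/
local notation "qk" => Cfsg.Lib.Walter.qm

variable {G : Type u} [Group G] [Finite G] {C : Coord G}

variable {a : G} {L : Subgroup (Qt a)} {U : Subgroup G}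

/-- the centralizer of the image lifts to the centralizer -/
theorem Split.exists_lift (h : C.Split a L U) {q : Qt a} (hq : q ∈ centralizer (bar a U : Set (Qt a))) :
    ∃ g ∈ centralizer (U : Set G), ∃ hg : g ∈ centralizer ({a} : Set G), qk a ⟨g, hg⟩ = q := by
  obtain ⟨⟨k, hk⟩, rfl⟩ := QuotientGroup.mk'_surjective _ q
  have hUn : U ≤ normalizer (Oc a : Set G) := fun v hv => Oc_normalized (C.A_le_cent h.a_mem (h.U_le hv))
  have hcop : (Nat.card U).Coprime (Nat.card (Oc a)) := by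
    rw [h.card, show (4 : ℕ) = 2 ^ 2 from rfl]
    exact (Nat.coprime_two_left.2 (odd_Oc a)).pow_left 2
  have hsol : Group.IsSolvable U :=
    Group.isSolvable_of_comm fun p r => Subtype.ext (C.A_comm (h.U_le p.2) (h.U_le r.2)).eq
  obtain ⟨n, hn, hc⟩ := Cfsg.Lib.Coprime.exists_fixed_of_commutator_mem hUn hcop (Or.inl hsol)
    (Oc_normalized hk) (fun v hv => by
      have hvK := C.A_le_cent h.a_mem (h.U_le hv)
      refine mem_Oc.2 ⟨mul_mem (mul_mem (mul_mem hvK hk) (inv_mem hvK)) (inv_mem hk), ?_⟩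
      rw [show (⟨v * k * v⁻¹ * k⁻¹, _⟩ : centralizer ({a} : Set G)) =
        ⟨v, hvK⟩ * ⟨k, hk⟩ * ⟨v, hvK⟩⁻¹ * ⟨k, hk⟩⁻¹ from rfl, map_mul, map_mul, map_mul, map_inv, map_inv,
        mem_centralizer_iff.1 hq _ (mem_bar.2 ⟨v, hvK, hv, rfl⟩), mul_inv_cancel_right, mul_inv_cancel])
  obtain ⟨hnK, hn1⟩ := mem_Oc.1 hn
  refine ⟨k * n, hc, mul_mem hk hnK, ?_⟩
  rw [show (⟨k * n, _⟩ : centralizer ({a} : Set G)) = ⟨k, hk⟩ * ⟨n, hnK⟩ from rfl, map_mul, hn1, mul_one]

/-- the component centralises the complementary part -/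
theorem Split.le_cent (h : C.Split a L U) : L ≤ centralizer (bar a U : Set (Qt a)) := fun l hl =>
  mem_centralizer_iff.2 fun y hy => by
    obtain ⟨v, hv, hvU, rfl⟩ := mem_bar.1 hy
    exact (mem_centralizer_iff.1 (h.U_mem v hvU hv) l hl).symm

end Cfsg.Lib.LFourType.Coord
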