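import Cfsg.Agent.LFourType.Closure
import Cfsg.Agent.LFourType.Lift

/-!
When the side `A` is moved and the cores of its centralizers are not trivial, their closure is normalised by
the centralizers of the other side.
-/

set_option autoImplicit false
set_option linter.unusedSectionVars false
set_option linter.style.haveILetI false

namespace Cfsg.Lib.LFourType.Coord

open Subgroup
open Cfsg.Lib.Walter (Qt bar Oc mem_Oc odd_ker_qm)

universe u

/-- the projection onto `C(a)/O(C(a))` -/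
local notation "qk" => Cfsg.Lib.Walter.qm

variable {G : Type u} [Group G] [Finite G] (C : Coord G)

/-- a subgroup containing the core and covering the image contains the centralizer -/
theorem cent_le_of_gen {a : G} {M : Subgroup G} (hO : Oc a ≤ M) {X Y : Subgroup (Qt a)}
    (htop : (⊤ : Subgroup (Qt a)) ≤ X ⊔ Y) (hX : X ≤ (M.subgroupOf (centralizer ({a} : Set G))).map (qk a))
    (hY : Y ≤ (M.subgroupOf (centralizer ({a} : Set G))).map (qk a)) : centralizer ({a} : Set G) ≤ M := by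
  intro g hg
  obtain ⟨⟨m, hmK⟩, hm, e⟩ := (htop.trans (sup_le hX hY)) (mem_top (qk a ⟨g, hg⟩))
  have h1 : m⁻¹ * g ∈ Oc a := mem_Oc.2 ⟨mul_mem (inv_mem hmK) hg, by
    rw [show (⟨m⁻¹ * g, _⟩ : centralizer ({a} : Set G)) = ⟨m, hmK⟩⁻¹ * ⟨g, hg⟩ from rfl, map_mul, map_inv, e,
      inv_mul_cancel]⟩
  have := mul_mem (mem_subgroupOf.1 hm) (hO h1)
  rwa [mul_inv_cancel_left] at this

/-- the normalizer of the side lifts -/
theorem normalizer_bar_le {a : G} (ha : a ∈ C.A) {M : Subgroup G} (hNA : normalizer (C.A : Set G) ≤ M) :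
    normalizer (bar a C.A : Set (Qt a)) ≤ (M.subgroupOf (centralizer ({a} : Set G))).map (qk a) := by
  haveI : Fact (Nat.Prime 2) := ⟨Nat.prime_two⟩
  intro q hq
  obtain ⟨⟨g, hgK⟩, hg, rfl⟩ := (Cfsg.Lib.Components.normalizer_map_of_coprime_ker (p := 2)
    (QuotientGroup.mk'_surjective _) (odd_ker_qm a) (P := C.A.subgroupOf (centralizer ({a} : Set G)))
    ((C.isPGroup_of_le_S C.A_le).comap_subtype)).ge hq
  exact mem_map_of_mem _ (mem_subgroupOf.2 (hNA (ZStarApps.mem_normalizer_of_maps fun x hx =>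
    (mem_normalizer_iff.1 hg ⟨x, C.A_le_cent ha hx⟩).1 hx)))

theorem cent_Z_le {M : Subgroup G} {z : G} (hz : z ∈ C.Z) (hz1 : z ≠ 1) (hO : Oc z ≤ M)
    (hN : normalizer ((C.S : Subgroup G) : Set G) ≤ M) : centralizer ({z} : Set G) ≤ M := fun g hg => by
  obtain ⟨o, ho, m, hm, -, rfl⟩ := C.cent_Z hz hz1 hg
  exact mul_mem (hO ho) (hN hm)

variable (hM : C.Moved) (hB : ¬ C.swap.Moved)
include hM hB

theorem cent_le_normalizer_W {b : G} (hb : b ∈ C.B) (hbZ : b ∉ C.Z) :
    centralizer ({b} : Set G) ≤ normalizer (C.W : Set G) := by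
  set M := normalizer (C.W : Set G)
  obtain ⟨hWo, hWc⟩ := C.core_closure hM
  have hNA : normalizer (C.A : Set G) ≤ M := fun n hn => C.W_normalized hn
  have hN : normalizer ((C.S : Subgroup G) : Set G) ≤ M := C.normalizer_S_le.trans hNA
  have hWM : C.W ≤ M := le_normalizer
  have hZ : ∀ z ∈ C.Z, z ≠ 1 → centralizer ({z} : Set G) ≤ M := fun z hz hz1 =>
    C.cent_Z_le hz hz1 ((C.Oc_le_W (C.Z_le_A hz) hz1).trans hWM) hN
  have hNB : normalizer (C.swap.A : Set G) ≤ M := C.swap.normalizer_le_of_cent hB hN (by rwa [C.swap_Z])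
  have hSM : (C.S : Subgroup G) ≤ M := le_normalizer.trans hN
  have hdich : ∀ {u}, u ∈ C.swap.A → u ∉ C.swap.Z → _ := fun {u} hu huZ =>
    (relIndex_le_five (C := C.swap) hB hu huZ hNB (by rwa [C.swap_Z])).2
  -- the cores of the unmoved side
  have hZc : ∀ p ∈ C.Z, ∀ q ∈ C.Z, Commute p q := fun p hp q hq => C.A_comm (C.Z_le_A hp) (C.Z_le_A hq)
  have hZs : ∀ p ∈ C.Z, p * p = 1 := fun p hp => C.A_sq (C.Z_le_A hp)
  have hZn : ∀ {u}, u ∈ C.swap.A → C.Z ≤ centralizer ({u} : Set G) := fun {u} hu =>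
    (C.swap_Z ▸ C.swap.Z_le_A).trans (C.swap.A_le_cent hu)
  have hOW : ∀ {u}, u ∈ C.swap.A → Oc u ≤ C.W := fun {u} hu =>
    le_of_four' (by rw [C.card_Z]) hZc hZs (odd_Oc u) (fun p hp => Oc_normalized (hZn hu hp)) fun z hz hz1 =>
      (C.swap.Oc_inf_cent_le hu (by rwa [C.swap_Z]) hz1).trans (C.Oc_le_W (C.Z_le_A hz) hz1)
  have hWu : ∀ {u}, u ∈ C.swap.A → u ∉ C.swap.Z → C.W ⊓ centralizer ({u} : Set G) ≤ Oc u := by
    intro u hu huZ
    have hXo : Odd (Nat.card (C.W ⊓ centralizer ({u} : Set G) : Subgroup G)) :=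
      hWo.of_dvd_nat (card_dvd_of_le inf_le_left)
    have hBn : C.swap.A ≤ normalizer ((C.W ⊓ centralizer ({u} : Set G) : Subgroup G) : Set G) :=
      C.swap.inf_cent_normalized (fun y hy => hSM (C.swap.A_le hy)) hu
    rcases hdich hu huZ with h | h
    · refine le_Oc inf_le_right (fun c hc => ZStarApps.mem_normalizer_of_maps fun v hv =>
        mem_inf.2 ⟨cj_mem (h hc) (mem_inf.1 hv).1,
          mul_mem (mul_mem hc (mem_inf.1 hv).2) (inv_mem hc)⟩) hXo
    · exact le_of_four' (by rw [C.card_Z]) hZc hZs hXo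
        (fun p hp => hBn (C.swap_A.symm ▸ C.Z_le_B hp)) fun z hz hz1 => h _ (inf_le_left.trans inf_le_right)
          (hXo.of_dvd_nat (card_dvd_of_le inf_le_left))
          (C.swap.inf_cent_normalized hBn (C.swap_A.symm ▸ C.Z_le_B hz)) z (C.swap_Z.symm ▸ hz) hz1
          fun y hy => mem_centralizer_singleton_iff.1 (mem_inf.1 hy).2
  obtain ⟨hb', hbZ'⟩ := C.mem_A_not_Z_swap hb hbZ
  rcases hdich hb' hbZ' with h | -
  · exact h
  have hHn := C.swap.normalizer_bar_le hb' hNB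
  rcases C.swap.plain_or_split hB hb' hbZ' with h | ⟨L, U, h⟩
  · refine cent_le_of_gen ((hOW hb').trans hWM) (X := normalizer (bar b C.swap.A : Set (Qt b))) (Y := ⊥)
      ?_ hHn bot_le
    rw [normalizer_eq_top_iff.2 h.normal, top_sup_eq]
  refine cent_le_of_gen ((hOW hb').trans hWM) h.top (fun q hq => ?_) hHn
  obtain ⟨g, hgU, hgK, rfl⟩ := h.exists_lift (h.le_cent hq)
  refine mem_map_of_mem _ (mem_subgroupOf.2 (ZStarApps.mem_normalizer_of_maps fun x hx => ?_))
  have hgen : C.W ≤ C.W.comap (MulAut.conj g).toMonoidHom := by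
    refine le_of_four' (E := U) (by rw [h.card]) (fun p hp r hr => C.swap.A_comm (h.U_le hp) (h.U_le hr))
      (fun p hp => C.swap.A_sq (h.U_le hp)) hWo (fun p hp => hSM (C.swap.A_le (h.U_le hp))) fun e he he1 v hv => ?_
    show g * v * g⁻¹ ∈ C.W
    have h1 := conj_Oc g e (hWu (h.U_le he) (fun hz => he1 (h.U_Z e he hz)) hv)
    rw [← mem_centralizer_iff.1 hgU e he, mul_inv_cancel_right] at h1
    exact hOW (h.U_le he) h1
  exact hgen hx

/-- the cores of the centralizers of the moved side are trivial -/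
theorem W_eq_bot (hO : Cfsg.oddCore G = ⊥) : C.W = ⊥ := by
  obtain ⟨hWo, -⟩ := C.core_closure hM
  have hNA : normalizer (C.A : Set G) ≤ normalizer (C.W : Set G) := fun n hn => C.W_normalized hn
  have htop : normalizer (C.W : Set G) = ⊤ := C.eq_top_moved hM hB hNA
    (fun z hz hz1 => C.cent_Z_le hz hz1 ((C.Oc_le_W (C.Z_le_A hz) hz1).trans le_normalizer)
      (C.normalizer_S_le.trans hNA))
    fun b hb hbZ => C.cent_le_normalizer_W hM hB hb hbZ
  haveI : C.W.Normal := normalizer_eq_top_iff.1 htop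
  exact le_bot_iff.1 (hO ▸ Cfsg.Lib.AltEightType.le_oddCore hWo)

end Cfsg.Lib.LFourType.Coord
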