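import Cfsg.Agent.LFourType.Functor
import Cfsg.Agent.LFourType.CaseTwoMoved

/-!
Neither side moved and no odd core: the commutator of the closure of the functor with the side is trivial.
-/

set_option autoImplicit false
set_option linter.unusedSectionVars false
set_option linter.style.haveILetI false
set_option maxHeartbeats 400000

namespace Cfsg.Lib.LFourType.Coord

open Subgroup
open Cfsg.Lib.Walter (Oc)
open scoped commutatorElement

universe u

variable {G : Type u} [Group G] [Finite G] (C : Coord G)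

/-- the cores below a subgroup -/
def WY (H : Subgroup G) : Subgroup G := ⨆ B : {B // Cfsg.Lib.KBal.Big 2 2 H B}, Dl B.1

/-- the invariant attached to a large subgroup -/
def ThY (H : Subgroup G) : Subgroup G := ⁅WY H, H⁆ ⊔ Dl H

/-- the invariant of the side -/
def Th : Subgroup G := ⁅C.Wd, C.A⁆ ⊔ Dl C.A

theorem Dl_le_WY {H B : Subgroup G} (hB : B ≤ H) (h4 : 4 ≤ Nat.card B) : Dl B ≤ WY H :=
  le_iSup (fun B : {B // Cfsg.Lib.KBal.Big 2 2 H B} => Dl B.1) ⟨B, hB, by norm_num; exact h4⟩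

theorem cent_le_normalizer_WY {H : Subgroup G} : centralizer (H : Set G) ≤ normalizer (WY H : Set G) :=
  fun n hn => ZStarApps.mem_normalizer_of_maps fun x hx => by
    have hle : WY H ≤ (WY H).comap (MulAut.conj n).toMonoidHom := iSup_le fun B v hv =>
      le_iSup (fun B : {B // Cfsg.Lib.KBal.Big 2 2 H B} => Dl B.1) B
        ((mem_normalizer_iff.1 (cent_le_normalizer_Dl (centralizer_le B.2.1 hn)) v).1 hv)
    exact hle hx

theorem cent_le_normalizer_ThY {H : Subgroup G} : centralizer (H : Set G) ≤ normalizer (ThY H : Set G) :=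
  fun n hn => by
    refine mem_normalizer_sup (ZStarApps.mem_normalizer_of_maps fun x hx => ?_) (cent_le_normalizer_Dl hn)
    have hle : ⁅WY H, H⁆ ≤ (⁅WY H, H⁆).comap (MulAut.conj n).toMonoidHom := commutator_le.2 fun w hw h hh => by
      show n * ⁅w, h⁆ * n⁻¹ ∈ (⁅WY H, H⁆ : Subgroup G)
      have e : n * h * n⁻¹ = h := by rw [← mem_centralizer_iff.1 hn h hh, mul_inv_cancel_right]
      have := commutator_mem_commutator (H₁ := WY H) (H₂ := H)
        ((mem_normalizer_iff.1 (cent_le_normalizer_WY hn) w).1 hw) hh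
      rwa [show n * ⁅w, h⁆ * n⁻¹ = ⁅n * w * n⁻¹, n * h * n⁻¹⁆ by simp [commutatorElement_def, mul_assoc], e]
    exact hle hx

theorem A_le_normalizer_ThY {H : Subgroup G} (hH : H ≤ C.A) : C.A ≤ normalizer (ThY H : Set G) :=
  (C.A_le_centralizer.trans (centralizer_le hH)).trans cent_le_normalizer_ThY

variable (hA : ¬ C.Moved)
include hA

theorem FA_inf_Dl_le {H : Subgroup G} (hH : H ≤ C.A) (h8 : 8 ≤ Nat.card H) : C.FA ⊓ Dl H ≤ Dl C.A := by
  refine le_Dl fun a ha ha1 f hf => ?_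
  by_cases haZ : a ∈ C.Z
  · exact C.FA_le_Oc haZ ha1 hf.1
  refine C.mem_Oc_of_FA hA ha haZ hf.1 fun L U h => ?_
  by_contra hcon
  push Not at hcon
  have hdis : ∀ e ∈ U, e ∈ H → e = 1 := fun e he heH => by
    by_contra he1
    exact hcon e he (Dl_le heH he1 hf.2)
  have hinj : Function.Injective (fun p : U × H =>
      (⟨p.1 * p.2, mul_mem (h.U_le p.1.2) (hH p.2.2)⟩ : C.A)) := by
    intro p q e
    have e' : (p.1 : G) * p.2 = q.1 * q.2 := congrArg Subtype.val e
    have h1 : (q.1 : G)⁻¹ * p.1 = q.2 * (p.2 : G)⁻¹ := by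
      rw [eq_mul_inv_iff_mul_eq, mul_assoc, e', inv_mul_cancel_left]
    have h2 := hdis _ (mul_mem (inv_mem q.1.2) p.1.2) (h1 ▸ mul_mem q.2.2 (inv_mem p.2.2))
    have h3 : p.1 = q.1 := Subtype.ext (inv_mul_eq_one.1 h2).symm
    rw [h3] at e'
    exact Prod.ext h3 (Subtype.ext (mul_left_cancel e'))
  have := Nat.card_le_card_of_injective _ hinj
  rw [Nat.card_prod, h.card, C.card_A] at this
  omega

theorem ThY_le_Th {H : Subgroup G} (hH : H ≤ C.A) (h8 : 8 ≤ Nat.card H) : ThY H ≤ C.Th := by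
  refine sup_le (le_sup_of_le_left (commutator_mono (iSup_le fun B => ?_) hH)) ?_
  · exact C.Dl_le_Wd (B.2.1.trans hH) (by simpa using B.2.2)
  have ho : Odd (Nat.card (Dl H)) := odd_Dl (by omega)
  have hcop : (Nat.card C.A).Coprime (Nat.card (Dl H)) := by
    rw [C.card_A, show (16 : ℕ) = 2 ^ 4 from rfl]
    exact (Nat.coprime_two_left.2 ho).pow_left 4
  rw [← Cfsg.Lib.Coprime.commutator_sup_centralizer (C.A_le_normalizer_Dl hH) hcop
    (Or.inl (Group.isSolvable_of_comm fun p q => Subtype.ext (C.A_comm p.2 q.2).eq))]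
  refine sup_le (le_sup_of_le_left (commutator_mono (C.Dl_le_Wd hH (by omega)) le_rfl)) (le_sup_of_le_right ?_)
  exact fun x hx => C.FA_inf_Dl_le hA hH h8 ⟨C.mem_FA_of_odd hx.2 (odd_orderOf ho hx.1), hx.1⟩

theorem Th_le_ThY {H : Subgroup G} (hH : H ≤ C.A) (h8 : 8 ≤ Nat.card H) : C.Th ≤ ThY H := by
  obtain ⟨hWo, -⟩ := C.Wd_spec hA
  refine sup_le (commutator_le.2 fun w hw a ha => ?_) (le_sup_of_le_right (Dl_anti hH))
  set T := ThY H
  let S : Subgroup G :=
    { carrier := {w | w ∈ normalizer (T : Set G) ∧ ∀ a ∈ C.A, ⁅w, a⁆ ∈ T}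
      one_mem' := ⟨one_mem _, fun a _ => by simp [commutatorElement_def]⟩
      mul_mem' := by
        rintro p q ⟨hp, hp'⟩ ⟨hq, hq'⟩
        refine ⟨mul_mem hp hq, fun a ha => ?_⟩
        rw [show ⁅p * q, a⁆ = p * ⁅q, a⁆ * p⁻¹ * ⁅p, a⁆ by simp [commutatorElement_def, mul_assoc]]
        exact mul_mem ((mem_normalizer_iff.1 hp _).1 (hq' a ha)) (hp' a ha)
      inv_mem' := by
        rintro p ⟨hp, hp'⟩
        refine ⟨inv_mem hp, fun a ha => ?_⟩
        rw [show ⁅p⁻¹, a⁆ = p⁻¹ * ⁅p, a⁆⁻¹ * p⁻¹⁻¹ by simp [commutatorElement_def, mul_assoc]]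
        exact (mem_normalizer_iff.1 (inv_mem hp) _).1 (inv_mem (hp' a ha)) }
  have hT : T ≤ S := fun t ht => ⟨le_normalizer ht, fun a ha => by
    rw [show ⁅t, a⁆ = t * (a * t⁻¹ * a⁻¹) by simp [commutatorElement_def, mul_assoc]]
    exact mul_mem ht ((mem_normalizer_iff.1 (C.A_le_normalizer_ThY hH ha) _).1 (inv_mem ht))⟩
  suffices hS : C.Wd ≤ S by exact (hS hw).2 a ha
  have hFA : C.FA ≤ S := fun f hf => ⟨cent_le_normalizer_ThY (C.FA_le_cent hH hf), fun a ha => by
    rw [commutatorElement_eq_one_iff_mul_comm.2 (C.FA_commute hf ha).symm.eq]; exact one_mem _⟩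
  have hWY : WY H ≤ S := iSup_le fun B => by
    have h4 : 4 ≤ Nat.card B.1 := by simpa using B.2.2
    have hBA : B.1 ≤ C.A := B.2.1.trans hH
    have ho : Odd (Nat.card (Dl B.1)) := odd_Dl (by omega)
    have hcop : (Nat.card H).Coprime (Nat.card (Dl B.1)) := by
      refine Nat.Coprime.coprime_dvd_left (card_dvd_of_le hH) ?_
      rw [C.card_A, show (16 : ℕ) = 2 ^ 4 from rfl]
      exact (Nat.coprime_two_left.2 ho).pow_left 4
    rw [← Cfsg.Lib.Coprime.commutator_sup_centralizer (hH.trans (C.A_le_normalizer_Dl hBA)) hcop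
      (Or.inl (Group.isSolvable_of_comm fun p q => Subtype.ext (C.A_comm (hH p.2) (hH q.2)).eq))]
    refine sup_le (le_trans (le_sup_of_le_left (commutator_mono (Dl_le_WY B.2.1 h4) le_rfl)) hT) fun c hc => ?_
    refine ⟨cent_le_normalizer_ThY hc.2, fun a ha => mem_sup_right
      (le_Dl (X := zpowers ⁅c, a⁆) (fun h hh hh1 => zpowers_le.2 ?_) (mem_zpowers _))⟩
    have := C.triv_at hA (hH hh) hh1
      (X := Dl B.1 ⊓ centralizer (H : Set G))
      (inf_le_right.trans (centralizer_le (Set.singleton_subset_iff.2 hh)))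
      (ho.of_dvd_nat (card_dvd_of_le inf_le_left))
      (fun y hy => mem_normalizer_inf (C.A_le_normalizer_Dl hBA hy) (C.A_le_normalizer_cent' hH hy))
      hBA h4 inf_le_left c⁻¹ (inv_mem hc) a ha
    rwa [show c⁻¹⁻¹ * (a * c⁻¹ * a⁻¹) = ⁅c, a⁆ by simp [commutatorElement_def, mul_assoc]] at this
  refine le_trans ?_ (sup_le hWY hFA)
  refine le_of_four (E := H) (by omega) (fun p hp q hq => C.A_comm (hH hp) (hH hq))
    (fun p hp => C.A_sq (hH hp)) hWo
    ((hH.trans le_normalizer).trans fun y hy => C.Wd_normalized hy) fun K hK h2 => ?_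
  have hKA : K ≤ C.A := hK.trans hH
  have h4 : 4 ≤ Nat.card K := by omega
  refine (C.le_Dl_sup hKA inf_le_right (hWo.of_dvd_nat (card_dvd_of_le inf_le_left))
    (fun y hy => mem_normalizer_inf (C.Wd_normalized (le_normalizer hy)) (C.A_le_normalizer_cent' hKA hy))
    fun k hk hk1 => C.Wd_inf_triv hA (hKA hk) hk1
      (inf_le_inf_left _ (centralizer_le (Set.singleton_subset_iff.2 hk)))).trans ?_
  exact sup_le (le_sup_of_le_left (inf_le_right.trans (Dl_le_WY hK h4))) (le_sup_of_le_right inf_le_right)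

theorem Th_eq_bot (hO : Cfsg.oddCore G = ⊥) (hB : ¬ C.swap.Moved) : C.Th = ⊥ := by
  obtain ⟨hWo, -⟩ := C.Wd_spec hA
  have hNA : normalizer (C.A : Set G) ≤ normalizer (C.Th : Set G) := fun n hn => by
    refine mem_normalizer_sup (ZStarApps.mem_normalizer_of_maps fun x hx => ?_)
      (ZStarApps.mem_normalizer_of_maps fun x hx => ?_)
    · have hle : ⁅C.Wd, C.A⁆ ≤ (⁅C.Wd, C.A⁆).comap (MulAut.conj n).toMonoidHom := commutator_le.2 fun w hw a ha => by
        show n * ⁅w, a⁆ * n⁻¹ ∈ (⁅C.Wd, C.A⁆ : Subgroup G)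
        rw [show n * ⁅w, a⁆ * n⁻¹ = ⁅n * w * n⁻¹, n * a * n⁻¹⁆ by simp [commutatorElement_def, mul_assoc]]
        exact commutator_mem_commutator ((mem_normalizer_iff.1 (C.Wd_normalized hn) w).1 hw) (cj_mem hn ha)
      exact hle hx
    · refine le_Dl (X := zpowers (n * x * n⁻¹)) (fun b hb hb1 => zpowers_le.2 ?_) (mem_zpowers _)
      have h1 : n⁻¹ * b * n ∈ C.A := by simpa using cj_mem (inv_mem hn) hb
      have := conj_Oc n (n⁻¹ * b * n) (Dl_le h1 (fun e => hb1 (by
        have := congrArg (fun q => n * q * n⁻¹) e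
        simpa [mul_assoc] using this)) hx)
      rwa [show n * (n⁻¹ * b * n) * n⁻¹ = b by group] at this
  have hcentH : ∀ H ≤ C.A, 8 ≤ Nat.card H → centralizer (H : Set G) ≤ normalizer (C.Th : Set G) := fun H hH h8 => by
    rw [le_antisymm (C.Th_le_ThY hA hH h8) (C.ThY_le_Th hA hH h8)]
    exact cent_le_normalizer_ThY
  have hN : normalizer ((C.S : Subgroup G) : Set G) ≤ normalizer (C.Th : Set G) := C.normalizer_S_le.trans hNA
  have hZ : ∀ z ∈ C.Z, z ≠ 1 → centralizer ({z} : Set G) ≤ normalizer (C.Th : Set G) := fun z hz hz1 =>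
    C.cent_Z_le hz hz1 (le_of_four (E := C.A) (by rw [C.card_A]; norm_num) (fun p hp q hq => C.A_comm hp hq)
      (fun p hp => C.A_sq hp) (odd_Oc z) (C.A_le_normalizer_Oc (C.Z_le_A hz)) fun H hH h8 =>
        inf_le_right.trans (hcentH H hH (by rw [C.card_A] at h8; omega))) hN
  have hNB := C.normalizer_B_le_of_cent hB hN hZ
  have htop := C.eq_top_of_contains hA hB _ hN hNA hNB hZ
    (fun a ha haZ => (relIndex_le_five (C := C) hA ha haZ hNA hZ).1)
    (fun b hb hbZ => by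
      obtain ⟨hb', hbZ'⟩ := C.mem_A_not_Z_swap hb hbZ
      exact (relIndex_le_five (C := C.swap) hB hb' hbZ' (by rwa [C.swap_A]) (by rwa [C.swap_Z])).1)
  haveI : C.Th.Normal := normalizer_eq_top_iff.1 htop
  have hle : C.Th ≤ C.Wd := sup_le
    (Cfsg.Lib.Coprime.commutator_le_of_le_normalizer fun y hy => C.Wd_normalized (le_normalizer hy))
    (C.Dl_le_Wd le_rfl (by rw [C.card_A]; norm_num))
  exact le_bot_iff.1 (hO ▸ Cfsg.Lib.AltEightType.le_oddCore (hWo.of_dvd_nat (card_dvd_of_le hle)))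

/-- **the cores of the four-subgroups of the side centralise it** -/
theorem Dl_le_FA (hO : Cfsg.oddCore G = ⊥) (hB : ¬ C.swap.Moved) :
    (∀ B ≤ C.A, 4 ≤ Nat.card B → Dl B ≤ C.FA) ∧ Dl C.A = ⊥ := by
  have h := C.Th_eq_bot hA hO hB
  obtain ⟨h1, h2⟩ := sup_eq_bot_iff.1 h
  refine ⟨fun B hB h4 x hx => C.mem_FA_of_odd ?_ (odd_orderOf (odd_Dl (by omega)) hx), h2⟩
  exact commutator_eq_bot_iff_le_centralizer.1 h1 (C.Dl_le_Wd hB h4 hx)

end Cfsg.Lib.LFourType.Coord
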