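import Cfsg.Agent.LFourType.Fusion

/-!
Strong closure of the sides; coordinates in subgroups and quotients.
-/

set_option autoImplicit false

namespace Cfsg.Lib.LFourType.Coord

open Subgroup

variable {G : Type*} [Group G] (C : Coord G) [Finite G]

theorem unfused_A (h : ¬ C.Moved) {a : G} (ha : a ∈ C.A) (haZ : a ∉ C.Z) : ∀ g : G, g * a * g⁻¹ ∉ C.Z :=
  fun _ hg => h (C.moved_of_fused ha haZ hg)

theorem unfused_B (h : ¬ C.swap.Moved) {b : G} (hb : b ∈ C.B) (hbZ : b ∉ C.Z) : ∀ g : G, g * b * g⁻¹ ∉ C.Z := by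
  rw [← C.swap_Z] at hbZ ⊢
  exact C.swap.unfused_A h (by rwa [C.swap_A]) hbZ

/-- if `B` is not moved then `A` is strongly closed -/
theorem A_closed (hB : ¬ C.swap.Moved) {a g : G} (ha : a ∈ C.A) (hg : g * a * g⁻¹ ∈ (C.S : Subgroup G)) :
    g * a * g⁻¹ ∈ C.A := by
  by_cases h : ∃ k : G, k * a * k⁻¹ ∈ C.Z
  · obtain ⟨k, hk⟩ := h
    have h2 : g * a * g⁻¹ * (g * a * g⁻¹) = 1 := by
      rw [show g * a * g⁻¹ * (g * a * g⁻¹) = g * (a * a) * g⁻¹ by group, C.A_sq ha]; group
    by_contra hc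
    have hbB := (C.mem_A_or_B hg h2).resolve_left hc
    refine C.unfused_B hB hbB (fun hz => hc (C.Z_le_A hz)) (k * g⁻¹) ?_
    simpa [mul_assoc] using hk
  · have h' := not_exists.1 h
    exact (C.conj_into_A ha (fun hz => h' 1 (by simpa using hz)) h' hg).1

/-- fusion inside the centre is realised in the normalizer of the Sylow subgroup -/
theorem exists_normalizer_S {z g : G} (hz : z ∈ C.Z) (hg : g * z * g⁻¹ ∈ C.Z) :
    ∃ n ∈ normalizer ((C.S : Subgroup G) : Set G), n * z * n⁻¹ = g * z * g⁻¹ := by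
  haveI : Fact (Nat.Prime 2) := ⟨Nat.prime_two⟩
  have hn : ∀ w ∈ C.Z, (C.S : Subgroup G) ≤ normalizer ({w} : Set G) := fun w hw s hs => by
    have hc := (C.Z_central hw hs).symm.eq
    refine Subgroup.mem_set_normalizer_iff.2 fun y => ?_
    simp only [Set.mem_singleton_iff]
    constructor
    · rintro rfl; rw [hc, mul_inv_cancel_right]
    · intro h
      have e : s * y * s⁻¹ = s * w * s⁻¹ := by rw [h, hc, mul_inv_cancel_right]
      exact mul_left_cancel (mul_right_cancel e)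
  obtain ⟨n, hn, e⟩ := Cfsg.Lib.Transfer.burnside_fusion_set C.S {z} {g * z * g⁻¹} (hn z hz) (hn _ hg) g
    (Set.image_singleton)
  refine ⟨n, hn, ?_⟩
  rw [Set.image_singleton, Set.singleton_eq_singleton_iff] at e
  exact e

/-- the coordinates inside a subgroup containing the Sylow subgroup -/
def restrict (K : Subgroup G) (h : (C.S : Subgroup G) ≤ K) : Coord K where
  S := C.S.subtype h
  e x := ⟨C.e x, h (C.e_mem x)⟩
  e_mul x y := Subtype.ext (C.e_mul x y)
  e_inj x y he := C.e_inj (congrArg Subtype.val he)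
  e_range := by
    ext ⟨g, hg⟩
    constructor
    · rintro ⟨x, hx⟩
      obtain rfl : C.e x = g := congrArg Subtype.val hx
      exact C.e_mem x
    · intro hgS
      obtain ⟨x, rfl⟩ := C.exists_coord (show g ∈ (C.S : Subgroup G) from hgS)
      exact ⟨x, rfl⟩

theorem restrict_A (K : Subgroup G) (h : (C.S : Subgroup G) ≤ K) : (C.restrict K h).A = C.A.subgroupOf K := by
  ext ⟨g, hg⟩
  constructor
  · rintro ⟨x, hx, he⟩
    exact ⟨x, hx, congrArg Subtype.val he⟩
  · rintro ⟨x, hx, he⟩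
    exact ⟨x, hx, Subtype.ext he⟩

theorem restrict_Z (K : Subgroup G) (h : (C.S : Subgroup G) ≤ K) : (C.restrict K h).Z = C.Z.subgroupOf K := by
  ext ⟨g, hg⟩
  constructor
  · intro hz
    obtain ⟨x, hx⟩ := (C.restrict K h).exists_coord ((C.restrict K h).Z_le hz)
    obtain rfl : C.e x = g := congrArg Subtype.val hx
    rw [← hx, Coord.mem_Z] at hz
    exact C.mem_Z.2 hz
  · intro hz
    obtain ⟨x, rfl⟩ := C.exists_coord (C.Z_le hz)
    exact (C.restrict K h).mem_Z.2 (C.mem_Z.1 hz)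

omit [Finite G] in
/-- a homomorphism with kernel of odd order is injective on the Sylow subgroup -/
theorem eq_one_of_map {Q : Type*} [Group Q] (f : G →* Q) (hk : Odd (Nat.card f.ker)) {g : G}
    (hg : g ∈ (C.S : Subgroup G)) (h : f g = 1) : g = 1 := by
  have h1 : orderOf g ∣ Nat.card f.ker := f.ker.orderOf_dvd_natCard (MonoidHom.mem_ker.2 h)
  have h2 : orderOf g ∣ 2 ^ 6 := by
    have hd := orderOf_dvd_natCard (⟨g, hg⟩ : (C.S : Subgroup G))
    rw [orderOf_mk, C.card_S] at hd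
    exact hd
  have h3 : (2 ^ 6).Coprime (Nat.card f.ker) := (Nat.coprime_two_left.2 hk).pow_left 6
  exact orderOf_eq_one_iff.1 (Nat.eq_one_of_dvd_coprimes h3 h2 h1)

/-- the coordinates in an image with odd kernel -/
noncomputable def mapHom {Q : Type*} [Group Q] [Finite Q] (f : G →* Q) (hf : Function.Surjective f)
    (hk : Odd (Nat.card f.ker)) : Coord Q :=
  haveI : Fact (Nat.Prime 2) := ⟨Nat.prime_two⟩
  { S := C.S.mapSurjective hf
    e := fun x => f (C.e x)
    e_mul := fun x y => by rw [C.e_mul, map_mul]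
    e_inj := fun x y he => by
      refine C.e_inj (inv_mul_eq_one.1 (C.eq_one_of_map f hk
        (mul_mem (inv_mem (C.e_mem x)) (C.e_mem y)) ?_))
      rw [map_mul, map_inv, show f (C.e x) = f (C.e y) from he, inv_mul_cancel]
    e_range := by
      ext q
      constructor
      · rintro ⟨x, rfl⟩
        exact ⟨C.e x, C.e_mem x, rfl⟩
      · rintro ⟨g, hg, rfl⟩
        obtain ⟨x, rfl⟩ := C.exists_coord hg
        exact ⟨x, rfl⟩ }

theorem mapHom_A {Q : Type*} [Group Q] [Finite Q] (f : G →* Q) (hf : Function.Surjective f)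
    (hk : Odd (Nat.card f.ker)) : (C.mapHom f hf hk).A = C.A.map f := by
  ext q
  constructor
  · rintro ⟨x, hx, rfl⟩; exact ⟨C.e x, ⟨x, hx, rfl⟩, rfl⟩
  · rintro ⟨_, ⟨x, hx, rfl⟩, rfl⟩; exact ⟨x, hx, rfl⟩

theorem mapHom_B {Q : Type*} [Group Q] [Finite Q] (f : G →* Q) (hf : Function.Surjective f)
    (hk : Odd (Nat.card f.ker)) : (C.mapHom f hf hk).B = C.B.map f := by
  ext q
  constructor
  · rintro ⟨x, hx, rfl⟩; exact ⟨C.e x, ⟨x, hx, rfl⟩, rfl⟩
  · rintro ⟨_, ⟨x, hx, rfl⟩, rfl⟩; exact ⟨x, hx, rfl⟩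

end Cfsg.Lib.LFourType.Coord
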