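import Cfsg.Agent.LFourType.Linear
import Cfsg.Agent.LFourType.Spec
import Cfsg.Agent.S0051
import Cfsg.Agent.AutThreeFour.AutPGL
import Cfsg.Agent.AltEightType.Core

/-!
A normal side: the group is a group of affine maps of the plane over the field with four elements.
-/

set_option autoImplicit false
set_option linter.unusedSectionVars false
set_option linter.style.haveILetI false

namespace Cfsg.Lib.LFourType

open Subgroup Matrix Spread

universe u v

theorem pv_comb : ∀ (p q : Fin 4) (a b : Fin 16), pv (xa (smul p a) (smul q b)) =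
    (qa (qm p (pv a).1) (qm q (pv b).1), 0, qa (qm p (pv a).2.2) (qm q (pv b).2.2)) := by decide +kernel

/-- the field with four elements in codes -/
theorem exists_code (F : Type v) [Field F] [Fintype F] (hF : Fintype.card F = 4) :
    ∃ σ : Fin 4 → F, Function.Injective σ ∧ σ 0 = 0 ∧ σ 1 = 1 ∧ (∀ a b, σ (qa a b) = σ a + σ b) ∧
      ∀ a b, σ (qm a b) = σ a * σ b := by
  classical
  haveI := Cfsg.Lib.AutThreeFour.charTwo hF
  obtain ⟨u, hu⟩ : ∃ u : F, u ∉ ({0, 1} : Finset F) := by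
    refine Classical.byContradiction fun h => ?_
    push Not at h
    have := Finset.card_le_card (show (Finset.univ : Finset F) ⊆ {0, 1} from fun x _ => h x)
    have h2 : ({0, 1} : Finset F).card ≤ 2 := Finset.card_insert_le _ _ |>.trans (by simp)
    rw [Finset.card_univ, hF] at this
    omega
  simp only [Finset.mem_insert, Finset.mem_singleton, not_or] at hu
  obtain ⟨h0, h1⟩ := hu
  have h2 : (2 : F) = 0 := CharTwo.two_eq_zero
  have h3 : u ^ 3 = 1 := by
    have := FiniteField.pow_card_sub_one_eq_one u h0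
    rwa [hF] at this
  have hq : u * u + u + 1 = 0 := by
    have : (u - 1) * (u * u + u + 1) = 0 := by linear_combination h3
    exact (mul_eq_zero.1 this).resolve_left (sub_ne_zero.2 h1)
  have hu1 : u + 1 ≠ 0 := fun e => h1 (by linear_combination e - h2)
  refine ⟨![0, 1, u, u + 1], ?_, rfl, rfl, ?_, ?_⟩
  · intro a b e
    fin_cases a <;> fin_cases b <;>
      first
      | rfl
      | (exfalso; simp at e; done)
      | (exfalso; simp at e; first
          | exact h0 e | exact h0 e.symm | exact h1 e | exact h1 e.symm | exact hu1 e | exact hu1 e.symm)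
      | (exfalso; simp [h0] at e; done)
  · intro a b
    fin_cases a <;> fin_cases b <;> simp [qa] <;>
      first
      | ring1
      | linear_combination h2
      | linear_combination -h2
      | linear_combination u * h2
      | linear_combination -u * h2
      | linear_combination (u + 1) * h2
      | linear_combination -(u + 1) * h2
  · intro a b
    fin_cases a <;> fin_cases b <;> simp [qm] <;>
      first
      | ring1
      | linear_combination hq - (u + 1) * h2
      | linear_combination hq - h2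
      | linear_combination hq
      | linear_combination -hq
      | linear_combination -hq + (u + 1) * h2
      | linear_combination -hq + h2
      | linear_combination -hq + u * h2

/-- the matrix of an affine map in codes -/
def affM {F : Type v} [Field F] (σ : Fin 4 → F) (f : Fin 16 → Fin 16) (v : Fin 16) : Matrix (Fin 3) (Fin 3) F :=
  !![σ (pv (f 1)).1, σ (pv (f 4)).1, σ (pv v).1;
     σ (pv (f 1)).2.2, σ (pv (f 4)).2.2, σ (pv v).2.2;
     0, 0, 1]

theorem affM_mul {F : Type v} [Field F] {σ : Fin 4 → F} (hadd : ∀ a b, σ (qa a b) = σ a + σ b)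
    (hmul : ∀ a b, σ (qm a b) = σ a * σ b) (f : Fin 16 → Fin 16)
    (hf : ∀ v, f v = xa (smul (pv v).1 (f 1)) (smul (pv v).2.2 (f 4))) (g : Fin 16 → Fin 16) (v w : Fin 16) :
    affM σ f v * affM σ g w = affM σ (f ∘ g) (xa v (f w)) := by
  have h1 : ∀ u, σ (pv (f u)).1 = σ (pv u).1 * σ (pv (f 1)).1 + σ (pv u).2.2 * σ (pv (f 4)).1 ∧
      σ (pv (f u)).2.2 = σ (pv u).1 * σ (pv (f 1)).2.2 + σ (pv u).2.2 * σ (pv (f 4)).2.2 := fun u => by
    conv =>
      congr
      · lhs; rw [hf u, pv_comb]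
      · lhs; rw [hf u, pv_comb]
    simp only [hadd, hmul, and_self]
  have h2 : ∀ a b, σ (pv (xa a b)).1 = σ (pv a).1 + σ (pv b).1 ∧ σ (pv (xa a b)).2.2 = σ (pv a).2.2 + σ (pv b).2.2 :=
    fun a b => by
      have e : ∀ a b : Fin 16, (pv (xa a b)).1 = qa (pv a).1 (pv b).1 ∧ (pv (xa a b)).2.2 = qa (pv a).2.2 (pv b).2.2 := by
        decide +kernel
      rw [(e a b).1, (e a b).2, hadd, hadd]
      exact ⟨rfl, rfl⟩
  ext i j
  fin_cases i <;> fin_cases j <;>
    simp [affM, Matrix.mul_apply, Fin.sum_univ_three, (h1 (g 1)).1, (h1 (g 1)).2, (h1 (g 4)).1, (h1 (g 4)).2,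
      (h2 v (f w)).1, (h2 v (f w)).2, (h1 w).1, (h1 w).2] <;> ring

namespace Coord

variable {G : Type u} [Group G] [Finite G] (C : Coord G)

theorem cent_le_A_of_normal (hO : Cfsg.oddCore G = ⊥) [C.A.Normal] : centralizer (C.A : Set G) ≤ C.A := by
  haveI : C.FA.Normal := normalizer_eq_top_iff.1 (top_le_iff.1 ((normalizer_eq_top_iff.2 ‹C.A.Normal›).ge.trans C.FA_normalized))
  have hFA : C.FA = ⊥ := le_bot_iff.1 (hO ▸ Cfsg.Lib.AltEightType.le_oddCore C.odd_FA)
  intro x hx
  obtain ⟨a, ha, f, hf, rfl⟩ := C.cent_decomp hx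
  rw [hFA, mem_bot] at hf
  rwa [hf, mul_one]

theorem exists_complement [C.A.Normal] : ∃ H : Subgroup G, IsComplement' C.A H := by
  haveI : Fact (Nat.Prime 2) := ⟨Nat.prime_two⟩
  haveI : IsMulCommutative C.A := ⟨⟨fun a b => Subtype.ext (C.A_comm a.2 b.2).eq⟩⟩
  let L : Subgroup G :=
    { carrier := C.e '' {x | x.1 = 0 ∧ x.2.2 = 0}
      one_mem' := ⟨0, ⟨rfl, rfl⟩, C.e_zero⟩
      mul_mem' := by
        rintro _ _ ⟨x, ⟨hx, hx'⟩, rfl⟩ ⟨y, ⟨hy, hy'⟩, rfl⟩
        refine ⟨mm x y, ⟨?_, ?_⟩, C.e_mul x y⟩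
        · show qa x.1 y.1 = 0
          rw [hx, hy]; rfl
        · show qa (qa x.2.2 y.2.2) (qm x.1 y.2.1) = 0
          rw [hx, hx', hy', (qa_zero _).2.2.2.2]; rfl
      inv_mem' := by
        rintro _ ⟨x, ⟨hx, hx'⟩, rfl⟩
        refine ⟨mi x, ⟨hx, ?_⟩, (C.e_inv x).symm⟩
        show qa x.2.2 (qm x.1 x.2.1) = 0
        rw [hx, hx', (qa_zero _).2.2.2.2]; rfl }
  have hL : L ≤ (C.S : Subgroup G) := by rintro _ ⟨x, -, rfl⟩; exact C.e_mem x
  refine Cfsg.Agent.S0051.result C.A (C.S : Subgroup G) C.A_le ?_ L hL ?_ ?_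
  · rw [C.card_A, show (16 : ℕ) = 2 ^ 4 by norm_num]
    exact ((Nat.prime_two.coprime_iff_not_dvd).2 C.S.not_dvd_index).pow_left 4
  · rw [eq_bot_iff]
    rintro _ ⟨⟨x, ⟨h1, h3⟩, rfl⟩, hA⟩
    exact C.e_eq_one.2 (Prod.ext h1 (Prod.ext (C.mem_A.1 hA) h3))
  · refine le_antisymm (sup_le C.A_le hL) fun s hs => ?_
    obtain ⟨⟨a, b, c⟩, rfl⟩ := C.exists_coord hs
    rw [show ((a, b, c) : Mo) = mm (a, 0, qa c (qm a b)) (0, b, 0) from
      ((by decide +kernel : ∀ a b c : Fin 4, mm (a, 0, qa c (qm a b)) (0, b, 0) = (a, b, c)) a b c).symm, C.e_mul]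
    exact mul_mem (mem_sup_left (C.mem_A.2 rfl)) (mem_sup_right ⟨_, ⟨rfl, rfl⟩, rfl⟩)

theorem affine_embeds {F : Type v} [Field F] [Fintype F] (hF : Fintype.card F = 4) (hO : Cfsg.oddCore G = ⊥)
    [hn : C.A.Normal] (hl : C.IsLin) : Embeds G F := by
  classical
  obtain ⟨σ, hσ, hσ0, hσ1, hadd, hmul⟩ := exists_code F hF
  obtain ⟨H, hH⟩ := C.exists_complement
  have hN : normalizer (C.A : Set G) = ⊤ := normalizer_eq_top_iff.2 hn
  let ac : G →* Equiv.Perm (Fin 16) := C.act.comp ((MonoidHom.id G).codRestrict _ fun g => hN.ge (mem_top g))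
  have hspec : ∀ g v, C.eA (ac g v) = g * C.eA v * g⁻¹ := fun g v => C.act_spec _ v
  have hfl : ∀ g v, ac g v = xa (smul (pv v).1 (ac g 1)) (smul (pv v).2.2 (ac g 4)) := fun g v => C.act_lin hl _ v
  choose ah hah using fun g : G => hH.2 g
  have huniq : ∀ g (a : ↥C.A) (h : ↥H), (a : G) * h = g → ah g = (a, h) := fun g a h e => hH.1 ((hah g).trans e.symm)
  choose vA hvA using fun g : G => C.exists_eA (ah g).1.2
  have hval : ∀ g, C.eA (vA g) * ((ah g).2 : G) = g := fun g => by rw [hvA]; exact hah g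
  let M : G → Matrix (Fin 3) (Fin 3) F := fun g => affM σ (ac (ah g).2) (vA g)
  have hkey : ∀ g g', ah (g * g') = (⟨C.eA (xa (vA g) (ac (ah g).2 (vA g'))), C.eA_mem _⟩, (ah g).2 * (ah g').2) :=
    fun g g' => huniq _ _ _ (by
      show C.eA _ * ((ah g).2 * (ah g').2 : G) = g * g'
      rw [C.eA_xa, hspec]
      conv_rhs => rw [← hval g, ← hval g']
      group)
  have hM1 : M 1 = 1 := by
    have e := huniq 1 1 1 (by simp)
    have hv : vA 1 = 0 := C.eA_inj (by rw [hvA, e, C.eA_zero]; rfl)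
    have h2 : ((ah 1).2 : G) = 1 := by rw [e]; rfl
    simp only [M, hv, h2, map_one]
    ext i j
    fin_cases i <;> fin_cases j <;> simp [affM, pv, hσ0, hσ1]
  have hMm : ∀ g g', M (g * g') = M g * M g' := fun g g' => by
    have hv : vA (g * g') = xa (vA g) (ac (ah g).2 (vA g')) := C.eA_inj (by rw [hvA, hkey])
    show affM σ (ac (ah (g * g')).2) (vA (g * g')) = _
    rw [hv, hkey]
    simp only [M, affM_mul hadd hmul _ (hfl _)]
    rw [show (((ah g).2 * (ah g').2 : ↥H) : G) = ((ah g).2 : G) * ((ah g').2 : G) from rfl, map_mul, Equiv.Perm.coe_mul]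
  let Φ : G →* GL (Fin 3) F := MonoidHom.toHomUnits { toFun := M, map_one' := hM1, map_mul' := hMm }
  refine ⟨(QuotientGroup.mk' _).comp Φ, (injective_iff_map_eq_one _).2 fun g hg => ?_⟩
  have hc := (QuotientGroup.eq_one_iff _).1 hg
  rw [GeneralLinearGroup.center_eq_range_scalar] at hc
  obtain ⟨c, hc⟩ := hc
  have hm : ∀ i j, (M g) i j = Matrix.scalar (Fin 3) (c : F) i j := fun i j => by
    have := congrArg (fun x : GL (Fin 3) F => (x : Matrix (Fin 3) (Fin 3) F) i j) hc
    exact this.symm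
  have hc1 : (c : F) = 1 := by
    have := hm 2 2
    simpa [M, affM] using this.symm
  have e00 := hm 0 0
  have e10 := hm 1 0
  have e01 := hm 0 1
  have e11 := hm 1 1
  have e02 := hm 0 2
  have e12 := hm 1 2
  simp [M, affM, hc1] at e00 e10 e01 e11 e02 e12
  rw [← hσ1] at e00 e11
  rw [← hσ0] at e10 e01 e02 e12
  have k1 : ac (ah g).2 1 = 1 := by
    rw [← vp_pv (ac (ah g).2 1)]
    simp only [vp, hσ e00, hσ e10]
    rfl
  have k4 : ac (ah g).2 4 = 4 := by
    rw [← vp_pv (ac (ah g).2 4)]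
    simp only [vp, hσ e01, hσ e11]
    rfl
  have kv : vA g = 0 := by
    rw [← vp_pv (vA g)]
    simp only [vp, hσ e02, hσ e12]
    rfl
  have hcent : ((ah g).2 : G) ∈ C.A := C.cent_le_A_of_normal hO (mem_centralizer_iff.2 fun a ha => by
    obtain ⟨v, rfl⟩ := C.exists_eA ha
    have h1 := hspec (ah g).2 v
    rw [hfl, k1, k4, ← split_smul] at h1
    exact (eq_mul_inv_iff_mul_eq.1 h1))
  have hx : ((ah g).2 : G) = 1 := mem_bot.1 (hH.disjoint.le_bot ⟨hcent, (ah g).2.2⟩)
  rw [← hval g, hx, kv, C.eA_zero, mul_one]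

end Coord

/-- **the case of a normal side** -/
theorem affineProp : AffineProp.{u, v} := by
  intro G _ _ F _ _ C hF hO hn
  obtain ⟨D, hA, -, -, hl, -⟩ := C.exists_lin
  haveI : D.A.Normal := by rw [hA]; exact hn
  exact D.affine_embeds hF hO hl

end Cfsg.Lib.LFourType
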