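import Cfsg.Agent.LFourType.Closed
import Cfsg.Agent.AltEightType.Core
import Cfsg.Agent.PermGen.AltPair
import Cfsg.Agent.Transfer.Basic

/-!
The centralizer and the normalizer of a side.
-/

set_option autoImplicit false
set_option linter.style.haveILetI false
set_option linter.unusedSectionVars false

namespace Cfsg.Lib.LFourType.Coord

open Subgroup
open Cfsg.Lib.AltEightType (core core_le odd_core core_normalized le_core)

variable {G : Type*} [Group G] [Finite G] (C : Coord G)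

/-- conjugation of a normalizer element stays inside -/
theorem cj_mem {X : Subgroup G} {n x : G} (hn : n ∈ normalizer (X : Set G)) (hx : x ∈ X) : n * x * n⁻¹ ∈ X :=
  (mem_normalizer_iff.1 hn x).1 hx

theorem normalizer_S_le : normalizer ((C.S : Subgroup G) : Set G) ≤ normalizer (C.A : Set G) := fun m hm =>
  conjS_eq_self.1 (C.conjS_A_eq (by
    rintro _ ⟨a, ha, rfl⟩
    exact cj_mem hm (C.A_le ha)))

theorem A_le_centralizer : C.A ≤ centralizer (C.A : Set G) :=
  fun _ hx => mem_centralizer_iff.2 fun _ hy => (C.A_comm hy hx).eq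

/-- the odd core of the centralizer of `A` -/
def FA : Subgroup G := core (centralizer (C.A : Set G))

theorem FA_le : C.FA ≤ centralizer (C.A : Set G) := core_le _

theorem odd_FA : Odd (Nat.card C.FA) := odd_core _

theorem FA_commute {f a : G} (hf : f ∈ C.FA) (ha : a ∈ C.A) : Commute a f :=
  mem_centralizer_iff.1 (C.FA_le hf) a ha

theorem conj_FA {n f : G} (hn : n ∈ normalizer (C.A : Set G)) (hf : f ∈ C.FA) : n * f * n⁻¹ ∈ C.FA := by
  set K := centralizer (C.A : Set G)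
  have hK : ∀ m : G, m ∈ normalizer (C.A : Set G) → ∀ x ∈ K, m * x * m⁻¹ ∈ K := fun m hm x hx =>
    mem_centralizer_iff.2 fun a ha => by
      have h := mem_centralizer_iff.1 hx _ (cj_mem (inv_mem hm) ha)
      calc a * (m * x * m⁻¹) = m * (m⁻¹ * a * m⁻¹⁻¹ * x) * m⁻¹ := by group
        _ = m * x * m⁻¹ * a := by rw [h]; group
  let U : Subgroup G := conjS n C.FA
  have hU : U ≤ C.FA := le_core (H := K) (U := U)
    (by rintro _ ⟨x, hx, rfl⟩; exact hK n hn x (C.FA_le hx))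
    (by
      intro k hk u hu
      obtain ⟨x, hx, rfl⟩ := hu
      have hk' : n⁻¹ * k * n⁻¹⁻¹ ∈ K := hK n⁻¹ (inv_mem hn) k hk
      refine ⟨n⁻¹ * k * n⁻¹⁻¹ * x * (n⁻¹ * k * n⁻¹⁻¹)⁻¹, cj_mem (core_normalized hk') hx, ?_⟩
      simp only [MulEquiv.coe_toMonoidHom, MulAut.conj_apply]
      group)
    (by rw [card_conjS]; exact C.odd_FA)
  exact hU (conj_mem_conjS hf)

theorem FA_normalized : normalizer (C.A : Set G) ≤ normalizer (C.FA : Set G) := fun n hn =>
  mem_normalizer_iff.2 fun x => ⟨C.conj_FA hn, fun h => by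
    have := C.conj_FA (inv_mem hn) h
    simpa [mul_assoc] using this⟩

theorem eq_A_of_centralizes {Q : Subgroup G} (hQ : IsPGroup 2 Q) (h : Q ≤ centralizer (C.A : Set G))
    (hA : C.A ≤ Q) : Q = C.A := by
  refine le_antisymm (fun x hx => ?_) hA
  obtain ⟨g, hg⟩ := C.exists_conj_le hQ
  have hgA : conjS g C.A = C.A := C.conjS_A_eq ((map_mono hA).trans hg)
  obtain ⟨a, ha, haZ⟩ := C.exists_not_mem_Z_A
  have hc : Commute (g⁻¹ * a * g) x := mem_centralizer_iff.1 (h hx) _ (by rw [← hgA, mem_conjS] at ha; exact ha)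
  have hc' : Commute a (g * x * g⁻¹) := by simpa [mul_assoc] using commute_conj (g := g) hc
  have h1 := C.mem_A_of_commute ha haZ (hg (conj_mem_conjS hx)) hc'
  rw [← hgA, mem_conjS] at h1
  simpa [mul_assoc] using h1

/-- `C(A) = A × O(C(A))` -/
theorem cent_decomp {x : G} (hx : x ∈ centralizer (C.A : Set G)) :
    ∃ a ∈ C.A, ∃ f ∈ C.FA, x = a * f := by
  haveI : Fact (Nat.Prime 2) := ⟨Nat.prime_two⟩
  set K := centralizer (C.A : Set G)
  have hAp : IsPGroup 2 ↥(C.A.subgroupOf K) := (C.isPGroup_of_le_S C.A_le).comap_subtype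
  obtain ⟨P, hP⟩ := hAp.exists_le_sylow
  have hPA : (P : Subgroup K).map K.subtype = C.A := C.eq_A_of_centralizes (P.2.map _) (map_subtype_le _)
    (fun a ha => ⟨⟨a, C.A_le_centralizer ha⟩, hP ha, rfl⟩)
  have hPc : normalizer ((P : Subgroup K) : Set K) ≤ centralizer ((P : Subgroup K) : Set K) := fun y _ =>
    mem_centralizer_iff.2 fun p hp => Subtype.ext
      (mem_centralizer_iff.1 y.2 _ (hPA.le ⟨p, hp, rfl⟩))
  obtain ⟨N, hN, hcard, -⟩ := Cfsg.Lib.PermGen.burnside_complement P hPc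
  haveI := hN
  have hP16 : Nat.card (P : Subgroup K) = 16 := by
    rw [← C.card_A, ← hPA, card_map_of_injective K.subtype_injective]
  have hodd : Odd (Nat.card N) := by
    refine Nat.not_even_iff_odd.1 fun he => P.not_dvd_index ?_
    have h2 := (P : Subgroup K).card_mul_index
    rw [hP16, ← hcard, hP16] at h2
    rw [show (P : Subgroup K).index = Nat.card N by omega]
    exact even_iff_two_dvd.1 he
  have hle : N ≤ Cfsg.oddCore K := Cfsg.Lib.AltEightType.le_oddCore hodd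
  have hcop : (Nat.card N).Coprime (Nat.card (P : Subgroup K)) := by
    rw [hP16, show (16 : ℕ) = 2 ^ 4 from rfl]
    exact (Nat.coprime_two_right.2 hodd).pow_right 4
  have hcomp := Subgroup.isComplement'_of_coprime hcard hcop
  obtain ⟨⟨⟨n, hn⟩, ⟨p, hp⟩⟩, he⟩ := hcomp.2 ⟨x, hx⟩
  refine ⟨(p : G), hPA.le ⟨p, hp, rfl⟩, (n : G), ⟨n, hle hn, rfl⟩, ?_⟩
  have hc : Commute (p : G) (n : G) := C.FA_commute ⟨n, hle hn, rfl⟩ (hPA.le ⟨p, hp, rfl⟩)
  rw [hc.eq]
  exact (congrArg Subtype.val he).symm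

theorem mem_FA_of_odd {x : G} (hx : x ∈ centralizer (C.A : Set G)) (ho : Odd (orderOf x)) : x ∈ C.FA := by
  obtain ⟨a, ha, f, hf, rfl⟩ := C.cent_decomp hx
  have hc := C.FA_commute hf ha
  have h2 : (a * f) ^ 2 ∈ C.FA := by
    rw [hc.mul_pow, pow_two a, C.A_sq ha, one_mul]
    exact pow_mem hf 2
  obtain ⟨k, hk⟩ := ho
  have h3 : ((a * f) ^ 2) ^ (k + 1) = a * f := by
    rw [← pow_mul, show 2 * (k + 1) = orderOf (a * f) + 1 by omega, pow_succ, pow_orderOf_eq_one, one_mul]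
  exact h3 ▸ pow_mem h2 _

/-- when `A` is not moved, `N(A) = O(C(A)) N(S)` -/
theorem normalizer_decomp (h : ¬ C.Moved) {n : G} (hn : n ∈ normalizer (C.A : Set G)) :
    ∃ f ∈ C.FA, ∃ m ∈ normalizer ((C.S : Subgroup G) : Set G), n = f * m := by
  haveI : Fact (Nat.Prime 2) := ⟨Nat.prime_two⟩
  set N := normalizer (C.A : Set G)
  -- the stabiliser of the series `A > Z > 1`
  let Sg : Subgroup G :=
    { carrier := {x | x ∈ N ∧ (∀ z ∈ C.Z, x * z * x⁻¹ = z) ∧ ∀ a ∈ C.A, a⁻¹ * (x * a * x⁻¹) ∈ C.Z}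
      one_mem' := ⟨one_mem _, fun z _ => by simp, fun a _ => by simp [one_mem]⟩
      mul_mem' := by
        rintro x y ⟨hx, hx1, hx2⟩ ⟨hy, hy1, hy2⟩
        refine ⟨mul_mem hx hy, fun z hz => ?_, fun a ha => ?_⟩
        · calc x * y * z * (x * y)⁻¹ = x * (y * z * y⁻¹) * x⁻¹ := by group
            _ = z := by rw [hy1 z hz, hx1 z hz]
        · have e : a⁻¹ * (x * y * a * (x * y)⁻¹) =
              a⁻¹ * (x * a * x⁻¹) * (x * (a⁻¹ * (y * a * y⁻¹)) * x⁻¹) := by group
          rw [e, hx1 _ (hy2 a ha)]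
          exact mul_mem (hx2 a ha) (hy2 a ha)
      inv_mem' := by
        rintro x ⟨hx, hx1, hx2⟩
        have h1 : ∀ z ∈ C.Z, x⁻¹ * z * x⁻¹⁻¹ = z := fun z hz => by
          conv_lhs => rw [← hx1 z hz]
          group
        refine ⟨inv_mem hx, h1, fun a ha => ?_⟩
        have hb := cj_mem (inv_mem hx) ha
        have h := hx2 _ hb
        rw [show x * (x⁻¹ * a * x⁻¹⁻¹) * x⁻¹ = a by group] at h
        have := inv_mem h
        rwa [mul_inv_rev, inv_inv] at this }
  have hnormal : ∀ m ∈ N, ∀ x ∈ Sg, m * x * m⁻¹ ∈ Sg := by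
    rintro m hm x ⟨hx, hx1, hx2⟩
    refine ⟨mul_mem (mul_mem hm hx) (inv_mem hm), fun z hz => ?_, fun a ha => ?_⟩
    · calc m * x * m⁻¹ * z * (m * x * m⁻¹)⁻¹ = m * (x * (m⁻¹ * z * m⁻¹⁻¹) * x⁻¹) * m⁻¹ := by group
        _ = z := by rw [hx1 _ (C.conj_mem_Z h (inv_mem hm) hz)]; group
    · have e : a⁻¹ * (m * x * m⁻¹ * a * (m * x * m⁻¹)⁻¹) =
          m * ((m⁻¹ * a * m⁻¹⁻¹)⁻¹ * (x * (m⁻¹ * a * m⁻¹⁻¹) * x⁻¹)) * m⁻¹ := by group
      rw [e]
      exact C.conj_mem_Z h hm (hx2 _ (cj_mem (inv_mem hm) ha))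
  have hS : (C.S : Subgroup G) ≤ Sg := fun s hs => ⟨C.S_le_normalizer_A hs, fun z hz => by
      rw [(C.Z_central hz hs).symm.eq, mul_inv_cancel_right], fun a ha => by
      obtain ⟨z, hz, e⟩ := C.commutator_mem_Z hs (C.A_le ha)
      rw [e, show a⁻¹ * (a * s * z * s⁻¹) = s * z * s⁻¹ by group, (C.Z_central hz hs).symm.eq,
        mul_inv_cancel_right]
      exact hz⟩
  have hsq : ∀ x ∈ Sg, x * x ∈ centralizer (C.A : Set G) := by
    rintro x ⟨-, hx1, hx2⟩
    refine mem_centralizer_iff.2 fun a ha => ?_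
    have hw := hx2 a ha
    set w := a⁻¹ * (x * a * x⁻¹) with hwd
    have e1 : x * a * x⁻¹ = a * w := by rw [hwd]; group
    have e2 : x * x * a * (x * x)⁻¹ = a := by
      calc x * x * a * (x * x)⁻¹ = x * (x * a * x⁻¹) * x⁻¹ := by group
        _ = x * (a * w) * x⁻¹ := by rw [e1]
        _ = (x * a * x⁻¹) * (x * w * x⁻¹) := by group
        _ = a * (w * w) := by rw [e1, hx1 w hw, mul_assoc]
        _ = a := by rw [C.A_sq (C.Z_le_A hw), mul_one]
    exact (mul_inv_eq_iff_eq_mul.1 e2).symm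
  have hSg : ∀ x ∈ Sg, ∃ s ∈ (C.S : Subgroup G), ∃ f ∈ C.FA, x = s * f := by
    intro x hx
    set M := (C.S : Subgroup G) ⊔ C.FA
    have hFn : (C.S : Subgroup G) ≤ normalizer (C.FA : Set G) := C.S_le_normalizer_A.trans C.FA_normalized
    suffices x ∈ M by
      obtain ⟨s, hs, f, hf, e⟩ := (Cfsg.Lib.Coprime.mem_sup_of_le_normalizer' (N := C.FA) (H := (C.S : Subgroup G))
        hFn).1 (by rw [sup_comm]; exact this)
      exact ⟨s, hs, f, hf, e.symm⟩
    -- `Σ` is `S` times the centralizer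
    have hC : centralizer (C.A : Set G) ≤ Sg := fun y hy => by
      have hfix : ∀ a ∈ C.A, y * a * y⁻¹ = a := fun a ha => by
        rw [← mem_centralizer_iff.1 hy a ha, mul_inv_cancel_right]
      exact ⟨mem_normalizer_iff.2 fun a => ⟨fun ha => by rw [hfix a ha]; exact ha, fun ha => by
        have e := hfix _ ha
        rw [mul_left_inj, mul_right_inj] at e
        rwa [e] at ha⟩, fun z hz => hfix z (C.Z_le_A hz), fun a ha => by
          rw [hfix a ha, inv_mul_cancel]; exact one_mem _⟩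
    have hCM : centralizer (C.A : Set G) ≤ M := fun y hy => by
      obtain ⟨a, ha, f, hf, rfl⟩ := C.cent_decomp hy
      exact mul_mem (mem_sup_left (C.A_le ha)) (mem_sup_right hf)
    have hMle : M ≤ Sg := sup_le hS (C.FA_le.trans hC)
    set K := (centralizer (C.A : Set G)).subgroupOf Sg
    haveI : K.Normal := ⟨fun k hk y => by
      refine mem_centralizer_iff.2 fun a ha => ?_
      have h := mem_centralizer_iff.1 (show (k : G) ∈ centralizer (C.A : Set G) from hk) _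
        (cj_mem (inv_mem y.2.1) ha)
      show a * ((y : G) * k * (y : G)⁻¹) = (y : G) * k * (y : G)⁻¹ * a
      calc a * ((y : G) * k * (y : G)⁻¹) = (y : G) * ((y : G)⁻¹ * a * (y : G)⁻¹⁻¹ * k) * (y : G)⁻¹ := by group
        _ = (y : G) * k * (y : G)⁻¹ * a := by rw [h]; group⟩
    have hq : IsPGroup 2 (↥Sg ⧸ K) := fun q => ⟨1, by
      obtain ⟨y, rfl⟩ := QuotientGroup.mk'_surjective K q
      rw [pow_one, pow_two]
      exact (QuotientGroup.eq_one_iff _).2 (hsq y y.2)⟩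
    obtain ⟨j, hj⟩ := IsPGroup.iff_card.1 hq
    have hidx : ¬ 2 ∣ (M.subgroupOf Sg).index := fun h2 => by
      have h1 : (M.subgroupOf Sg).index ∣ ((C.S : Subgroup G).subgroupOf Sg).index :=
        index_dvd_of_le (comap_mono le_sup_left)
      exact (C.S.subtype hS).not_dvd_index (h2.trans h1)
    have hd : (M.subgroupOf Sg).index ∣ 2 ^ j := by
      rw [← hj, ← index_eq_card]
      exact index_dvd_of_le (comap_mono hCM)
    obtain ⟨i, -, hi⟩ := (Nat.dvd_prime_pow Nat.prime_two).1 hd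
    have h1 : (M.subgroupOf Sg).index = 1 := by
      rcases i with _ | i
      · rw [hi, pow_zero]
      · exact absurd ⟨2 ^ i, by rw [hi, pow_succ, mul_comm]⟩ hidx
    exact (index_eq_one.1 h1 ▸ mem_top (⟨x, hx⟩ : Sg) : (⟨x, hx⟩ : Sg) ∈ M.subgroupOf Sg)
  -- Frattini
  have hnS : ((n • C.S : Sylow 2 G) : Subgroup G) ≤ Sg := by
    rw [Sylow.coe_subgroup_smul]
    rintro _ ⟨x, hx, rfl⟩
    exact hnormal n hn x (hS hx)
  obtain ⟨c, hc, hcS⟩ := Cfsg.Lib.Transfer.exists_conj_mem_of_sylow_le Sg (n • C.S) C.S hnS hS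
  obtain ⟨s, hs, f, hf, rfl⟩ := hSg c hc
  have hm : s * f * n ∈ normalizer ((C.S : Subgroup G) : Set G) :=
    Sylow.smul_eq_iff_mem_normalizer.1 (by rw [mul_smul, hcS])
  refine ⟨f⁻¹, inv_mem hf, s⁻¹ * (s * f * n), mul_mem (le_normalizer (inv_mem hs)) hm, ?_⟩
  group

end Cfsg.Lib.LFourType.Coord
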