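import Mathlib

/-!
A subgroup generated by two rank one subgroups over a common Borel subgroup with Weyl group of the symmetric group
of degree three: the six double cosets are closed under the generators and have at most
`|B| (1 + q + q + q² + q² + q³)` elements.
-/

set_option autoImplicit false

namespace Cfsg.Lib.LFourType.BN

open Subgroup

variable {G : Type*} [Group G]

/-- one of the two sides -/
structure Side (B U : Subgroup G) (s t : G) : Prop where
  sub : U ≤ B
  split : ∀ b ∈ B, ∃ u ∈ U, u⁻¹ * b ∈ B ∧ s⁻¹ * (u⁻¹ * b) * s ∈ B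
  sq : s * s ∈ B
  rankOne : ∀ u ∈ U, s * u * s ∈ B ∨ ∃ b ∈ B, ∃ b' ∈ B, s * u * s = b * s * b'
  fst : ∀ u ∈ U, t⁻¹ * u * t ∈ B
  snd : ∀ u ∈ U, (t * s)⁻¹ * u * (t * s) ∈ B

/-- a double coset -/
def Cell (B : Subgroup G) (w : G) : Set G := {x | ∃ b ∈ B, ∃ b' ∈ B, x = b * w * b'}

/-- the six double cosets -/
def Six (B : Subgroup G) (s t : G) : Set G :=
  Cell B 1 ∪ Cell B s ∪ Cell B t ∪ Cell B (s * t) ∪ Cell B (t * s) ∪ Cell B (s * t * s)

variable {B U : Subgroup G} {s t : G}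

theorem Side.left (h : Side B U s t) {b : G} (hb : b ∈ B) :
    ∃ u ∈ U, ∃ q ∈ B, s * b = q * (s * u) := by
  obtain ⟨u, hu, h1, h2⟩ := h.split b⁻¹ (inv_mem hb)
  refine ⟨u⁻¹, inv_mem hu, (s * s) * (s⁻¹ * (u⁻¹ * b⁻¹) * s)⁻¹ * (s * s)⁻¹,
    mul_mem (mul_mem h.sq (inv_mem h2)) (inv_mem h.sq), ?_⟩
  group

theorem Side.mul_left (h : Side B U s t) {x : G} (hx : x ∈ Six B s t) : s * x ∈ Six B s t := by
  simp only [Six, Set.mem_union] at hx ⊢
  rcases hx with ((((hx | hx) | hx) | hx) | hx) | hx <;> obtain ⟨b, hb, b', hb', rfl⟩ := hx <;>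
    obtain ⟨u, hu, q, hq, e⟩ := h.left hb
  · exact .inl (.inl (.inl (.inl (.inr ⟨q, hq, u * b', mul_mem (h.sub hu) hb', by
      rw [mul_one, ← mul_assoc, e]; group⟩))))
  · rcases h.rankOne u hu with hr | ⟨c, hc, c', hc', ec⟩
    · exact .inl (.inl (.inl (.inl (.inl ⟨q * (s * u * s), mul_mem hq hr, b', hb', by
        rw [← mul_assoc, ← mul_assoc, e]; group⟩))))
    · exact .inl (.inl (.inl (.inl (.inr ⟨q * c, mul_mem hq hc, c' * b', mul_mem hc' hb', by
        rw [← mul_assoc, ← mul_assoc, e, show q * (s * u) * s * b' = q * (s * u * s) * b' by group, ec]; group⟩))))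
  · exact .inl (.inl (.inr ⟨q, hq, t⁻¹ * u * t * b', mul_mem (h.fst u hu) hb', by
      rw [← mul_assoc, ← mul_assoc, e]; group⟩))
  · rcases h.rankOne u hu with hr | ⟨c, hc, c', hc', ec⟩
    · exact .inl (.inl (.inl (.inr ⟨q * (s * u * s), mul_mem hq hr, b', hb', by
        rw [← mul_assoc, ← mul_assoc, e]; group⟩)))
    · obtain ⟨v, hv, p, hp, e'⟩ := h.left hc'
      exact .inl (.inl (.inr ⟨q * c * p, mul_mem (mul_mem hq hc) hp, t⁻¹ * v * t * b', mul_mem (h.fst v hv) hb', by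
        rw [← mul_assoc, ← mul_assoc, e, show q * (s * u) * (s * t) * b' = q * (s * u * s) * t * b' by group, ec,
          show q * (c * s * c') * t * b' = q * c * (s * c') * t * b' by group, e']
        group⟩))
  · exact .inr ⟨q, hq, (t * s)⁻¹ * u * (t * s) * b', mul_mem (h.snd u hu) hb', by
      rw [← mul_assoc, ← mul_assoc, e]; group⟩
  · rcases h.rankOne u hu with hr | ⟨c, hc, c', hc', ec⟩
    · exact .inl (.inr ⟨q * (s * u * s), mul_mem hq hr, b', hb', by
        rw [← mul_assoc, ← mul_assoc, e]; group⟩)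
    · obtain ⟨v, hv, p, hp, e'⟩ := h.left hc'
      exact .inr ⟨q * c * p, mul_mem (mul_mem hq hc) hp, (t * s)⁻¹ * v * (t * s) * b', mul_mem (h.snd v hv) hb', by
        rw [← mul_assoc, ← mul_assoc, e, show q * (s * u) * (s * t * s) * b' = q * (s * u * s) * (t * s) * b' by group,
          ec, show q * (c * s * c') * (t * s) * b' = q * c * (s * c') * (t * s) * b' by group, e']
        group⟩

/-- swapping the generators does not change the six cosets -/
theorem six_swap {d : G} (hd : d ∈ B) (he : s * t * s = d * (t * s * t)) : Six B t s = Six B s t := by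
  have : Cell B (t * s * t) = Cell B (s * t * s) := by
    ext x
    constructor
    · rintro ⟨b, hb, b', hb', rfl⟩
      exact ⟨b * d⁻¹, mul_mem hb (inv_mem hd), b', hb', by rw [he]; group⟩
    · rintro ⟨b, hb, b', hb', rfl⟩
      exact ⟨b * d, mul_mem hb hd, b', hb', by rw [he]; group⟩
  simp only [Six, this]
  ext x
  simp only [Set.mem_union]
  tauto

/-- all hypotheses -/
structure Pair (B Ub Ua : Subgroup G) (s t : G) : Prop where
  left : Side B Ub s t
  right : Side B Ua t s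
  braid : ∃ d ∈ B, s * t * s = d * (t * s * t)

variable {Ub Ua : Subgroup G}

theorem Pair.closure_le (P : Pair B Ub Ua s t) :
    (closure ((B : Set G) ∪ {s, t}) : Set G) ⊆ Six B s t := by
  obtain ⟨d, hd, he⟩ := P.braid
  have hB : ∀ c ∈ B, ∀ x ∈ Six B s t, c * x ∈ Six B s t := by
    intro c hc x hx
    simp only [Six, Set.mem_union] at hx ⊢
    rcases hx with ((((hx | hx) | hx) | hx) | hx) | hx <;> obtain ⟨b, hb, b', hb', rfl⟩ := hx
    exacts [.inl (.inl (.inl (.inl (.inl ⟨c * b, mul_mem hc hb, b', hb', by group⟩)))),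
      .inl (.inl (.inl (.inl (.inr ⟨c * b, mul_mem hc hb, b', hb', by group⟩)))),
      .inl (.inl (.inl (.inr ⟨c * b, mul_mem hc hb, b', hb', by group⟩))),
      .inl (.inl (.inr ⟨c * b, mul_mem hc hb, b', hb', by group⟩)),
      .inl (.inr ⟨c * b, mul_mem hc hb, b', hb', by group⟩),
      .inr ⟨c * b, mul_mem hc hb, b', hb', by group⟩]
  have hs : ∀ x ∈ Six B s t, s * x ∈ Six B s t := fun x hx => P.left.mul_left hx
  have ht : ∀ x ∈ Six B s t, t * x ∈ Six B s t := fun x hx => by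
    rw [← six_swap hd he] at hx ⊢
    exact P.right.mul_left hx
  intro g hg
  have key : ∀ x ∈ Six B s t, g * x ∈ Six B s t := by
    induction hg using closure_induction'' with
    | one => intro x hx; simpa using hx
    | mul a b _ _ iha ihb => intro x hx; rw [mul_assoc]; exact iha _ (ihb x hx)
    | mem a ha =>
      intro x hx
      rcases ha with ha | rfl | rfl
      exacts [hB a ha x hx, hs x hx, ht x hx]
    | inv_mem a ha =>
      intro x hx
      rcases ha with ha | rfl | rfl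
      · exact hB _ (inv_mem ha) x hx
      · have := hs _ (hB _ (inv_mem P.left.sq) x hx)
        rwa [mul_inv_rev, ← mul_assoc, mul_inv_cancel_left] at this
      · have := ht _ (hB _ (inv_mem P.right.sq) x hx)
        rwa [mul_inv_rev, ← mul_assoc, mul_inv_cancel_left] at this
  simpa using key 1 (.inl (.inl (.inl (.inl (.inl ⟨1, B.one_mem, 1, B.one_mem, by group⟩)))))

/-- the index set of the representatives -/
abbrev Idx (Ub Ua : Subgroup G) : Type _ :=
  PUnit.{1} ⊕ ↥Ub ⊕ ↥Ua ⊕ (↥Ub × ↥Ua) ⊕ (↥Ua × ↥Ub) ⊕ (↥Ub × ↥Ua × ↥Ub)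

/-- the representatives of the left cosets -/
def rep (s t : G) : Idx Ub Ua → G
  | .inl _ => 1
  | .inr (.inl u) => (u : G) * s
  | .inr (.inr (.inl u)) => (u : G) * t
  | .inr (.inr (.inr (.inl (u, v)))) => (u : G) * s * v * t
  | .inr (.inr (.inr (.inr (.inl (u, v))))) => (u : G) * t * v * s
  | .inr (.inr (.inr (.inr (.inr (u, v, w))))) => (u : G) * s * v * t * w * s

theorem Pair.six_subset_range (P : Pair B Ub Ua s t) (x : G) (hx : x ∈ Six B s t) :
    ∃ p : Idx Ub Ua × ↥B, x = rep s t p.1 * p.2 := by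
  have sd : ∀ {U : Subgroup G} {s t : G}, Side B U s t → ∀ b ∈ B, ∃ u ∈ U, ∃ q ∈ B, b * s = u * s * q :=
    fun h b hb => by
      obtain ⟨u, hu, -, h2⟩ := h.split b hb
      exact ⟨u, hu, _, h2, by group⟩
  simp only [Six, Set.mem_union] at hx
  rcases hx with ((((hx | hx) | hx) | hx) | hx) | hx <;> obtain ⟨b, hb, b', hb', rfl⟩ := hx
  · exact ⟨(.inl ⟨⟩, ⟨b * b', mul_mem hb hb'⟩), by simp [rep]⟩
  · obtain ⟨u, hu, q, hq, e⟩ := sd P.left b hb
    exact ⟨(.inr (.inl ⟨u, hu⟩), ⟨q * b', mul_mem hq hb'⟩), by simp only [rep, e]; group⟩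
  · obtain ⟨u, hu, q, hq, e⟩ := sd P.right b hb
    exact ⟨(.inr (.inr (.inl ⟨u, hu⟩)), ⟨q * b', mul_mem hq hb'⟩), by
      simp only [rep, e]; group⟩
  · obtain ⟨u, hu, q, hq, e⟩ := sd P.left b hb
    obtain ⟨v, hv, p, hp, e'⟩ := sd P.right q hq
    exact ⟨(.inr (.inr (.inr (.inl (⟨u, hu⟩, ⟨v, hv⟩)))), ⟨p * b', mul_mem hp hb'⟩), by
      simp only [rep]
      rw [← mul_assoc b, e, mul_assoc (u * s), e']; group⟩
  · obtain ⟨u, hu, q, hq, e⟩ := sd P.right b hb
    obtain ⟨v, hv, p, hp, e'⟩ := sd P.left q hq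
    exact ⟨(.inr (.inr (.inr (.inr (.inl (⟨u, hu⟩, ⟨v, hv⟩))))), ⟨p * b', mul_mem hp hb'⟩), by
      simp only [rep]
      rw [← mul_assoc b, e, mul_assoc (u * t), e']; group⟩
  · obtain ⟨u, hu, q, hq, e⟩ := sd P.left b hb
    obtain ⟨v, hv, p, hp, e'⟩ := sd P.right q hq
    obtain ⟨w, hw, r, hr, e''⟩ := sd P.left p hp
    exact ⟨(.inr (.inr (.inr (.inr (.inr (⟨u, hu⟩, ⟨v, hv⟩, ⟨w, hw⟩))))), ⟨r * b', mul_mem hr hb'⟩), by
      simp only [rep]
      rw [← mul_assoc b, ← mul_assoc b, e, mul_assoc (u * s), e', mul_assoc _ _ s, mul_assoc (v * t), e'']; group⟩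

theorem Pair.card_closure_le [Finite G] (P : Pair B Ub Ua s t) {q : ℕ} (ha : Nat.card ↥Ua = q)
    (hb : Nat.card ↥Ub = q) :
    Nat.card ↥(closure ((B : Set G) ∪ {s, t})) ≤ (1 + q + q + q * q + q * q + q * q * q) * Nat.card ↥B := by
  classical
  have hsub : ∀ g : ↥(closure ((B : Set G) ∪ {s, t})), (g : G) ∈ Six B s t := fun g => P.closure_le g.2
  choose f hf using fun g => P.six_subset_range _ (hsub g)
  have hinj : Function.Injective f := fun g h e => Subtype.ext (by rw [hf g, hf h, e])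
  refine (Nat.card_le_card_of_injective f hinj).trans (le_of_eq ?_)
  simp only [Nat.card_prod, Nat.card_sum, Nat.card_unique, ha, hb]
  ring

end Cfsg.Lib.LFourType.BN
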