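import Cfsg.Agent.LFourType.CaseOneSimple
import Cfsg.Agent.LFourType.CaseTwo

/-!
Both sides moved: the group lies between a simple group generated by the involutions and its automorphism group,
hence embeds in the projective general linear group.
-/

set_option autoImplicit false
set_option linter.unusedSectionVars false
set_option linter.style.haveILetI false

namespace Cfsg.Lib.LFourType

open Subgroup Matrix Cfsg.Lib.Known.AutPSLn

universe u v

theorem oddCore_eq_bot_sub {G : Type u} [Group G] [Finite G] (hO : Cfsg.oddCore G = ⊥) (N : Subgroup G) [N.Normal] :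
    Cfsg.oddCore ↥N = ⊥ := by
  haveI : (Cfsg.oddCore ↥N).Characteristic := Cfsg.Lib.Components.pPrimeCore_characteristic
  haveI : ((Cfsg.oddCore ↥N).map N.subtype).Normal := ConjAct.normal_of_characteristic_of_normal
  refine (map_eq_bot_iff_of_injective _ N.subtype_injective).1 (le_bot_iff.1 (hO ▸ Cfsg.Lib.AltEightType.le_oddCore ?_))
  rw [card_map_of_injective N.subtype_injective]
  exact Cfsg.Lib.AltEightType.odd_oddCore _

/-- transport of the projective general linear group along an isomorphism of fields -/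
theorem exists_pgl_map {K : Type} [Field K] {F : Type v} [Field F] (σ : K ≃+* F) :
    ∃ f : GL (Fin 3) K ⧸ center (GL (Fin 3) K) →* GL (Fin 3) F ⧸ center (GL (Fin 3) F), Function.Injective f := by
  set m : GL (Fin 3) K →* GL (Fin 3) F := GeneralLinearGroup.map σ.toRingHom
  have hinj : Function.Injective m := fun a b h => Units.ext (Matrix.ext fun i j => σ.injective (by
    have := congrArg (fun g : GL (Fin 3) F => (g : Matrix (Fin 3) (Fin 3) F) i j) h
    exact this))
  have hsurj : Function.Surjective m := fun a => ⟨GeneralLinearGroup.map σ.symm.toRingHom a,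
    Units.ext (Matrix.ext fun i j => by simp [m])⟩
  have hk : center (GL (Fin 3) K) = (center (GL (Fin 3) F)).comap m := by
    ext g
    simp only [mem_comap, mem_center_iff]
    constructor
    · intro h x
      obtain ⟨y, rfl⟩ := hsurj x
      rw [← map_mul, ← map_mul, h]
    · exact fun h y => hinj (by rw [map_mul, map_mul, h])
  refine ⟨QuotientGroup.map _ _ m hk.le, fun a b h => ?_⟩
  induction a using QuotientGroup.induction_on with | _ a =>
  induction b using QuotientGroup.induction_on with | _ b =>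
  refine QuotientGroup.eq.2 ?_
  rw [hk, mem_comap, map_mul, map_inv]
  exact QuotientGroup.eq.1 h

namespace Coord

variable {G : Type u} [Group G] [Finite G] (C : Coord G)

theorem eq_A_of_normal {N : Subgroup G} [N.Normal] (hS : (C.S : Subgroup G) ≤ N)
    (h : (C.restrict N hS).A.Normal) : C.A.Normal := by
  rw [restrict_A] at h
  refine normalizer_eq_top_iff.1 (eq_top_iff.2 fun g _ => conjS_eq_self.1 (C.conjS_A_eq ?_))
  have hAN : C.A ≤ N := C.A_le.trans hS
  have hle : conjS g C.A ≤ N := by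
    rintro _ ⟨a, ha, rfl⟩
    exact Subgroup.Normal.conj_mem ‹_› a (hAN ha) g
  have hnorm : N ≤ normalizer (C.A : Set G) := (normal_subgroupOf_iff_le_normalizer hAN).1 h
  intro x hx
  have hP : IsPGroup 2 ↥(conjS g C.A) := (C.isPGroup_of_le_S C.A_le).map _
  have hSn : (C.S : Subgroup G) ≤ normalizer (conjS g C.A : Set G) := fun s hs => by
    refine ZStarApps.mem_normalizer_of_maps fun y hy => ?_
    obtain ⟨a, ha, rfl⟩ := hy
    show s * (g * a * g⁻¹) * s⁻¹ ∈ conjS g C.A
    rw [mem_conjS, show g⁻¹ * (s * (g * a * g⁻¹) * s⁻¹) * g = (g⁻¹ * s * g) * a * (g⁻¹ * s * g)⁻¹ by group]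
    have hs' : g⁻¹ * s * g ∈ N := by
      simpa using Subgroup.Normal.conj_mem ‹_› s (hS hs) g⁻¹
    exact cj_mem (hnorm hs') ha
  have hQ := hP.to_sup_of_normal_left' C.S.2 hSn
  exact C.eq_S hQ le_sup_right ▸ mem_sup_left hx

theorem not_moved_false (hO : Cfsg.oddCore G = ⊥) (hM' : C.swap.Moved) : ¬ C.A.Normal := fun hn => by
  obtain ⟨b, hb, hbZ⟩ := C.swap.exists_not_mem_Z_A
  rw [C.swap_A] at hb
  rw [C.swap_Z] at hbZ
  obtain ⟨n, -, hnz⟩ := C.swap.fused_of_moved hM' (by rw [C.swap_A]; exact hb)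
  rw [C.swap_Z] at hnz
  refine hbZ ⟨?_, hb⟩
  have := hn.conj_mem _ (C.Z_le_A hnz) n⁻¹
  rwa [show n⁻¹ * (n * b * n⁻¹) * n⁻¹⁻¹ = b by group] at this

end Coord

/-- **the case of two moved sides** -/
theorem caseOneProp : CaseOneProp.{u, v} := by
  intro G _ _ F _ _ C₀ hF hO hM₀ hM₀'
  classical
  obtain ⟨C, -, hl, -, hM, hM', -, -⟩ := C₀.exists_lin_moved hM₀ hM₀'
  haveI : Fact (Nat.Prime 2) := ⟨Nat.prime_two⟩
  obtain ⟨z, hz, hz1⟩ := C.exists_Z_ne_one
  -- the subgroup generated by the involutions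
  set T : Set G := {x | x * x = 1} with hT
  set N := closure T with hN
  have hTc : ∀ g : G, ∀ x ∈ T, g * x * g⁻¹ ∈ T := fun g x hx => by
    show g * x * g⁻¹ * (g * x * g⁻¹) = 1
    rw [show g * x * g⁻¹ * (g * x * g⁻¹) = g * (x * x) * g⁻¹ by group, show x * x = 1 from hx, mul_one, mul_inv_cancel]
  haveI hNn : N.Normal := ⟨fun x hx g => by
    have : (MulAut.conj g).toMonoidHom x ∈ N.map (MulAut.conj g).toMonoidHom := ⟨x, hx, rfl⟩
    rw [hN, MonoidHom.map_closure] at this
    refine closure_mono ?_ this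
    rintro _ ⟨y, hy, rfl⟩
    exact hTc g y hy⟩
  have hAN : C.A ≤ N := fun a ha => subset_closure (C.A_sq ha)
  have hBN : C.B ≤ N := fun a ha => subset_closure (C.B_sq ha)
  have hSN : (C.S : Subgroup G) ≤ N := fun s hs => by
    obtain ⟨a, ha, b, hb, rfl⟩ := C.exists_split hs
    exact mul_mem (hAN ha) (hBN hb)
  set D := C.restrict N hSN with hD
  have hON : Cfsg.oddCore ↥N = ⊥ := oddCore_eq_bot_sub hO N
  have hDB : D.swap.Moved := by
    by_contra hc
    exact C.not_moved_false hO hM' (C.eq_A_of_normal hSN (caseTwoProp D hON hc))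
  have hDA : D.Moved := by
    by_contra hc
    have hn := caseTwoProp D.swap hON (by rwa [D.swap_swap])
    have e : D.swap = C.swap.restrict N (show (C.swap.S : Subgroup G) ≤ N from hSN) := rfl
    rw [e] at hn
    exact C.swap.not_moved_false hO (by rw [C.swap_swap]; exact hM) (C.swap.eq_A_of_normal _ hn)
  obtain ⟨D', -, hl', -, hD1, hD2, -, -⟩ := D.exists_lin_moved hDA hDB
  have hgen : Subgroup.closure {x : ↥N | x * x = 1} = ⊤ := by
    refine eq_top_iff.2 fun x _ => ?_
    have h1 : (closure {x : ↥N | x * x = 1}).map N.subtype = N := by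
      rw [MonoidHom.map_closure]
      refine congrArg Subgroup.closure (Set.ext fun y => ⟨?_, fun hy => ?_⟩)
      · rintro ⟨w, hw, rfl⟩
        exact congrArg Subtype.val hw
      · exact ⟨⟨y, subset_closure hy⟩, Subtype.ext hy, rfl⟩
    have h2 : (x : G) ∈ (closure {x : ↥N | x * x = 1}).map N.subtype := h1.symm ▸ x.2
    obtain ⟨w, hw, e⟩ := h2
    exact Subtype.ext e ▸ hw
  have hzN : z ∈ N := hAN (C.Z_le_A hz)
  haveI : Nontrivial ↥N := ⟨⟨⟨z, hzN⟩, 1, fun e => hz1 (congrArg Subtype.val e)⟩⟩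
  haveI hsimp : IsSimpleGroup ↥N := by
    refine ⟨fun H hH => ?_⟩
    by_contra hc
    push Not at hc
    obtain ⟨h0, h1⟩ := hc
    have heven : 2 ∣ Nat.card H := by
      by_contra hodd
      exact h0 (le_bot_iff.1 (hON ▸ Cfsg.Lib.AltEightType.le_oddCore (Nat.odd_iff.2 (by omega))))
    obtain ⟨⟨x, hxH⟩, hx⟩ := exists_prime_orderOf_dvd_card' 2 heven
    rw [← orderOf_coe] at hx
    change orderOf x = 2 at hx
    have hx2 : x * x = 1 := by rw [← pow_two, ← hx, pow_orderOf_eq_one]
    have hx1 : x ≠ 1 := fun e => by rw [e, orderOf_one] at hx; omega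
    obtain ⟨w, hw, hw1⟩ := D'.exists_Z_ne_one
    refine h1 (top_le_iff.1 (hgen ▸ (closure_le H).2 fun y hy => ?_))
    by_cases hy1 : y = 1
    · exact hy1 ▸ H.one_mem
    obtain ⟨g, hg⟩ := D'.one_class hl' hD1 hD2 hw hw1 hx2 hx1
    obtain ⟨g', hg'⟩ := D'.one_class hl' hD1 hD2 hw hw1 hy hy1
    have := hH.conj_mem x hxH (g'⁻¹ * g)
    rwa [show g'⁻¹ * g * x * (g'⁻¹ * g)⁻¹ = g'⁻¹ * (g * x * g⁻¹) * g' by group, hg, ← hg',
      show g'⁻¹ * (g' * y * g'⁻¹) * g' = y by group] at this
  obtain ⟨K, i1, i2, hK, ⟨e⟩⟩ := D'.exists_psl_four hD1 hD2 hON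
  -- faithful action
  have hna : ¬ IsMulCommutative ↥N := fun hc => by
    obtain ⟨a, ha, haZ⟩ := C.exists_not_mem_Z_A
    obtain ⟨b, hb, hbZ⟩ := C.swap.exists_not_mem_Z_A
    rw [C.swap_A] at hb
    rw [C.swap_Z] at hbZ
    exact hbZ ⟨C.mem_A_of_commute ha haZ (C.B_le hb)
      (congrArg Subtype.val (mul_comm' (⟨a, hAN ha⟩ : ↥N) ⟨b, hBN hb⟩)), hb⟩
  have hcent : centralizer (N : Set G) = ⊥ := by
    refine le_bot_iff.1 (hO ▸ Cfsg.Lib.AltEightType.le_oddCore ?_)
    rw [← Nat.not_even_iff_odd, even_iff_two_dvd]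
    intro hd
    obtain ⟨⟨x, hxc⟩, hx⟩ := exists_prime_orderOf_dvd_card' 2 hd
    rw [← orderOf_coe] at hx
    change orderOf x = 2 at hx
    have hx2 : x * x = 1 := by rw [← pow_two, ← hx, pow_orderOf_eq_one]
    have hxN : x ∈ N := subset_closure hx2
    refine hna ⟨⟨fun a b => ?_⟩⟩
    have hc : (⟨x, hxN⟩ : ↥N) ∈ center ↥N := mem_center_iff.2 fun y => Subtype.ext (mem_centralizer_iff.1 hxc y y.2)
    rcases IsSimpleGroup.eq_bot_or_eq_top_of_normal (center ↥N) inferInstance with h | h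
    · rw [h, mem_bot] at hc
      have : x = 1 := congrArg Subtype.val hc
      rw [this, orderOf_one] at hx
      omega
    · exact (mem_center_iff.1 (h ▸ mem_top b) a)
  let φ : G →* MulAut (ProjectiveSpecialLinearGroup (Fin 3) K) :=
    (MulAut.congr e).toMonoidHom.comp MulAut.conjNormal
  have hφ : Function.Injective φ := by
    rw [injective_iff_map_eq_one]
    intro g hg
    have h1 : (MulAut.conjNormal g : MulAut ↥N) = 1 := (MulAut.congr e).injective (by rw [map_one]; exact hg)
    have : g ∈ centralizer (N : Set G) := mem_centralizer_iff.2 fun n hn => by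
      have h2 := congrArg (fun f : MulAut ↥N => ((f ⟨n, hn⟩ : ↥N) : G)) h1
      simp only [MulAut.conjNormal_apply, MulAut.one_apply] at h2
      exact (mul_inv_eq_iff_eq_mul.1 h2).symm
    rwa [hcent, mem_bot] at this
  set R := (conjP : GL (Fin 3) K →* MulAut (ProjectiveSpecialLinearGroup (Fin 3) K)).range with hR
  haveI hRn : R.Normal := Cfsg.Lib.AutThreeFour.conjP_range_normal (by norm_num)
  have hker : (conjP : GL (Fin 3) K →* MulAut (ProjectiveSpecialLinearGroup (Fin 3) K)).ker =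
      center (GL (Fin 3) K) := by
    ext g
    refine ⟨fun h => (conjP_fieldP_eq_one (n := 3) (by norm_num) (σ := 1) ?_).1, fun h => conjP_scalar h⟩
    rw [MonoidHom.mem_ker.1 h, map_one, one_mul]
  let eR : (GL (Fin 3) K ⧸ center (GL (Fin 3) K)) ≃* R :=
    (QuotientGroup.quotientMulEquivOfEq hker.symm).trans (QuotientGroup.quotientKerEquivRange _)
  have hidx : R.index ∣ 4 := by
    have h1 := R.card_mul_index
    rw [← Nat.card_congr eR.toEquiv, Cfsg.Lib.AutThreeFour.card_mulAut_psl hK] at h1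
    have h2 : Nat.card (GL (Fin 3) K ⧸ center (GL (Fin 3) K)) = 60480 := by
      have hp : Nat.card (ProjGenLinGroup (Fin 3) K) = _ := Cfsg.Lib.Classical.card_PGL
      have hc := Cfsg.Lib.Classical.card_SL_mul_eq_prod (F := K) (n := 3) (by norm_num)
      norm_num [Fin.prod_univ_three, hK, -Nat.card_eq_fintype_card] at hc
      refine hp.trans ?_
      omega
    rw [h2] at h1
    exact ⟨1, by omega⟩
  have hNR : ∀ n ∈ N, φ n ∈ R := by
    intro n hn
    obtain ⟨M, hM0⟩ := QuotientGroup.mk'_surjective _ (e ⟨n, hn⟩)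
    refine ⟨SpecialLinearGroup.toGL M, ?_⟩
    rw [conjP_toGL, show π M = e ⟨n, hn⟩ from hM0]
    refine MulEquiv.ext fun x => ?_
    show e ⟨n, hn⟩ * x * (e ⟨n, hn⟩)⁻¹ = e (MulAut.conjNormal n (e.symm x))
    have : MulAut.conjNormal n (e.symm x) = (⟨n, hn⟩ : ↥N) * e.symm x * (⟨n, hn⟩ : ↥N)⁻¹ :=
      Subtype.ext (by simp)
    rw [this, map_mul, map_mul, map_inv, MulEquiv.apply_symm_apply]
  have hall : ∀ g, φ g ∈ R := by
    intro g
    have hodd : ¬ 2 ∣ N.index := fun h => C.S.not_dvd_index (h.trans (index_dvd_of_le hSN))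
    have h1 : (QuotientGroup.mk' R) (φ g) ^ N.index = 1 := by
      rw [← map_pow, ← map_pow]
      exact (QuotientGroup.eq_one_iff _).2 (hNR _ (N.pow_index_mem g))
    have h2 : (QuotientGroup.mk' R) (φ g) ^ 4 = 1 := by
      obtain ⟨k, hk⟩ := hidx
      rw [← map_pow]
      refine (QuotientGroup.eq_one_iff _).2 ?_
      rw [hk, pow_mul]
      exact pow_mem (R.pow_index_mem _) k
    have hco : Nat.Coprime N.index 4 := by
      rw [show (4 : ℕ) = 2 ^ 2 by norm_num]
      exact ((Nat.prime_two.coprime_iff_not_dvd).2 hodd).symm.pow_right 2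
    have := pow_gcd_eq_one.2 ⟨h1, h2⟩
    rw [hco.gcd_eq_one, pow_one] at this
    exact (QuotientGroup.eq_one_iff _).1 this
  obtain ⟨f, hf⟩ := exists_pgl_map (F := F) (FiniteField.ringEquivOfCardEq (hK.trans hF.symm))
  refine ⟨f.comp (eR.symm.toMonoidHom.comp (φ.codRestrict R hall)), hf.comp (eR.symm.injective.comp ?_)⟩
  exact fun a b k => hφ (congrArg Subtype.val k)

end Cfsg.Lib.LFourType
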