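import Cfsg.Agent.LocalThree.HallJankoType.KleinSelfCentral

/-!
The centraliser of an element of order three whose quotient has a self-centralising four-group with its three
involutions permuted: it is small modulo the element, so commuting pairs generate what they generate already.
-/

set_option autoImplicit false
set_option linter.unusedSectionVars false
set_option linter.style.haveILetI false

namespace Cfsg.Lib.LFourType

open Subgroup

universe u

variable {Y : Type u} [Group Y] [Finite Y]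

theorem alt_five_cent : ∀ a b : alternatingGroup (Fin 5), a * (a * a) = 1 → a ≠ 1 → a * b = b * a →
    b = 1 ∨ b = a ∨ b = a * a := by
  decide +kernel

theorem hodd_of_selfCent {V : Subgroup Y} (h4 : Nat.card V = 4) (hsq : ∀ v ∈ V, v * v = 1)
    (hcent : ∀ v ∈ V, v ≠ 1 → ∀ x : Y, Commute x v → x ∈ V) : ¬ 2 ∣ V.index := by
  classical
  haveI : Fact (Nat.Prime 2) := ⟨Nat.prime_two⟩
  intro hd
  obtain ⟨P, hP⟩ := (IsPGroup.of_card (n := 2) (by rw [h4]; norm_num) : IsPGroup 2 V).exists_le_sylow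
  have hlt : V < (P : Subgroup Y) := by
    refine lt_of_le_of_ne hP fun e => ?_
    exact P.not_dvd_index (e ▸ hd)
  set V' := V.subgroupOf (P : Subgroup Y)
  have hn := Group.normalizerCondition_of_isNilpotent (G := ↥(P : Subgroup Y)) (h := P.isPGroup'.isNilpotent) V'
    (lt_of_le_of_ne le_top fun e => (lt_irrefl V) (hlt.trans_le (subgroupOf_eq_top.1 e)))
  obtain ⟨⟨n, hnP⟩, hnN, hnV⟩ := SetLike.exists_of_lt hn
  have hconj : ∀ v ∈ V, n * v * n⁻¹ ∈ V := fun v hv =>
    mem_subgroupOf.1 ((mem_normalizer_iff.1 hnN ⟨v, hP hv⟩).1 (mem_subgroupOf.2 hv))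
  have hnV' : n ∉ V := fun hh => hnV (mem_subgroupOf.2 hh)
  -- a two-element acting on the three involutions fixes one
  let σ : ↥V → ↥V := fun v => ⟨n * v * n⁻¹, hconj v v.2⟩
  obtain ⟨k, hk⟩ := P.isPGroup' ⟨n, hnP⟩
  have hk' : n ^ 2 ^ k = 1 := congrArg Subtype.val hk
  letI : MulAction ↥(zpowers n) {v : ↥V // v ≠ 1} :=
    { smul := fun g v => ⟨⟨(g : Y) * v.1 * (g : Y)⁻¹, by
          obtain ⟨i, hi⟩ := mem_powers_iff_mem_zpowers.2 g.2
          rw [← hi]
          show n ^ i * (v.1 : Y) * (n ^ i)⁻¹ ∈ V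
          clear hi
          induction i with
          | zero => simpa using v.1.2
          | succ i ih =>
            have := hconj _ ih
            rwa [show n ^ (i + 1) * (v.1 : Y) * (n ^ (i + 1))⁻¹ = n * (n ^ i * v.1 * (n ^ i)⁻¹) * n⁻¹ by group]⟩,
        fun e => v.2 (Subtype.ext (conj_eq_one_iff.1 (congrArg Subtype.val e)))⟩
      one_smul := fun v => Subtype.ext (Subtype.ext (by
        show (1 : Y) * v.1 * (1 : Y)⁻¹ = v.1
        group))
      mul_smul := fun g g' v => Subtype.ext (Subtype.ext (by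
        show ((g * g' : ↥(zpowers n)) : Y) * v.1 * ((g * g' : ↥(zpowers n)) : Y)⁻¹ = _
        show (g : Y) * g' * v.1 * ((g : Y) * g')⁻¹ = (g : Y) * ((g' : Y) * v.1 * (g' : Y)⁻¹) * (g : Y)⁻¹
        group)) }
  have hp : IsPGroup 2 ↥(zpowers n) := P.isPGroup'.to_le (zpowers_le.2 hnP)
  obtain ⟨⟨v, hv1⟩, hfix⟩ := hp.nonempty_fixed_point_of_prime_not_dvd_card {v : ↥V // v ≠ 1} (by
    haveI := Fintype.ofFinite ↥V
    rw [Nat.card_eq_fintype_card, Fintype.card_subtype_compl, Fintype.card_subtype_eq, ← Nat.card_eq_fintype_card, h4]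
    norm_num)
  have e : n * (v : Y) * n⁻¹ = v := congrArg (fun w : {v : ↥V // v ≠ 1} => ((w.1 : ↥V) : Y))
    (hfix ⟨n, mem_zpowers n⟩)
  exact hnV' (hcent v v.2 (fun e1 => hv1 (Subtype.ext e1)) n (mul_inv_eq_iff_eq_mul.1 e))

/-- commuting with an element of order three outside the four-group -/
theorem cent_order_three {V : Subgroup Y} {z w h : Y} (hV : ∀ v, v ∈ V ↔ v = 1 ∨ v = z ∨ v = w ∨ v = z * w)
    (h4 : Nat.card V = 4) (hsq : ∀ v ∈ V, v * v = 1) (hcent : ∀ v ∈ V, v ≠ 1 → ∀ x : Y, Commute x v → x ∈ V)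
    (hz : h * z * h⁻¹ = w) (hw : h * w * h⁻¹ = z * w) (hzw : h * (z * w) * h⁻¹ = z) (h3 : h ^ 3 = 1)
    {a b : Y} (ha : a * (a * a) = 1) (ha1 : a ≠ 1) (hab : a * b = b * a) : b = 1 ∨ b = a ∨ b = a * a := by
  classical
  rcases Cfsg.Lib.HallJankoType.self_central_four hV h4 hsq (hodd_of_selfCent h4 hsq hcent) hcent hz hw hzw h3 with
    ⟨h12, hN⟩ | ⟨⟨e⟩⟩
  · haveI := hN
    haveI : Fact (Nat.Prime 3) := ⟨Nat.prime_three⟩
    have haV : a ∉ V := fun hh => ha1 (by
      have := hsq a hh
      rw [this, mul_one] at ha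
      exact ha)
    have hq : Nat.card (Y ⧸ V) = 3 := by
      have := V.card_eq_card_quotient_mul_card_subgroup
      rw [h12, h4] at this
      omega
    have hbq : (b : Y ⧸ V) ∈ zpowers (a : Y ⧸ V) := by
      rw [zpowers_eq_top_of_prime_card hq (fun e => haV ((QuotientGroup.eq_one_iff a).1 e))]
      trivial
    obtain ⟨i, hi⟩ := mem_powers_iff_mem_zpowers.2 hbq
    have hi' : ((a ^ i : Y) : Y ⧸ V) = b := by rw [QuotientGroup.mk_pow]; exact hi
    have hv := QuotientGroup.eq.1 hi'
    have hc : Commute a ((a ^ i)⁻¹ * b) := ((Commute.refl a).pow_right i).inv_right.mul_right hab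
    have hb : b = a ^ i := by
      by_contra hne
      exact haV (hcent _ hv (fun e => hne (inv_mul_eq_one.1 e).symm) a hc)
    have hmod : b = a ^ (i % 3) := by
      rw [hb, ← pow_mod_orderOf a i, orderOf_eq_prime (by rw [pow_succ', pow_two]; exact ha) ha1]
    rcases (show i % 3 = 0 ∨ i % 3 = 1 ∨ i % 3 = 2 by omega) with r | r | r <;> rw [r] at hmod
    · exact .inl (by simpa using hmod)
    · exact .inr (.inl (by simpa using hmod))
    · exact .inr (.inr (by rw [hmod, pow_two]))
  · rcases alt_five_cent (e a) (e b) (by rw [← map_mul, ← map_mul, ha, map_one])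
      (fun e1 => ha1 (e.injective (e1.trans (map_one e).symm))) (by rw [← map_mul, hab, map_mul]) with r | r | r
    · exact .inl (e.injective (r.trans (map_one e).symm))
    · exact .inr (.inl (e.injective r))
    · exact .inr (.inr (e.injective (r.trans (map_mul e a a).symm)))

/-- the centraliser of two commuting elements of order three, the first with such a quotient -/
theorem cent_pair {G : Type u} [Group G] [Finite G] {r d z w h x : G} (hr : r * (r * r) = 1) (hr1 : r ≠ 1)
    (hd : d * (d * d) = 1) (hdr : d * r = r * d) (hdn : d ∉ zpowers r)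
    (hz : z * r = r * z) (hw : w * r = r * w) (hh : h * r = r * h)
    (hzz : z * z = 1) (hww : w * w = 1) (hz1 : z ≠ 1) (hw1 : w ≠ 1) (hne : z ≠ w) (hcomm : z * w = w * z)
    (hcz : ∀ g, g * r = r * g → ∀ v ∈ [z, w, z * w], g * v = v * g → ∃ c ∈ zpowers r,
      ∃ u ∈ [1, z, w, z * w], g = c * u)
    (h3 : h ^ 3 = 1) (ez : h * z * h⁻¹ = w) (ew : h * w * h⁻¹ = z * w) (ezw : h * (z * w) * h⁻¹ = z)
    (hxr : x * r = r * x) (hxd : x * d = d * x) : x ∈ zpowers r ⊔ zpowers d := by
  classical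
  set W := centralizer ({r} : Set G)
  have mW : ∀ {g : G}, g * r = r * g → g ∈ W := fun hg => mem_centralizer_singleton_iff.2 hg
  let r' : ↥W := ⟨r, mW rfl⟩
  let R : Subgroup ↥W := zpowers r'
  haveI : R.Normal := ⟨fun a ha g => by
    obtain ⟨i, rfl⟩ := ha
    refine ⟨i, Subtype.ext ?_⟩
    show r ^ i = (g : G) * r ^ i * (g : G)⁻¹
    have hg : Commute (g : G) r := mem_centralizer_singleton_iff.1 g.2
    rw [(hg.zpow_right i).eq, mul_inv_cancel_right]⟩
  let π : ↥W →* ↥W ⧸ R := QuotientGroup.mk' R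
  have hπ : ∀ g : ↥W, π g = 1 ↔ (g : G) ∈ zpowers r := fun g => by
    rw [← MonoidHom.mem_ker, QuotientGroup.ker_mk']
    constructor
    · rintro ⟨i, rfl⟩; exact ⟨i, rfl⟩
    · rintro ⟨i, hi⟩; exact ⟨i, Subtype.ext hi⟩
  let z' : ↥W := ⟨z, mW hz⟩
  let w' : ↥W := ⟨w, mW hw⟩
  let h' : ↥W := ⟨h, mW hh⟩
  have hr3 : orderOf r = 3 := by
    haveI : Fact (Nat.Prime 3) := ⟨Nat.prime_three⟩
    exact orderOf_eq_prime (by rw [pow_succ', pow_two]; exact hr) hr1
  have hinv : ∀ v : G, v * v = 1 → v ≠ 1 → v ∉ zpowers r := fun v hv hv1 hvr => by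
    have h2 : orderOf v = 2 := orderOf_eq_prime (by rw [pow_two]; exact hv) hv1
    have h3 := orderOf_dvd_natCard (⟨v, hvr⟩ : ↥(zpowers r))
    rw [Subgroup.orderOf_mk, Nat.card_zpowers, h2, hr3] at h3
    norm_num at h3
  have hzw2 : z * w * (z * w) = 1 := by
    rw [show z * w * (z * w) = z * (w * z) * w by group, ← hcomm, ← mul_assoc, hzz, one_mul, hww]
  have hzw1 : z * w ≠ 1 := fun e => hne (by rw [eq_inv_of_mul_eq_one_left e, inv_eq_of_mul_eq_one_right hww])
  let V : Subgroup (↥W ⧸ R) := closure {π z', π w'}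
  have e1 : π z' * π z' = 1 := by rw [← map_mul, hπ, show ((z' * z' : ↥W) : G) = 1 from hzz]; exact one_mem _
  have e2 : π w' * π w' = 1 := by rw [← map_mul, hπ, show ((w' * w' : ↥W) : G) = 1 from hww]; exact one_mem _
  have e3 : π z' * π w' = π w' * π z' := by
    rw [← map_mul, ← map_mul]; exact congrArg π (Subtype.ext hcomm)
  have hV : ∀ v, v ∈ V ↔ v = 1 ∨ v = π z' ∨ v = π w' ∨ v = π z' * π w' := by
    intro v
    constructor
    · intro hv
      have i1 : (π z')⁻¹ = π z' := inv_eq_of_mul_eq_one_right e1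
      have i2 : (π w')⁻¹ = π w' := inv_eq_of_mul_eq_one_right e2
      have c1 : ∀ u, π z' * (π z' * u) = u := fun u => by rw [← mul_assoc, e1, one_mul]
      have c2 : ∀ u, π w' * (π w' * u) = u := fun u => by rw [← mul_assoc, e2, one_mul]
      have c3 : ∀ u, π w' * (π z' * u) = π z' * (π w' * u) := fun u => by rw [← mul_assoc, ← e3, mul_assoc]
      induction hv using closure_induction with
      | mem a ha => rcases ha with rfl | rfl <;> simp
      | one => exact .inl rfl
      | mul a b _ _ iha ihb =>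
        rcases iha with rfl | rfl | rfl | rfl <;> rcases ihb with rfl | rfl | rfl | rfl <;>
          simp [mul_assoc, e1, e2, c1, c2, c3, ← e3]
      | inv a _ iha =>
        rcases iha with rfl | rfl | rfl | rfl <;> simp [i1, i2, ← e3]
    · rintro (rfl | rfl | rfl | rfl)
      exacts [one_mem _, subset_closure (.inl rfl), subset_closure (.inr rfl),
        mul_mem (subset_closure (.inl rfl)) (subset_closure (.inr rfl))]
  have n1 : π z' ≠ 1 := fun e => hinv z hzz hz1 ((hπ _).1 e)
  have n2 : π w' ≠ 1 := fun e => hinv w hww hw1 ((hπ _).1 e)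
  have n3 : π z' * π w' ≠ 1 := fun e => hinv _ hzw2 hzw1 ((hπ (z' * w')).1 (by rw [map_mul]; exact e))
  have n4 : π z' ≠ π w' := fun e => n3 (by rw [e, e2])
  have h4 : Nat.card V = 4 := by
    rw [show Nat.card V = Nat.card ↥({1, π z', π w', π z' * π w'} : Finset (↥W ⧸ R)) from
      Nat.card_congr (Equiv.subtypeEquivRight fun v => by rw [hV]; simp), Nat.card_eq_fintype_card,
      Fintype.card_coe]
    simp [n1.symm, n2.symm, n3.symm, n4, n1, n2]
  have hsq : ∀ v ∈ V, v * v = 1 := fun v hv => by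
    rcases (hV v).1 hv with rfl | rfl | rfl | rfl
    exacts [one_mul _, e1, e2, by rw [← map_mul, ← map_mul, hπ, show ((z' * w' * (z' * w') : ↥W) : G) = 1 from hzw2]; exact one_mem _]
  have hcent : ∀ v ∈ V, v ≠ 1 → ∀ a, Commute a v → a ∈ V := by
    intro v hv hv1 a hav
    obtain ⟨g, rfl⟩ := QuotientGroup.mk'_surjective R a
    have key : ∀ v' : ↥W, (v' : G) ∈ [z, w, z * w] → (v' : G) * v' = 1 → Commute (π g) (π v') → π g ∈ V := by
      intro v' hm hsq' hc
      have hq : ((g * v' * g⁻¹ * v'⁻¹ : ↥W) : G) ∈ zpowers r := (hπ _).1 (by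
        rw [map_mul, map_mul, map_mul, map_inv, map_inv, hc.eq, mul_inv_cancel_right, mul_inv_cancel])
      obtain ⟨i, hi⟩ := hq
      set x := (g : G) * (v' : G) * (g : G)⁻¹
      have hi' : r ^ i = x * (v' : G)⁻¹ := hi
      have hxv : x = r ^ i * v' := by rw [hi', inv_mul_cancel_right]
      have hx2 : x * x = 1 := by simp [x, hsq']
      have hrv : Commute (v' : G) (r ^ i) := (show Commute (v' : G) r from mem_centralizer_singleton_iff.1 v'.2).zpow_right i
      have h2 : r ^ (i * 2) = 1 := by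
        rw [hxv, show r ^ i * (v' : G) * (r ^ i * v') = r ^ i * ((v' : G) * r ^ i) * v' by group, hrv.eq,
          ← mul_assoc, mul_assoc _ _ (v' : G), hsq', mul_one, ← zpow_add] at hx2
        rw [← hx2]; ring_nf
      have hd2 : (3 : ℤ) ∣ i * 2 := by
        have := orderOf_dvd_iff_zpow_eq_one.2 h2
        rw [hr3] at this
        exact_mod_cast this
      have hi0 : r ^ i = 1 := by
        obtain ⟨j, hj⟩ := (Int.prime_three.dvd_mul.1 hd2).resolve_right (by norm_num)
        rw [hj, zpow_mul]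
        simp [show r ^ (3 : ℤ) = 1 by rw [show (3 : ℤ) = ((3 : ℕ) : ℤ) from rfl, zpow_natCast, pow_succ', pow_two]; exact hr]
      rw [hi0, one_mul] at hxv
      obtain ⟨c, hc', u, hu, hgu⟩ := hcz g (mem_centralizer_singleton_iff.1 g.2) _ hm (mul_inv_eq_iff_eq_mul.1 hxv)
      have hu' : ∀ u' : ↥W, (u' : G) = u → π g = π u' := fun u' hu' => by
        rw [← mul_inv_eq_one, ← map_inv, ← map_mul, hπ]
        show (g : G) * (u' : G)⁻¹ ∈ _
        rw [hgu, hu', mul_inv_cancel_right]
        exact hc'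
      simp only [List.mem_cons, List.not_mem_nil, or_false] at hu
      rw [hV]
      rcases hu with rfl | rfl | rfl | rfl
      exacts [.inl ((hu' 1 rfl).trans (map_one π)), .inr (.inl (hu' z' rfl)), .inr (.inr (.inl (hu' w' rfl))),
        .inr (.inr (.inr ((hu' (z' * w') rfl).trans (map_mul π z' w'))))]
    rcases (hV v).1 hv with e | e | e | e
    · exact absurd e hv1
    · exact key z' (by simp [z']) hzz (e ▸ hav)
    · exact key w' (by simp [w']) hww (e ▸ hav)
    · exact key (z' * w') (by simp [z', w']) hzw2 (by rw [map_mul]; exact e ▸ hav)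
  have hconj : ∀ p q : ↥W, (h : G) * p * h⁻¹ = q → π h' * π p * (π h')⁻¹ = π q := fun p q e => by
    rw [← map_inv, ← map_mul, ← map_mul]; exact congrArg π (Subtype.ext e)
  let d' : ↥W := ⟨d, mW hdr⟩
  have hres := cent_order_three hV h4 hsq hcent (hconj z' w' ez) ((hconj w' (z' * w') ew).trans (map_mul π z' w'))
    (by rw [← map_mul]; exact hconj (z' * w') z' ezw)
    (by rw [← map_pow, show h' ^ 3 = 1 from Subtype.ext h3, map_one])
    (a := π d') (b := π ⟨x, mW hxr⟩) (by rw [← map_mul, ← map_mul, hπ, show ((d' * (d' * d') : ↥W) : G) = 1 from hd]; exact one_mem _)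
    (fun e => hdn ((hπ d').1 e)) (by rw [← map_mul, ← map_mul]; exact congrArg π (Subtype.ext hxd.symm))
  have fin : ∀ u : ↥W, (u : G) ∈ zpowers d → π ⟨x, mW hxr⟩ = π u → x ∈ zpowers r ⊔ zpowers d := fun u hu e => by
    have h1 : x * (u : G)⁻¹ ∈ zpowers r :=
      (hπ (⟨x, mW hxr⟩ * u⁻¹)).1 (by rw [map_mul, map_inv, e, mul_inv_cancel])
    simpa using mul_mem (mem_sup_left (T := zpowers d) h1) (mem_sup_right (S := zpowers r) hu)
  rcases hres with e | e | e
  · exact fin 1 (one_mem _) (e.trans (map_one π).symm)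
  · exact fin d' (mem_zpowers d) e
  · exact fin (d' * d') (mul_mem (mem_zpowers d) (mem_zpowers d)) (e.trans (map_mul π d' d').symm)

end Cfsg.Lib.LFourType
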