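import Cfsg.Agent.LFourType.TorusExists
import Cfsg.Agent.LFourType.BNCount
import Cfsg.Agent.LFourType.RootCentral

/-!
Two tori with the same complement: the double coset count bounds the order.
-/

set_option autoImplicit false
set_option linter.unusedSectionVars false
set_option linter.style.haveILetI false

namespace Cfsg.Lib.LFourType.Coord

open Subgroup

universe u

variable {G : Type u} [Group G] [Finite G] (C : Coord G)

/-- the exponents on the three root groups multiply -/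
theorem ch_compat {d : G} {α γ β γ' : Fin 4} (hα : α ≠ 0) (hβ : β ≠ 0) (h : C.Ch d α γ) (h' : C.swap.Ch d β γ') :
    γ' = γ ∧ qm α β = γ := by
  have hz : γ' = γ := by
    obtain ⟨y, e, h1, h2, h3⟩ := h (0, 0, 1) rfl
    obtain ⟨y', e', h1', h2', h3'⟩ := h' (0, 0, 1) rfl
    have h3 := h3 rfl
    have h3' := h3' rfl
    rw [show C.swap.e (0, 0, 1) = C.e (0, 0, 1) from rfl, e] at e'
    have e2 : y = tau y' := C.e_inj e'
    rw [e2] at h3
    simp only [tau, h1', h2', (qa_zero β).2.2.2.1, (qa_zero (0 : Fin 4)).2.2.2.1] at h3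
    rw [(qa_zero _).1, h3'] at h3
    simpa [(qm_one _).2] using h3
  refine ⟨hz, ?_⟩
  obtain ⟨y, e, h1, h2, -⟩ := h (1, 0, 0) rfl
  obtain ⟨y', e', h1', h2', -⟩ := h' (1, 0, 0) rfl
  obtain ⟨w, e'', -, -, h3⟩ := h (0, 0, 1) rfl
  -- apply the element to the commutator relation
  have rel : C.e (1, 0, 0) * C.e (0, 1, 0) = C.e (0, 1, 0) * C.e (1, 0, 0) * C.e (0, 0, 1) := by
    rw [← C.e_mul, ← C.e_mul, ← C.e_mul]
    rfl
  have e3 : d * C.e (0, 1, 0) * d⁻¹ = C.e (tau y') := by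
    rw [show C.e (0, 1, 0) = C.swap.e (1, 0, 0) from rfl, e']
    rfl
  have key : C.e y * C.e (tau y') = C.e (tau y') * C.e y * C.e w := by
    rw [← e, ← e3, ← e'']
    calc d * C.e (1, 0, 0) * d⁻¹ * (d * C.e (0, 1, 0) * d⁻¹) = d * (C.e (1, 0, 0) * C.e (0, 1, 0)) * d⁻¹ := by group
      _ = _ := by rw [rel]; group
  rw [← C.e_mul, ← C.e_mul, ← C.e_mul] at key
  have hw : w.1 = 0 ∧ w.2.1 = 0 ∧ w.2.2 = γ := by
    have hz' : C.e w ∈ C.Z := by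
      rw [← e'']
      have hzz : C.e (0, 0, 1) ∈ C.Z := C.mem_Z.2 ⟨rfl, rfl⟩
      obtain ⟨y'', e4, g1, g2, -⟩ := h (0, 0, 1) rfl
      rw [e4]
      exact C.mem_Z.2 ⟨by rw [g1, (qa_zero α).2.2.2.1], g2⟩
    obtain ⟨g1, g2⟩ := C.mem_Z.1 hz'
    exact ⟨g1, g2, by rw [h3 rfl, (qm_one γ).2]⟩
  have k := C.e_inj key
  obtain ⟨y1, y2, y3⟩ := y
  obtain ⟨z1, z2, z3⟩ := y'
  obtain ⟨w1, w2, w3⟩ := w
  obtain ⟨g1, g2, g3⟩ := hw
  simp only at h1 h2 h1' h2' g1 g2 g3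
  rw [(qm_one α).2] at h1
  rw [(qm_one β).2] at h1'
  subst h1 h2 h1' h2' g1 g2 g3
  exact (by decide +kernel : ∀ a b g c c' : Fin 4, mm (a, 0, c) (tau (b, 0, c')) = mm (mm (tau (b, 0, c')) (a, 0, c)) (0, 0, g) → qm a b = g) _ _ _ _ _ k

/-- a pair of tori with the same complement -/
structure TorPair where
  /-- the torus of the first side -/
  T : C.Tor
  /-- the torus of the second side -/
  T' : C.swap.Tor
  same : T'.D = T.D

namespace TorPair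

variable {C} (P : C.TorPair)

theorem t_mem : P.T'.s ∈ normalizer (C.B : Set G) := C.swap_A ▸ P.T'.s_mem

theorem conj_Z_A {z : G} (hz : z ∈ C.Z) : P.T.s * z * P.T.s⁻¹ ∈ C.A := cj_mem P.T.s_mem (C.Z_le_A hz)

theorem conj_Z_B {z : G} (hz : z ∈ C.Z) : P.T'.s * z * P.T'.s⁻¹ ∈ C.B := cj_mem P.t_mem (C.Z_le_B hz)

theorem s_inv : P.T.s⁻¹ = P.T.s := inv_eq_of_mul_eq_one_right P.T.s_sq
theorem t_inv : P.T'.s⁻¹ = P.T'.s := inv_eq_of_mul_eq_one_right P.T'.s_sq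

theorem t_Z {z : G} (hz : z ∈ C.Z) (h : P.T'.s * z * P.T'.s⁻¹ ∈ C.Z) : z = 1 :=
  P.T'.s_Z z (C.swap_Z.symm ▸ hz) (C.swap_Z.symm ▸ h)

/-- every element of the Sylow subgroup is a conjugated central element times an element of `A` -/
theorem split_S {x : G} (hx : x ∈ (C.S : Subgroup G)) :
    ∃ u ∈ conjS P.T'.s C.Z, ∃ a ∈ C.A, x = u * a := by
  let f : ↥(conjS P.T'.s C.Z) × ↥C.A → ↥(C.S : Subgroup G) := fun p => ⟨(p.1 : G) * p.2, by
    obtain ⟨z, hz, e⟩ := p.1.2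
    exact mul_mem (e ▸ C.B_le (P.conj_Z_B hz)) (C.A_le p.2.2)⟩
  have hf : Function.Injective f := by
    intro p q e
    have e' : (p.1 : G) * p.2 = q.1 * q.2 := congrArg Subtype.val e
    have h1 : (q.1 : G)⁻¹ * p.1 = q.2 * (p.2 : G)⁻¹ := by
      rw [← mul_inv_eq_iff_eq_mul.2 e'.symm]
      group
    obtain ⟨z, hz, hzu⟩ := mul_mem (inv_mem q.1.2) p.1.2
    change P.T'.s * z * P.T'.s⁻¹ = _ at hzu
    have hA : P.T'.s * z * P.T'.s⁻¹ ∈ C.A := by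
      rw [hzu, h1]
      exact mul_mem q.2.2 (inv_mem p.2.2)
    have := P.t_Z hz ⟨hA, P.conj_Z_B hz⟩
    rw [this, mul_one, mul_inv_cancel] at hzu
    rw [← hzu] at h1
    exact Prod.ext (Subtype.ext (inv_mul_eq_one.1 hzu.symm).symm) (Subtype.ext (mul_inv_eq_one.1 h1.symm).symm)
  obtain ⟨⟨u, a⟩, e⟩ := ((Nat.bijective_iff_injective_and_card f).2 ⟨hf, by
    rw [Nat.card_prod, card_conjS, C.card_Z, C.card_A, C.card_S]⟩).2 ⟨x, hx⟩
  exact ⟨u, u.2, a, a.2, (congrArg Subtype.val e).symm⟩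

theorem conjS_le_norm : conjS P.T'.s C.Z ≤ normalizer ((C.S : Subgroup G) : Set G) := by
  rintro _ ⟨z, hz, rfl⟩
  exact le_normalizer (C.B_le (P.conj_Z_B hz))

/-- the side conditions of the double coset count -/
theorem side : BN.Side (normalizer ((C.S : Subgroup G) : Set G)) (conjS P.T'.s C.Z) P.T.s P.T'.s where
  sub := P.conjS_le_norm
  split b hb := by
    obtain ⟨x, hx, d, hd, rfl⟩ := P.T.decomp b hb
    obtain ⟨u, hu, a, ha, rfl⟩ := P.split_S hx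
    refine ⟨u, hu, ?_⟩
    rw [show u⁻¹ * (u * a * d) = a * d by group]
    refine ⟨mul_mem (le_normalizer (C.A_le ha)) (P.T.le_norm hd), ?_⟩
    obtain ⟨α, γ, -, -, h⟩ := P.T.ch_ex d hd
    rw [show P.T.s⁻¹ * (a * d) * P.T.s = (P.T.s⁻¹ * a * P.T.s⁻¹⁻¹) * (P.T.s * d * P.T.s⁻¹) by
      rw [inv_inv]; rw [P.s_inv]; rw [show P.T.s * a * P.T.s * (P.T.s * d * P.T.s) = P.T.s * a * (P.T.s * P.T.s) * (d * P.T.s) by group, P.T.s_sq]; group]
    exact mul_mem (le_normalizer (C.A_le (cj_mem (inv_mem P.T.s_mem) ha))) (P.T.le_norm (P.T.s_swap d hd α γ h).1)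
  sq := by rw [P.T.s_sq]; exact one_mem _
  rankOne u hu := by
    obtain ⟨z, hz, rfl⟩ := hu
    exact P.T.cases _ (mul_mem (mul_mem P.T.s_mem (C.S_le_normalizer_A (C.B_le (P.conj_Z_B hz)))) P.T.s_mem)
  fst u hu := by
    obtain ⟨z, hz, rfl⟩ := hu
    show P.T'.s⁻¹ * (P.T'.s * z * P.T'.s⁻¹) * P.T'.s ∈ _
    rw [show P.T'.s⁻¹ * (P.T'.s * z * P.T'.s⁻¹) * P.T'.s = z by group]
    exact le_normalizer (C.Z_le hz)
  snd u hu := by
    obtain ⟨z, hz, rfl⟩ := hu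
    show (P.T'.s * P.T.s)⁻¹ * (P.T'.s * z * P.T'.s⁻¹) * (P.T'.s * P.T.s) ∈ _
    rw [show (P.T'.s * P.T.s)⁻¹ * (P.T'.s * z * P.T'.s⁻¹) * (P.T'.s * P.T.s) = P.T.s⁻¹ * z * P.T.s⁻¹⁻¹ by group]
    exact le_normalizer (C.A_le (cj_mem (inv_mem P.T.s_mem) (C.Z_le_A hz)))

/-- the pair with the sides exchanged -/
def swap : C.swap.TorPair where
  T := P.T'
  T' := (C.swap_swap).symm ▸ P.T
  same := by
    have : ((C.swap_swap).symm ▸ P.T : C.swap.swap.Tor).D = P.T.D := by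
      generalize C.swap_swap.symm = e
      revert e
      generalize C.swap.swap = D'
      rintro rfl
      rfl
    rw [this, P.same]

theorem swap_s : P.swap.T'.s = P.T.s := by
  show ((C.swap_swap).symm ▸ P.T : C.swap.swap.Tor).s = P.T.s
  generalize C.swap_swap.symm = e
  revert e
  generalize C.swap.swap = D'
  rintro rfl
  rfl

theorem side' : BN.Side (normalizer ((C.S : Subgroup G) : Set G)) (conjS P.T.s C.Z) P.T'.s P.T.s := by
  have h := P.swap.side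
  rw [P.swap_s, C.swap_Z] at h
  exact h

/-- the action of the exchanging involutions on the characters -/
theorem chars {d : G} (hd : d ∈ P.T.D) {α γ : Fin 4} (hα : α ≠ 0) (hγ : γ ≠ 0) (h : C.Ch d α γ) :
    (P.T.s * d * P.T.s⁻¹ ∈ P.T.D ∧ C.Ch (P.T.s * d * P.T.s⁻¹) γ α) ∧
      (P.T'.s * d * P.T'.s⁻¹ ∈ P.T.D ∧ C.Ch (P.T'.s * d * P.T'.s⁻¹) (qm α α) (qm γ (qm α α))) := by
  refine ⟨P.T.s_swap d hd α γ h, ?_⟩
  obtain ⟨β, γ', hβ, -, h'⟩ := P.T'.ch_ex d (P.same.symm ▸ hd)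
  obtain ⟨rfl, hab⟩ := C.ch_compat hα hβ h h'
  obtain ⟨h1, h2⟩ := P.T'.s_swap d (P.same.symm ▸ hd) β γ' h'
  rw [P.same] at h1
  refine ⟨h1, ?_⟩
  obtain ⟨α'', γ'', hα'', hγ'', h3⟩ := P.T.ch_ex _ h1
  obtain ⟨e1, e2⟩ := C.ch_compat hα'' hγ h3 h2
  have key : ∀ a b a'' : Fin 4, a ≠ 0 → b ≠ 0 → a'' ≠ 0 → qm a'' (qm a b) = b →
      a'' = qm a a ∧ b = qm (qm a b) (qm a a) := by decide +kernel
  rw [← hab, ← e1] at e2
  obtain ⟨k1, k2⟩ := key α β α'' hα hβ hα'' e2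
  rw [k1, ← e1, k2, hab] at h3
  exact h3

variable [IsSimpleGroup G]

theorem braid (hC : ∀ z ∈ C.Z, z ≠ 1 → centralizer ({z} : Set G) ≤ normalizer ((C.S : Subgroup G) : Set G)) :
    ∃ d ∈ normalizer ((C.S : Subgroup G) : Set G),
      P.T.s * P.T'.s * P.T.s = d * (P.T'.s * P.T.s * P.T'.s) := by
  set x := P.T.s * P.T'.s * P.T.s * (P.T'.s * P.T.s * P.T'.s)⁻¹ with hx
  suffices hxD : x ∈ P.T.D from ⟨x, P.T.le_norm hxD, by rw [hx, inv_mul_cancel_right]⟩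
  -- it centralises the complement
  have hcen : ∀ d ∈ P.T.D, x * d = d * x := by
    intro d hd
    have step : ∀ {d}, d ∈ P.T.D → ∀ {α γ : Fin 4}, α ≠ 0 → γ ≠ 0 → C.Ch d α γ →
        P.T.s * d * P.T.s ∈ P.T.D ∧ C.Ch (P.T.s * d * P.T.s) γ α ∧
        P.T'.s * d * P.T'.s ∈ P.T.D ∧ C.Ch (P.T'.s * d * P.T'.s) (qm α α) (qm γ (qm α α)) := by
      intro d hd α γ hα hγ h
      have := P.chars hd hα hγ h
      rw [P.s_inv, P.t_inv] at this
      exact ⟨this.1.1, this.1.2, this.2.1, this.2.2⟩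
    -- the conjugation is onto
    have hsurj : ∀ d ∈ P.T.D, ∃ d₀ ∈ P.T.D, d = (P.T'.s * P.T.s * P.T'.s) * d₀ * (P.T'.s * P.T.s * P.T'.s)⁻¹ := by
      intro d hd
      refine ⟨P.T'.s * (P.T.s * (P.T'.s * d * P.T'.s) * P.T.s) * P.T'.s, ?_, ?_⟩
      · obtain ⟨α, γ, hα, hγ, h⟩ := P.T.ch_ex d hd
        obtain ⟨-, -, p1, q1⟩ := step hd hα hγ h
        obtain ⟨α₁, γ₁, h1, h2, h3⟩ := P.T.ch_ex _ p1
        obtain ⟨p2, -, -, -⟩ := step p1 h1 h2 h3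
        obtain ⟨α₂, γ₂, h4, h5, h6⟩ := P.T.ch_ex _ p2
        exact (step p2 h4 h5 h6).2.2.1
      · simp only [mul_inv_rev, P.s_inv, P.t_inv]
        rw [show P.T'.s * P.T.s * P.T'.s * (P.T'.s * (P.T.s * (P.T'.s * d * P.T'.s) * P.T.s) * P.T'.s) *
            (P.T'.s * (P.T.s * P.T'.s)) =
          P.T'.s * (P.T.s * (P.T'.s * P.T'.s) * P.T.s) * P.T'.s * d *
            (P.T'.s * (P.T.s * (P.T'.s * P.T'.s) * P.T.s) * P.T'.s) by group]
        simp [P.T.s_sq, P.T'.s_sq]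
    obtain ⟨d₀, hd₀, hdd⟩ := hsurj d hd
    obtain ⟨α₀, γ₀, hα₀, hγ₀, h₀⟩ := P.T.ch_ex d₀ hd₀
    obtain ⟨-, -, a1, b1⟩ := step hd₀ hα₀ hγ₀ h₀
    obtain ⟨a2, b2, -, -⟩ := step a1 (qm_ne_zero _ _ hα₀ hα₀) (qm_ne_zero _ _ hγ₀ (qm_ne_zero _ _ hα₀ hα₀)) b1
    obtain ⟨-, -, a3, b3⟩ := step a2 (qm_ne_zero _ _ hγ₀ (qm_ne_zero _ _ hα₀ hα₀)) (qm_ne_zero _ _ hα₀ hα₀) b2
    obtain ⟨c1, d1, -, -⟩ := step hd₀ hα₀ hγ₀ h₀
    obtain ⟨-, -, c2, d2⟩ := step c1 hγ₀ hα₀ d1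
    obtain ⟨c3, d3, -, -⟩ := step c2 (qm_ne_zero _ _ hγ₀ hγ₀) (qm_ne_zero _ _ hα₀ (qm_ne_zero _ _ hγ₀ hγ₀)) d2
    have e := (by decide +kernel : ∀ a g : Fin 4, a ≠ 0 → g ≠ 0 →
      (qm (qm g (qm a a)) (qm g (qm a a)), qm (qm a a) (qm (qm g (qm a a)) (qm g (qm a a)))) =
        (qm a (qm g g), qm g g)) α₀ γ₀ hα₀ hγ₀
    rw [Prod.mk.injEq] at e
    rw [e.2, e.1] at b3
    have e4 := P.T.D_ch_mul a3 c3 b3 d3
    have h' : x * d * x⁻¹ = d := by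
      have e5 : (P.T'.s * P.T.s * P.T'.s) * d₀ * (P.T'.s * P.T.s * P.T'.s)⁻¹ =
          (P.T.s * P.T'.s * P.T.s) * d₀ * (P.T.s * P.T'.s * P.T.s)⁻¹ := by
        simp only [mul_inv_rev, P.s_inv, P.t_inv]
        simpa only [mul_assoc] using e4
      rw [hdd, hx]
      conv_rhs => rw [e5]
      group
    exact mul_inv_eq_iff_eq_mul.1 h'
  -- the centraliser of the complement
  obtain ⟨r, hr, hrch⟩ := P.T.ch_surj 2 1 (by decide) (by decide)
  obtain ⟨h, hh, hhch⟩ := P.T.ch_surj 1 2 (by decide) (by decide)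
  have hr1 : r ≠ 1 := fun e => by
    rw [e] at hrch
    exact absurd (Ch.unique C hrch (Ch.one C)).1 (by decide)
  have act : ∀ {d : G} {α γ : Fin 4}, C.Ch d α γ → ∀ c, d * C.e (0, 0, c) * d⁻¹ = C.e (0, 0, qm γ c) := by
    intro d α γ hc c
    obtain ⟨y, e, h1, h2, h3⟩ := hc (0, 0, c) rfl
    rw [e]
    exact congrArg C.e (Prod.ext (h1.trans (qa_zero α).2.2.2.1) (Prod.ext h2 (h3 rfl)))
  have zz : ∀ c c' : Fin 4, C.e (0, 0, c) * C.e (0, 0, c') = C.e (0, 0, qa c c') := fun c c' => by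
    rw [← C.e_mul]
    exact congrArg C.e ((by decide +kernel : ∀ c c' : Fin 4, mm (0, 0, c) (0, 0, c') = (0, 0, qa c c')) c c')
  have zc : ∀ c, C.e (0, 0, c) * r = r * C.e (0, 0, c) := fun c => by
    have := act hrch c
    rw [(qm_one c).1] at this
    exact (mul_inv_eq_iff_eq_mul.1 this).symm
  have hhh : h * r = r * h := P.T.comm hh hr
  have hh3 : h ^ 3 = 1 := by rw [pow_succ', pow_two]; exact P.T.cube hh
  have hne : ∀ c : Fin 4, c ≠ 0 → C.e (0, 0, c) ≠ 1 := fun c hc e => hc (by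
    have := C.e_eq_one.1 e
    exact congrArg (fun v : Mo => v.2.2) this)
  have hhn : h ∉ zpowers r := fun hm => by
    have hfix : h * C.e (0, 0, 1) * h⁻¹ = C.e (0, 0, 1) := by
      have hc : Commute h (C.e (0, 0, 1)) := by
        obtain ⟨i, hi⟩ := hm
        rw [← hi]
        exact ((show Commute (C.e (0, 0, 1)) r from zc 1).zpow_right i).symm
      rw [hc.eq, mul_inv_cancel_right]
    rw [act hhch 1] at hfix
    exact absurd (C.e_inj hfix) (by decide)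
  have hcz : ∀ g, g * r = r * g → ∀ v ∈ [C.e (0, 0, 1), C.e (0, 0, 2), C.e (0, 0, 1) * C.e (0, 0, 2)],
      g * v = v * g → ∃ c ∈ zpowers r, ∃ u ∈ [1, C.e (0, 0, 1), C.e (0, 0, 2), C.e (0, 0, 1) * C.e (0, 0, 2)],
        g = c * u := by
    intro g hgr v hv hgv
    obtain ⟨cv, hcv0, rfl⟩ : ∃ cv : Fin 4, cv ≠ 0 ∧ v = C.e (0, 0, cv) := by
      simp only [List.mem_cons, List.not_mem_nil, or_false] at hv
      rcases hv with rfl | rfl | rfl
      exacts [⟨1, by decide, rfl⟩, ⟨2, by decide, rfl⟩, ⟨qa 1 2, by decide, zz 1 2⟩]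
    obtain ⟨u, hu, d, hd, rfl⟩ := P.T.decomp g
      (hC _ (C.mem_Z.2 ⟨rfl, rfl⟩) (hne cv hcv0) (mem_centralizer_singleton_iff.2 hgv))
    obtain ⟨w, rfl⟩ := C.exists_coord hu
    obtain ⟨α, γ, hα, hγ, hdch⟩ := P.T.ch_ex d hd
    have hγ1 : γ = 1 := by
      have hu' : C.e w * C.e (0, 0, qm γ cv) = C.e (0, 0, qm γ cv) * C.e w :=
        (C.Z_central (C.mem_Z.2 ⟨rfl, rfl⟩) hu).symm.eq
      have h1 : C.e w * d * C.e (0, 0, cv) * (C.e w * d)⁻¹ = C.e (0, 0, cv) := by rw [hgv, mul_inv_cancel_right]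
      rw [show C.e w * d * C.e (0, 0, cv) * (C.e w * d)⁻¹ = C.e w * (d * C.e (0, 0, cv) * d⁻¹) * (C.e w)⁻¹ by group,
        act hdch, hu', mul_inv_cancel_right] at h1
      have h2 : qm γ cv = cv := congrArg (fun v : Mo => v.2.2) (C.e_inj h1)
      rw [qm_comm] at h2
      exact qm_cancel cv γ 1 hcv0 (by rw [h2, (qm_one cv).2])
    subst hγ1
    have hdr : d ∈ zpowers r := by
      have h2 := Ch.mul C hrch hrch
      rcases (by decide : ∀ a : Fin 4, a ≠ 0 → a = 1 ∨ a = 2 ∨ a = 3) α hα with rfl | rfl | rfl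
      · rw [P.T.ch_inj d hd hdch]; exact one_mem _
      · rw [P.T.D_ch_mul hd hr hdch hrch]; exact mem_zpowers r
      · rw [P.T.D_ch_mul hd (mul_mem hr hr) hdch h2]; exact mul_mem (mem_zpowers r) (mem_zpowers r)
    have hur : r * C.e w * r⁻¹ = C.e w := by
      have hdr' : d * r = r * d := P.T.comm hd hr
      have e : C.e w * r * d = r * C.e w * d := by rw [mul_assoc, ← hdr', ← mul_assoc, hgr, mul_assoc]
      rw [← mul_right_cancel e, mul_inv_cancel_right]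
    have hwZ : w.1 = 0 ∧ w.2.1 = 0 := by
      obtain ⟨β, γ', hβ, -, hrB⟩ := P.T'.ch_ex r (P.same.symm ▸ hr)
      obtain ⟨-, hab⟩ := C.ch_compat (by decide) hβ hrch hrB
      obtain ⟨w1, w2, w3⟩ := w
      obtain ⟨y, ey, y1, y2, -⟩ := hrch (w1, 0, qa w3 (qm w1 w2)) rfl
      obtain ⟨y', ey', y1', y2', -⟩ := hrB (w2, 0, 0) rfl
      have e2 : C.e (w1, w2, w3) = C.e (w1, 0, qa w3 (qm w1 w2)) * C.swap.e (w2, 0, 0) := by
        show _ = _ * C.e (tau (w2, 0, 0))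
        rw [← C.e_mul]
        exact congrArg C.e ((by decide +kernel : ∀ a b c : Fin 4,
          (a, b, c) = mm (a, 0, qa c (qm a b)) (tau (b, 0, 0))) w1 w2 w3)
      rw [e2, show ∀ a b : G, r * (a * b) * r⁻¹ = r * a * r⁻¹ * (r * b * r⁻¹) from fun a b => by group, ey, ey', ← e2,
        show C.swap.e y' = C.e (tau y') from rfl, ← C.e_mul] at hur
      have hk := C.e_inj hur
      obtain ⟨a1, a2, a3⟩ := y
      obtain ⟨b1, b2, b3⟩ := y'
      simp only at y1 y2 y1' y2'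
      subst y1 y2 y1' y2'
      exact (by decide +kernel : ∀ β w1 w2 w3 a3 b3 : Fin 4, qm 2 β = 1 →
        mm (qm 2 w1, 0, a3) (tau (qm β w2, 0, b3)) = (w1, w2, w3) → w1 = 0 ∧ w2 = 0) β w1 w2 w3 a3 b3 hab hk
    obtain ⟨c, rfl⟩ : ∃ c, w = (0, 0, c) := ⟨w.2.2, Prod.ext hwZ.1 (Prod.ext hwZ.2 rfl)⟩
    refine ⟨d, hdr, C.e (0, 0, c), ?_, ?_⟩
    · rcases (by decide : ∀ c : Fin 4, c = 0 ∨ c = 1 ∨ c = 2 ∨ c = qa 1 2) c with rfl | rfl | rfl | rfl
      · have h0 : C.e (0, 0, (0 : Fin 4)) = 1 := C.e_zero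
        simp [h0]
      · simp
      · simp
      · simp [zz]
    · obtain ⟨i, hi⟩ := hdr
      rw [← hi]
      exact ((show Commute (C.e (0, 0, c)) r from zc c).zpow_right i).eq
  have main := cent_pair (r := r) (d := h) (h := h) (z := C.e (0, 0, 1)) (w := C.e (0, 0, 2)) (x := x)
    (P.T.cube hr) hr1 (P.T.cube hh) hhh hhn (zc 1) (zc 2) hhh
    (C.e_sq.2 (Or.inl rfl)) (C.e_sq.2 (Or.inl rfl)) (hne 1 (by decide)) (hne 2 (by decide))
    (fun e => absurd (C.e_inj e) (by decide)) (by rw [zz, zz]; rfl) hcz hh3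
    (by rw [act hhch 1]; exact congrArg C.e (by decide)) (by rw [act hhch 2, zz]; exact congrArg C.e (by decide))
    (by rw [zz, act hhch (qa 1 2)]; exact congrArg C.e (by decide)) (hcen r hr) (hcen h hh)
  exact (sup_le (zpowers_le.2 hr) (zpowers_le.2 hh)) main

end TorPair

end Cfsg.Lib.LFourType.Coord
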