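import Cfsg.Agent.LFourType.Linear

/-!
A moved linear side: the normalizer induces the exchange of the coordinates and a diagonal element moving the
centre.
-/

set_option autoImplicit false
set_option linter.unusedSectionVars false

namespace Cfsg.Lib.LFourType

open Spread

/-- the exchange of the coordinates -/
def sw (v : Fin 16) : Fin 16 := ⟨v.val / 4 + 4 * (v.val % 4), by omega⟩

/-- the diagonal maps -/
def dg (α γ : Fin 4) (v : Fin 16) : Fin 16 := vp (qm α (pv v).1, 0, qm γ (pv v).2.2)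

/-- the map with given images -/
def mk2 (u w : Fin 16) (v : Fin 16) : Fin 16 := xa (smul (pv v).1 u) (smul (pv v).2.2 w)

/-- evaluation of a word -/
def evalF (x : Fin 16 → Fin 16) : List (Fin 4) → (Fin 16 → Fin 16)
  | [] => id
  | i :: l => (if i = 0 then x else tpf i) ∘ evalF x l

/-- the words reaching the exchange -/
def swWords : List (List (Fin 4)) :=
  [[0, 0, 0, 0, 1, 0, 1, 0], [0, 0, 0, 2, 0, 0, 1, 0], [0, 0, 0, 2, 0, 0, 0]]

/-- the test of one pair of images -/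
def swOk (u w : Fin 16) : Bool :=
  (pv w).1 == 0 || decide (¬ Function.Injective (mk2 u w)) ||
    swWords.any fun l => decide (∃ i j : Fin 4, ∀ v ∈ ([1, 4] : List (Fin 16)), tpf i (evalF (mk2 u w) l (tpf j v)) = sw v)

theorem sw_scan : ∀ u w : Fin 16, swOk u w = true := by decide +kernel

theorem sw_sc : ∀ v, sw (scf 0 v) = scf 0 (sw v) := by decide +kernel
theorem sw_mk2 : ∀ v, mk2 (sw 1) (sw 4) v = sw v := by decide +kernel
theorem dg_mk2 : ∀ α γ v, mk2 (dg α γ 1) (dg α γ 4) v = dg α γ v := by decide +kernel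
theorem hh_word : ∀ v, sw (tpf 2 (sw (tpf 3 (sw (tpf 2 v))))) = dg 2 3 v := by decide +kernel
theorem dg_mul : ∀ α γ α' γ' v, dg α γ (dg α' γ' v) = dg (qm α α') (qm γ γ') v := by decide +kernel
theorem borel_norm : ∀ α δ γ : Fin 4, α ≠ 0 → ∃ i : Fin 4, ∀ v,
    tpf i (mk2 (vp (α, 0, δ)) (vp (0, 0, γ)) v) = dg α γ v := by decide +kernel

namespace Coord

open Subgroup

variable {G : Type*} [Group G] [Finite G] (C : Coord G)

theorem exists_act_tpf (i : Fin 4) : ∃ n, (C.act n : Fin 16 → Fin 16) = tpf i := by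
  obtain ⟨n, hn⟩ := C.autSet.tp_mem i
  exact ⟨n, hn.symm⟩

variable (h : C.IsLin)
include h

theorem act_mk2 (n : ↥(normalizer (C.A : Set G))) : (C.act n : Fin 16 → Fin 16) = mk2 (C.act n 1) (C.act n 4) :=
  funext (C.act_lin h n)

theorem act_ext (n : ↥(normalizer (C.A : Set G))) (f : Fin 16 → Fin 16) (hf : ∀ v, mk2 (f 1) (f 4) v = f v)
    (h1 : C.act n 1 = f 1) (h4 : C.act n 4 = f 4) : (C.act n : Fin 16 → Fin 16) = f := by
  rw [C.act_mk2 h n, h1, h4]
  exact funext hf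

variable (hM : C.Moved)
include hM

theorem exists_act_sw : ∃ n, (C.act n : Fin 16 → Fin 16) = sw := by
  obtain ⟨n, hn, z, hz, hout⟩ := hM
  set m : ↥(normalizer (C.A : Set G)) := ⟨n, hn⟩
  obtain ⟨v, rfl⟩ := C.exists_eA (C.Z_le_A hz)
  have hv : (pv v).1 = 0 := (C.mem_Z.1 hz).1
  have hne : (pv (C.act m 4)).1 ≠ 0 := fun h4 => hout (by
    have e := C.act_spec m v
    rw [← e, eA, C.mem_Z, C.act_lin h m v, hv]
    refine ⟨?_, pv_side _⟩
    exact (by decide +kernel : ∀ (q : Fin 4) (u w : Fin 16), (pv w).1 = 0 → (pv (xa (smul 0 u) (smul q w))).1 = 0)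
      _ _ _ h4)
  have hs := sw_scan (C.act m 1) (C.act m 4)
  rw [swOk, Bool.or_eq_true, Bool.or_eq_true] at hs
  rcases hs with (hs | hs) | hs
  · exact absurd (by simpa using hs) hne
  · rw [decide_eq_true_iff, ← C.act_mk2 h m] at hs
    exact absurd (C.act m).injective hs
  simp only [List.any_eq_true, decide_eq_true_iff] at hs
  obtain ⟨l, -, i, j, hl⟩ := hs
  have key : ∀ l, ∃ k, (C.act k : Fin 16 → Fin 16) = evalF (mk2 (C.act m 1) (C.act m 4)) l := by
    intro l
    induction l with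
    | nil => exact ⟨1, by rw [map_one]; rfl⟩
    | cons a l ih =>
      obtain ⟨k, hk⟩ := ih
      by_cases ha : a = 0
      · exact ⟨m * k, by rw [map_mul, evalF, if_pos ha, ← hk, ← C.act_mk2 h m]; rfl⟩
      · obtain ⟨p, hp⟩ := C.exists_act_tpf a
        exact ⟨p * k, by rw [map_mul, evalF, if_neg ha, ← hk, ← hp]; rfl⟩
  obtain ⟨k, hk⟩ := key l
  obtain ⟨p, hp⟩ := C.exists_act_tpf i
  obtain ⟨q, hq⟩ := C.exists_act_tpf j
  have hr : ∀ v, C.act (p * k * q) v = tpf i (evalF (mk2 (C.act m 1) (C.act m 4)) l (tpf j v)) := fun v => by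
    rw [map_mul, map_mul, Equiv.Perm.mul_apply, Equiv.Perm.mul_apply, hp, hk, hq]
  exact ⟨p * k * q, C.act_ext h _ _ sw_mk2 ((hr 1).trans (hl 1 (by simp))) ((hr 4).trans (hl 4 (by simp)))⟩

theorem exists_act_hh : ∃ n, (C.act n : Fin 16 → Fin 16) = dg 2 3 := by
  obtain ⟨s, hs⟩ := C.exists_act_sw h hM
  obtain ⟨p, hp⟩ := C.exists_act_tpf 2
  obtain ⟨q, hq⟩ := C.exists_act_tpf 3
  refine ⟨s * p * s * q * s * p, funext fun v => ?_⟩
  simp only [map_mul, Equiv.Perm.mul_apply, hp, hs, hq]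
  exact hh_word v

end Coord

end Cfsg.Lib.LFourType
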