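import Cfsg.Agent.LFourType.CaseTwoMoved
import Cfsg.Agent.LFourType.Levi
import Cfsg.Agent.Components.BGN.PSL
import Cfsg.Agent.S0222
import Cfsg.Agent.S1137
import Cfsg.Agent.S1141

/-!
Both sides moved: one class of involutions, and in a simple group no proper subgroup contains the normalizers of
both sides and the centralizers of the central involutions; hence the cores are trivial.
-/

set_option autoImplicit false
set_option linter.unusedSectionVars false
set_option linter.style.haveILetI false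

namespace Cfsg.Lib.LFourType.Coord

open Subgroup
open Cfsg.Lib.Walter (Oc)

universe u

variable {G : Type u} [Group G] [Finite G] (C : Coord G)

theorem moved_of_eq {D : Coord G} (hA : D.A = C.A) (hB : D.B = C.B) (hM : C.Moved) : D.Moved := by
  unfold Moved Z at hM ⊢
  rwa [hA, hB]

theorem exists_lin_moved (hM : C.Moved) (hM' : C.swap.Moved) :
    ∃ D : Coord G, D.S = C.S ∧ D.IsLin ∧ D.swap.IsLin ∧ D.Moved ∧ D.swap.Moved ∧ D.A = C.A ∧ D.B = C.B := by
  obtain ⟨D, hA, hB, hS, h1, h2⟩ := C.exists_lin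
  exact ⟨D, hS, h1, h2, C.moved_of_eq hA hB hM,
    C.swap.moved_of_eq (by rw [swap_A, swap_A, hB]) (by rw [swap_B, swap_B, hA]) hM', hA, hB⟩

theorem Z_trans (hl : C.IsLin) (hM : C.Moved) {z z' : G} (hz : z ∈ C.Z) (hz1 : z ≠ 1) (hz' : z' ∈ C.Z)
    (hz'1 : z' ≠ 1) : ∃ n ∈ normalizer (C.A : Set G), n * z * n⁻¹ = z' := by
  obtain ⟨k, hk⟩ := C.exists_act_hh hl hM
  obtain ⟨v, rfl⟩ := C.exists_eA (C.Z_le_A hz)
  obtain ⟨v', rfl⟩ := C.exists_eA (C.Z_le_A hz')
  have hv := (C.mem_Z.1 hz).1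
  have hv' := (C.mem_Z.1 hz').1
  have key : ∀ v v' : Fin 16, (pv v).1 = 0 → (pv v').1 = 0 → v ≠ 0 → v' ≠ 0 →
      v' = v ∨ v' = dg 2 3 v ∨ v' = dg 2 3 (dg 2 3 v) := by decide +kernel
  have hne : ∀ u, C.eA u ≠ 1 → u ≠ 0 := fun u hu e => hu (by rw [e, C.eA_zero])
  rcases key v v' hv hv' (hne v hz1) (hne v' hz'1) with rfl | rfl | rfl
  · exact ⟨1, one_mem _, by group⟩
  · exact ⟨k, k.2, by rw [← C.act_spec, hk]⟩
  · exact ⟨(k * k : ↥(normalizer (C.A : Set G))), (k * k).2, by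
      rw [← C.act_spec, map_mul, Equiv.Perm.mul_apply, hk]⟩

variable (hl : C.IsLin) (hM : C.Moved) (hM' : C.swap.Moved)
include hl hM hM'

/-- an involution of a subgroup containing the normalizers of the sides goes to the centre inside it -/
theorem exists_into_Z {H : Subgroup G} (hA : normalizer (C.A : Set G) ≤ H) (hB : normalizer (C.B : Set G) ≤ H)
    {x z : G} (hz : z ∈ C.Z) (hz1 : z ≠ 1) (hx : x ∈ H) (h2 : x * x = 1) (h1 : x ≠ 1) :
    ∃ h ∈ H, h * x * h⁻¹ = z := by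
  obtain ⟨m, hm, hs⟩ := C.exists_conj_into_S (C.S_le_normalizer_A.trans hA) hx h2
  set s := m * x * m⁻¹ with hsd
  have hs2 : s * s = 1 := by rw [hsd, conj_mul, h2, mul_one, mul_inv_cancel]
  have hs1 : s ≠ 1 := fun e => h1 (conj_eq_one_iff.1 e)
  obtain ⟨n, hn, hnz⟩ : ∃ n ∈ H, n * s * n⁻¹ ∈ C.Z := by
    rcases C.mem_A_or_B hs hs2 with hA' | hB'
    · obtain ⟨n, hn, hnz⟩ := C.fused_of_moved hM hA'
      exact ⟨n, hA hn, hnz⟩
    · obtain ⟨n, hn, hnz⟩ := C.swap.fused_of_moved hM' (by rw [C.swap_A]; exact hB')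
      rw [C.swap_A] at hn
      rw [C.swap_Z] at hnz
      exact ⟨n, hB hn, hnz⟩
  obtain ⟨k, hk, e⟩ := C.Z_trans hl hM hnz (fun e => hs1 (conj_eq_one_iff.1 e)) hz hz1
  exact ⟨k * n * m, mul_mem (mul_mem (hA hk) hn) hm, by rw [← e, hsd]; group⟩

/-- one class of involutions -/
theorem one_class {x z : G} (hz : z ∈ C.Z) (hz1 : z ≠ 1) (h2 : x * x = 1) (h1 : x ≠ 1) :
    ∃ g, g * x * g⁻¹ = z := by
  obtain ⟨h, -, e⟩ := C.exists_into_Z hl hM hM' (H := ⊤) le_top le_top hz hz1 (mem_top x) h2 h1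
  exact ⟨h, e⟩

theorem three_dvd : 3 ∣ Nat.card G := by
  obtain ⟨k, hk⟩ := C.exists_act_hh hl hM
  have h3 : orderOf (C.act k) = 3 := by
    haveI : Fact (Nat.Prime 3) := ⟨Nat.prime_three⟩
    refine orderOf_eq_prime (Equiv.ext fun v => ?_) (fun e => ?_)
    · rw [pow_succ, pow_two, Equiv.Perm.mul_apply, Equiv.Perm.mul_apply, hk]
      exact (by decide +kernel : ∀ v, dg 2 3 (dg 2 3 (dg 2 3 v)) = v) v
    · have := congrFun hk 1
      rw [e] at this
      exact absurd this (by decide +kernel)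
  have := (orderOf_map_dvd C.act k).trans (orderOf_dvd_natCard k)
  rw [h3] at this
  exact this.trans (card_subgroup_dvd_card _)

/-- in a simple group no proper subgroup contains the normalizers of the sides and the central centralizers -/
theorem eq_top_of_simple [IsSimpleGroup G] {H : Subgroup G} (hA : normalizer (C.A : Set G) ≤ H)
    (hB : normalizer (C.B : Set G) ≤ H) (hC : ∀ z ∈ C.Z, z ≠ 1 → centralizer ({z} : Set G) ≤ H) : H = ⊤ := by
  classical
  haveI : Fact (Nat.Prime 2) := ⟨Nat.prime_two⟩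
  by_contra hne
  obtain ⟨z, hz, hz1⟩ := C.exists_Z_ne_one
  have hzH : z ∈ H := hA (C.S_le_normalizer_A (C.Z_le hz))
  have heven : Even (Nat.card H) := by
    rw [even_iff_two_dvd, ← orderOf_involution (C.A_sq (C.Z_le_A hz)) hz1, ← orderOf_mk z hzH]
    exact orderOf_dvd_natCard _
  have hse : Cfsg.IsStronglyEmbedded H := by
    refine ⟨hne, heven, fun g hg => ?_⟩
    rw [← Nat.not_even_iff_odd, even_iff_two_dvd]
    intro hd
    obtain ⟨⟨x, hxi⟩, hx⟩ := exists_prime_orderOf_dvd_card' 2 hd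
    obtain ⟨hxH, hxg⟩ := mem_inf.1 hxi
    rw [← orderOf_coe] at hx
    change orderOf x = 2 at hx
    have hx2 : x * x = 1 := by rw [← pow_two, ← hx, pow_orderOf_eq_one]
    have hx1 : x ≠ 1 := fun e => by rw [e, orderOf_one] at hx; omega
    obtain ⟨y, hy, rfl⟩ := hxg
    have hy2 : y * y = 1 := by
      apply (MulAut.conj g).injective
      rw [map_mul, map_one]
      exact hx2
    have hy1 : y ≠ 1 := fun e => hx1 (by rw [e, map_one])
    obtain ⟨h, hh, e⟩ := C.exists_into_Z hl hM hM' hA hB hz hz1 hxH hx2 hx1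
    obtain ⟨k, hk, e'⟩ := C.exists_into_Z hl hM hM' hA hB hz hz1 hy hy2 hy1
    refine hg ?_
    have hc : h * g * k⁻¹ ∈ centralizer ({z} : Set G) := mem_centralizer_singleton_iff.2 (by
      have e2 : h * (g * y * g⁻¹) * h⁻¹ = z := e
      calc h * g * k⁻¹ * z = h * (g * y * g⁻¹) * h⁻¹ * (h * g * k⁻¹) := by rw [← e']; group
        _ = z * (h * g * k⁻¹) := by rw [e2])
    have := mul_mem (mul_mem (inv_mem hh) (hC z hz hz1 hc)) hk
    rwa [show h⁻¹ * (h * g * k⁻¹) * k = g by group] at this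
  obtain ⟨a, ha, haZ⟩ := C.exists_not_mem_Z_A
  obtain ⟨b, hb, hbZ⟩ := C.swap.exists_not_mem_Z_A
  rw [C.swap_A] at hb
  rw [C.swap_Z] at hbZ
  have hab : a * b ≠ b * a := fun e => hbZ ⟨C.mem_A_of_commute ha haZ (C.B_le hb) e, hb⟩
  have hexp : ¬ ∀ s ∈ (C.S : Subgroup G), s * s = 1 := fun h => hab (by
    have h1 : a * b * (a * b) = 1 := h _ (mul_mem (C.A_le ha) (C.B_le hb))
    calc a * b = (a * b)⁻¹ := (inv_eq_of_mul_eq_one_right h1).symm
      _ = b * a := by rw [mul_inv_rev, inv_eq_of_mul_eq_one_right (C.B_sq hb), inv_eq_of_mul_eq_one_right (C.A_sq ha)])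
  have ha1 : a ≠ 1 := fun e => haZ (e ▸ one_mem _)
  rcases Cfsg.Agent.S0222.result ⟨a, b, hab⟩ H hse with
    ⟨F, i1, i2, hc, h4, ⟨e⟩⟩ | hsz | ⟨F, i1, i2, q, hq, hqe, hq4, ⟨e⟩⟩
  · obtain ⟨n, hn, hF⟩ := FiniteField.card F 2
    let R : Sylow 2 (Matrix.ProjectiveSpecialLinearGroup (Fin 2) F) := C.S.mapSurjective (f := e.toMonoidHom) e.surjective
    refine hexp fun s hs => e.injective ?_
    rw [map_mul, map_one]
    exact Cfsg.Lib.BGN.psl_sylow_sq n.pos hF R ⟨s, hs, rfl⟩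
  · obtain ⟨-, m, -, hm⟩ := hsz
    have h3 := C.three_dvd hl hM hM'
    rw [hm, Nat.dvd_iff_mod_eq_zero] at h3
    have hQ : 2 ^ (2 * m + 1) % 3 = 2 := by
      rw [pow_succ, pow_mul, Nat.mul_mod, Nat.pow_mod]
      norm_num
    have h1 : 1 ≤ 2 ^ (2 * m + 1) := Nat.one_le_two_pow
    generalize 2 ^ (2 * m + 1) = Q at hQ h1 h3
    have h2 : (Q - 1) % 3 = 1 := by omega
    rw [Nat.mul_mod, Nat.mul_mod (Q ^ 2), Nat.add_mod, Nat.pow_mod, hQ, h2] at h3
    exact absurd h3 (by decide)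
  · obtain ⟨p, n, hp, -, hpn⟩ : ∃ p n : ℕ, p.Prime ∧ 0 < n ∧ Fintype.card F = p ^ n := by
      obtain ⟨p, _⟩ := CharP.exists F
      obtain ⟨n, hp, hn⟩ := FiniteField.card F p
      exact ⟨p, n, hp, n.pos, hn⟩
    have hq2 : 2 ∣ p ^ n := by rw [← hpn, hq]; exact dvd_pow (even_iff_two_dvd.1 hqe) two_ne_zero
    obtain rfl : 2 = p := (Nat.prime_dvd_prime_iff_eq Nat.prime_two hp).1 (Nat.prime_two.dvd_of_dvd_pow hq2)
    obtain ⟨j, -, rfl⟩ : ∃ j, j ≤ n ∧ q = 2 ^ j := (Nat.dvd_prime_pow Nat.prime_two).1 (by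
      rw [← hpn, hq]; exact dvd_pow_self q two_ne_zero)
    have hj : 2 ≤ j := by
      by_contra hlt
      have : j = 0 ∨ j = 1 := by omega
      rcases this with rfl | rfl <;> norm_num at hq4
    let R : Sylow 2 (Cfsg.PSU 3 F (2 ^ j)) := C.S.mapSurjective (f := e.toMonoidHom) e.surjective
    obtain ⟨-, -, hR⟩ := Cfsg.Agent.S1141.result hj hq R
    have hR' := Cfsg.Agent.S1137.result hR
    have hea : e a ∈ (R : Subgroup (Cfsg.PSU 3 F (2 ^ j))) := ⟨a, C.A_le ha, rfl⟩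
    have hz' := ((hR'.1 ⟨e a, hea⟩).1 ⟨fun h => ha1 (e.injective ((congrArg Subtype.val h).trans (map_one e).symm)),
      Subtype.ext (by
        show e a * e a = 1
        rw [← map_mul, C.A_sq ha, map_one])⟩).1
    refine hab (e.injective ?_)
    rw [map_mul, map_mul]
    exact (congrArg Subtype.val (mem_center_iff.1 hz' ⟨e b, ⟨b, C.B_le hb, rfl⟩⟩)).symm

theorem W_eq_swap : C.W = C.swap.W := by
  have key : ∀ D : Coord G, D.Moved → D.swap.Moved → D.W ≤ D.swap.W := by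
    intro D h1 h2
    obtain ⟨ho, hc⟩ := D.core_closure h1
    refine le_of_four' (E := D.Z) (by rw [D.card_Z]) (fun p hp q hq => D.A_comm (D.Z_le_A hp) (D.Z_le_A hq))
      (fun p hp => D.A_sq (D.Z_le_A hp)) ho (fun p hp => D.W_normalized (le_normalizer (D.Z_le_A hp)))
      fun z hz hz1 => ?_
    rw [hc z (D.Z_le_A hz) hz1]
    exact D.swap.Oc_le_W (D.swap.Z_le_A (D.swap_Z.symm ▸ hz)) hz1
  refine le_antisymm (key C hM hM') ?_
  have := key C.swap hM' (by rw [C.swap_swap]; exact hM)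
  rwa [C.swap_swap] at this

/-- the cores are trivial -/
theorem Oc_eq_bot [IsSimpleGroup G] (hO : Cfsg.oddCore G = ⊥) {a : G} (ha : a ∈ C.A) (ha1 : a ≠ 1) :
    Oc a = ⊥ := by
  obtain ⟨ho, hc⟩ := C.core_closure hM
  have hA : normalizer (C.A : Set G) ≤ normalizer (C.W : Set G) := fun n hn => C.W_normalized hn
  have hB : normalizer (C.B : Set G) ≤ normalizer (C.W : Set G) := fun n hn => by
    rw [C.W_eq_swap hl hM hM']
    exact C.swap.W_normalized (by rw [C.swap_A]; exact hn)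
  have htop : normalizer (C.W : Set G) = ⊤ := C.eq_top_of_simple hl hM hM' hA hB fun z hz hz1 =>
    C.cent_Z_le hz hz1 ((C.Oc_le_W (C.Z_le_A hz) hz1).trans le_normalizer) (C.normalizer_S_le.trans hA)
  haveI : C.W.Normal := normalizer_eq_top_iff.1 htop
  exact le_bot_iff.1 ((C.Oc_le_W ha ha1).trans (hO ▸ Cfsg.Lib.AltEightType.le_oddCore ho))

end Cfsg.Lib.LFourType.Coord
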