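import Cfsg.Agent.LFourType.CaseOneBasic
import Cfsg.Agent.Classical.PSLTwoDihedral
import Cfsg.Agent.Classical.Misc.SmallPSL
import Cfsg.Agent.S0348

/-!
A simple group with both sides moved and linear coordinates: the centralizers of the involutions are 2-groups and
the group is `PSL(3, 4)`, or some element fixing the centre induces a non-trivial scalar on a side modulo it.
-/

set_option autoImplicit false
set_option linter.unusedSectionVars false
set_option linter.style.haveILetI false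

namespace Cfsg.Lib.LFourType.Coord

open Subgroup
open Cfsg.Lib.Walter (Oc)

universe u

variable {G : Type u} [Group G] [Finite G] [IsSimpleGroup G] (C : Coord G)
  (hl : C.IsLin) (hM : C.Moved) (hM' : C.swap.Moved) (hO : Cfsg.oddCore G = ⊥)
include hl hM hM' hO

theorem FA_eq_bot : C.FA = ⊥ := by
  obtain ⟨z, hz, hz1⟩ := C.exists_Z_ne_one
  exact le_bot_iff.1 ((C.FA_le_Oc hz hz1).trans (C.Oc_eq_bot hl hM hM' hO (C.Z_le_A hz) hz1).le)

theorem cent_le_A : centralizer (C.A : Set G) ≤ C.A := fun x hx => by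
  obtain ⟨a, ha, f, hf, rfl⟩ := C.cent_decomp hx
  rw [C.FA_eq_bot hl hM hM' hO, mem_bot] at hf
  rwa [hf, mul_one]

theorem cent_Z_le_normalizer {z : G} (hz : z ∈ C.Z) (hz1 : z ≠ 1) :
    centralizer ({z} : Set G) ≤ normalizer ((C.S : Subgroup G) : Set G) := fun g hg => by
  obtain ⟨o, ho, m, hm, -, rfl⟩ := C.cent_Z hz hz1 hg
  rw [C.Oc_eq_bot hl hM hM' hO (C.Z_le_A hz) hz1, mem_bot] at ho
  rwa [ho, one_mul]

theorem act_injective {n m : ↥(normalizer (C.A : Set G))} (h : C.act n = C.act m) :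
    (m : G)⁻¹ * n ∈ C.A := by
  refine C.cent_le_A hl hM hM' hO (mem_centralizer_iff.2 fun a ha => ?_)
  obtain ⟨v, rfl⟩ := C.exists_eA ha
  have h1 := C.act_spec n v
  rw [h, C.act_spec m v] at h1
  calc C.eA v * ((m : G)⁻¹ * n) = (m : G)⁻¹ * ((m : G) * C.eA v * (m : G)⁻¹) * n := by group
    _ = (m : G)⁻¹ * ((n : G) * C.eA v * (n : G)⁻¹) * n := by rw [h1]
    _ = (m : G)⁻¹ * n * C.eA v := by group

omit [IsSimpleGroup G] hl hM hM' hO in
theorem eA_one_not_Z : C.eA 4 ∈ C.Z ∧ C.eA 4 ≠ 1 :=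
  ⟨C.mem_Z.2 ⟨by decide, rfl⟩, fun e => absurd (C.eA_inj (e.trans C.eA_zero.symm)) (by decide)⟩

omit [IsSimpleGroup G] hM hM' hO in
/-- the normalizer elements preserving the centre are triangular -/
theorem act_borel (n : ↥(normalizer (C.A : Set G))) (h : (n : G) * C.eA 4 * (n : G)⁻¹ ∈ C.Z) :
    ∃ α δ γ : Fin 4, α ≠ 0 ∧ γ ≠ 0 ∧ C.act n 1 = vp (α, 0, δ) ∧ C.act n 4 = vp (0, 0, γ) := by
  rw [← C.act_spec, eA, C.mem_Z] at h
  have key : ∀ u w : Fin 16, (pv w).1 = 0 → Function.Injective (mk2 u w) →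
      (pv u).1 ≠ 0 ∧ (pv w).2.2 ≠ 0 := by decide +kernel
  have hinj : Function.Injective (mk2 (C.act n 1) (C.act n 4)) := by
    rw [← C.act_mk2 hl n]; exact (C.act n).injective
  obtain ⟨h1, h2⟩ := key _ _ h.1 hinj
  refine ⟨_, (pv (C.act n 1)).2.2, _, h1, h2, ?_, ?_⟩
  · exact (vp_pv _).symm
  · conv_lhs => rw [← vp_pv (C.act n 4)]
    exact congrArg vp (Prod.ext h.1 rfl)

/-- no element moving a side modulo the centre fixes a central involution: all centralizers are 2-groups -/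
theorem cit_of_no_rho (h : ∀ n, (C.act n : Fin 16 → Fin 16) ≠ dg 2 1) :
    ∀ t : G, orderOf t = 2 → IsPGroup 2 (centralizer ({t} : Set G)) := by
  obtain ⟨hz, hz1⟩ := C.eA_one_not_Z
  have hno : ∀ α : Fin 4, α ≠ 0 → α ≠ 1 → ∀ n, (C.act n : Fin 16 → Fin 16) ≠ dg α 1 := by
    intro α h0 h1 n hn
    rcases (by decide : ∀ α : Fin 4, α ≠ 0 → α ≠ 1 → α = 2 ∨ α = 3) α h0 h1 with rfl | rfl
    · exact h n hn
    · refine h (n * n) (funext fun v => ?_)
      rw [map_mul, Equiv.Perm.mul_apply, hn, dg_mul]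
      exact congrArg (fun x => dg x.1 x.2 v) (by decide : (qm 3 3, qm 1 1) = ((2 : Fin 4), (1 : Fin 4)))
  have hS : centralizer ({C.eA 4} : Set G) ≤ (C.S : Subgroup G) := by
    intro g hg
    set n : ↥(normalizer (C.A : Set G)) := ⟨g, C.normalizer_S_le (C.cent_Z_le_normalizer hl hM hM' hO hz hz1 hg)⟩
    have hfix : (n : G) * C.eA 4 * (n : G)⁻¹ = C.eA 4 := by
      rw [show (n : G) * C.eA 4 = C.eA 4 * n from mem_centralizer_singleton_iff.1 hg, mul_inv_cancel_right]
    obtain ⟨α, δ, γ, hα, hγ, e1, e4⟩ := C.act_borel hl n (hfix.symm ▸ hz)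
    have hγ1 : γ = 1 := by
      rw [← C.act_spec] at hfix
      have := C.eA_inj hfix
      rw [e4] at this
      exact (by decide : ∀ γ : Fin 4, vp (0, 0, γ) = 4 → γ = 1) γ this
    subst hγ1
    obtain ⟨i, hi⟩ := borel_norm α δ 1 hα
    obtain ⟨p, hp⟩ := C.exists_act_tpf i
    have hpn : (C.act (p * n) : Fin 16 → Fin 16) = dg α 1 := funext fun v => by
      rw [map_mul, Equiv.Perm.mul_apply, hp, C.act_mk2 hl n, e1, e4]
      exact hi v
    have hα1 : α = 1 := by
      by_contra hne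
      exact hno α hα hne _ hpn
    subst hα1
    let s : ↥(normalizer (C.A : Set G)) := ⟨C.e (0, i, 0), C.S_le_normalizer_A (C.e_mem _)⟩
    have hs : C.act (s * n) = C.act 1 := Equiv.ext fun v => by
      rw [map_mul, map_one, Equiv.Perm.mul_apply, C.act_S, C.act_mk2 hl n, e1, e4, hi]
      exact (by decide +kernel : ∀ v, dg 1 1 v = v) v
    have hm := C.act_injective hl hM hM' hO hs
    have hm' : C.e (0, i, 0) * g ∈ C.A := by
      simpa [s, n] using hm
    have := mul_mem (inv_mem (C.e_mem (0, i, 0))) (C.A_le hm')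
    rwa [inv_mul_cancel_left] at this
  intro t ht
  obtain ⟨g, hg⟩ := C.one_class hl hM hM' hz hz1 (show t * t = 1 by rw [← pow_two, ← ht, pow_orderOf_eq_one])
    (fun e => by rw [e, orderOf_one] at ht; omega)
  refine IsPGroup.to_le ((C.S.2).map (MulAut.conj g⁻¹).toMonoidHom) fun c hc => ?_
  refine ⟨g * c * g⁻¹, hS (mem_centralizer_singleton_iff.2 ?_), by
    show g⁻¹ * (g * c * g⁻¹) * g⁻¹⁻¹ = c
    group⟩
  rw [← hg]
  exact (commute_conj (g := g) (show Commute c t from mem_centralizer_singleton_iff.1 hc)).eq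

theorem psl_or_rho :
    (∃ (K : Type) (_ : Field K) (_ : Fintype K), Fintype.card K = 4 ∧
      Nonempty (G ≃* Matrix.ProjectiveSpecialLinearGroup (Fin 3) K)) ∨
    ∃ n, (C.act n : Fin 16 → Fin 16) = dg 2 1 := by
  classical
  haveI : Fact (Nat.Prime 2) := ⟨Nat.prime_two⟩
  by_cases h : ∃ n, (C.act n : Fin 16 → Fin 16) = dg 2 1
  · exact Or.inr h
  push Not at h
  left
  obtain ⟨a, ha, haZ⟩ := C.exists_not_mem_Z_A
  obtain ⟨b, hb, hbZ⟩ := C.swap.exists_not_mem_Z_A
  rw [C.swap_A] at hb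
  rw [C.swap_Z] at hbZ
  have hab : a * b ≠ b * a := fun e => hbZ ⟨C.mem_A_of_commute ha haZ (C.B_le hb) e, hb⟩
  rcases Cfsg.Agent.S0348.result ⟨a, b, hab⟩ (C.cit_of_no_rho hl hM hM' hO h) with
    ⟨F, i1, i2, -, ⟨e⟩⟩ | hl3 | hsz
  · exfalso
    let R : Sylow 2 (Matrix.ProjectiveSpecialLinearGroup (Fin 2) F) :=
      C.S.mapSurjective (f := e.toMonoidHom) e.surjective
    obtain ⟨p, hpc⟩ := CharP.exists F
    obtain ⟨n, hp, hn⟩ := FiniteField.card F p
    rcases hp.eq_two_or_odd' with rfl | hodd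
    · refine hab (e.injective ?_)
      rw [map_mul, map_mul]
      have hsq := fun {s : G} (hs : s ∈ (C.S : Subgroup G)) =>
        Cfsg.Lib.BGN.psl_sylow_sq n.pos hn R (a := e s) ⟨s, hs, rfl⟩
      have h1 := hsq (mul_mem (C.A_le ha) (C.B_le hb))
      have i1 := inv_eq_of_mul_eq_one_right (hsq (C.A_le ha))
      have i2 := inv_eq_of_mul_eq_one_right (hsq (C.B_le hb))
      rw [map_mul] at h1
      have i3 := inv_eq_of_mul_eq_one_right h1
      rw [mul_inv_rev, i1, i2] at i3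
      exact i3.symm
    have hq : Fintype.card F % 2 = 1 := by rw [hn]; exact Nat.odd_iff.1 hodd.pow
    have h64 : 64 ∣ Nat.card (Matrix.ProjectiveSpecialLinearGroup (Fin 2) F) := by
      rw [← Nat.card_congr e.toEquiv, ← C.card_S]
      exact card_subgroup_dvd_card _
    have hg2 : Nat.gcd 2 (Fintype.card F - 1) = 2 :=
      Nat.gcd_eq_left (by have := Fintype.one_lt_card (α := F); omega)
    have hc := Cfsg.Lib.Classical.SmallPSL.card_psl (F := F) rfl
    rw [hg2] at hc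
    have h128 : 128 ∣ Fintype.card F * (Fintype.card F ^ 2 - 1) := hc ▸ (Nat.mul_dvd_mul_left 2 h64)
    have h16 : 16 ∣ Fintype.card F ^ 2 - 1 := by
      refine dvd_trans (by norm_num) (Nat.Coprime.dvd_of_dvd_mul_left ?_ h128)
      rw [show (128 : ℕ) = 2 ^ 7 by norm_num]
      exact ((Nat.coprime_two_left).2 (Nat.odd_iff.2 hq)).pow_left 7
    obtain ⟨c, t, k, hgen⟩ := Cfsg.Lib.PSLTwoDihedral.exists_isGen hq h16 R
    have hcR : c ∈ (R : Subgroup (Matrix.ProjectiveSpecialLinearGroup (Fin 2) F)) :=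
      hgen.mem_iff.2 (Or.inl (mem_zpowers c))
    obtain ⟨s, hs, hsc⟩ := hcR
    have hc4 : c ^ 4 = 1 := by
      have h1 : s * s * (s * s) = 1 := C.A_sq (C.Z_le_A (C.sq_mem_Z hs))
      rw [← hsc, ← map_pow, show s ^ 4 = s * s * (s * s) by simp [pow_succ, mul_assoc], h1, map_one]
    have hle : Nat.card (R : Subgroup (Matrix.ProjectiveSpecialLinearGroup (Fin 2) F)) ≤ 2 * orderOf c := by
      let f : Fin 2 × zpowers c → (R : Subgroup (Matrix.ProjectiveSpecialLinearGroup (Fin 2) F)) := fun x =>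
        if x.1 = 0 then ⟨x.2, hgen.mem_iff.2 (Or.inl x.2.2)⟩
        else ⟨x.2 * t, hgen.mem_iff.2 (Or.inr (by obtain ⟨i, hi⟩ := x.2.2; exact ⟨i, by rw [← hi]⟩))⟩
      have hf : Function.Surjective f := fun r => by
        rcases hgen.mem_iff.1 r.2 with hr | ⟨i, hr⟩
        · exact ⟨(0, ⟨r, hr⟩), Subtype.ext rfl⟩
        · exact ⟨(1, ⟨c ^ i, i, rfl⟩), Subtype.ext hr.symm⟩
      refine (Nat.card_le_card_of_surjective f hf).trans ?_
      rw [Nat.card_prod, Nat.card_fin, Nat.card_zpowers]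
    have h4 : orderOf c ≤ 4 := Nat.le_of_dvd (by norm_num) (orderOf_dvd_of_pow_eq_one hc4)
    have hR : Nat.card (R : Subgroup (Matrix.ProjectiveSpecialLinearGroup (Fin 2) F)) = 64 := by
      rw [← C.card_S]
      exact (card_map_of_injective e.injective)
    omega
  · exact hl3
  · exfalso
    obtain ⟨-, m, -, hm⟩ := hsz
    have h3 := C.three_dvd hl hM hM'
    rw [hm, Nat.dvd_iff_mod_eq_zero] at h3
    have hQ : 2 ^ (2 * m + 1) % 3 = 2 := by
      rw [pow_succ, pow_mul, Nat.mul_mod, Nat.pow_mod]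
      norm_num
    have h1 : 1 ≤ 2 ^ (2 * m + 1) := Nat.one_le_two_pow
    generalize 2 ^ (2 * m + 1) = Q at hQ h1 h3
    have h2 : (Q - 1) % 3 = 1 := by omega
    rw [Nat.mul_mod, Nat.mul_mod (Q ^ 2), Nat.add_mod, Nat.pow_mod, hQ, h2] at h3
    exact absurd h3 (by decide)

end Cfsg.Lib.LFourType.Coord
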