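import Cfsg.Agent.LFourType.CaseOneBN
import Cfsg.Agent.AutThreeFour.Incidence
import Cfsg.Agent.CITGroups.Plane

/-!
A simple group with both sides moved is the projective special linear group of dimension three over four elements:
otherwise the two tori give a group of order 60480 acting on the plane of order four.
-/

set_option autoImplicit false
set_option linter.unusedSectionVars false
set_option linter.style.haveILetI false

namespace Cfsg.Lib.LFourType.Coord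

open Subgroup
open Cfsg.Lib.AutThreeFour (cj PairData)

universe u

variable {G : Type u} [Group G] [Finite G] {C : Coord G}

theorem Tor.mem_S_of_sq (T : C.Tor) {n : G} (hn : n ∈ normalizer ((C.S : Subgroup G) : Set G))
    (h : n * n ∈ (C.S : Subgroup G)) : n ∈ (C.S : Subgroup G) := by
  obtain ⟨x, hx, d, hd, rfl⟩ := T.decomp n hn
  have h1 : d * x * d⁻¹ ∈ (C.S : Subgroup G) := (mem_normalizer_iff.1 (T.le_norm hd) x).1 hx
  have h2 : d * d ∈ (C.S : Subgroup G) := by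
    have := mul_mem (inv_mem (mul_mem hx h1)) h
    rwa [show (x * (d * x * d⁻¹))⁻¹ * (x * d * (x * d)) = d * d by group] at this
  have h3 := T.eq_one_of_S (mul_mem hd hd) h2
  have h4 := T.cube hd
  rw [h3, mul_one] at h4
  rw [h4, mul_one]
  exact hx

/-- two tori can be given the same complement -/
theorem Tor.exists_pair (T : C.Tor) (T₀ : C.swap.Tor) : Nonempty C.TorPair := by
  classical
  haveI : Fact (Nat.Prime 3) := ⟨Nat.prime_three⟩
  set N := normalizer ((C.S : Subgroup G) : Set G)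
  have hN : Nat.card ↥N = 576 := T.card_norm
  have h9 : ∀ D : Subgroup G, D ≤ N → Nat.card D = 9 → ∃ P : Sylow 3 ↥N, (P : Subgroup ↥N) = D.subgroupOf N := by
    intro D hD hc
    refine ⟨Sylow.ofCard (D.subgroupOf N) ?_, rfl⟩
    rw [Nat.card_congr (subgroupOfEquivOfLe hD).toEquiv, hc, hN]
    have : (576 : ℕ).factorization 3 = 2 := by
      rw [show (576 : ℕ) = 2 ^ 6 * 3 ^ 2 by norm_num, Nat.factorization_mul (by norm_num) (by norm_num),
        Nat.Prime.factorization_pow Nat.prime_two, Nat.Prime.factorization_pow Nat.prime_three]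
      simp
    rw [this]
    norm_num
  obtain ⟨P, hP⟩ := h9 T.D T.le_norm T.card_D
  obtain ⟨Q, hQ⟩ := h9 T₀.D T₀.le_norm T₀.card_D
  obtain ⟨g, hg⟩ := MulAction.exists_smul_eq ↥N Q P
  obtain ⟨x, hx, d, hd, hxd⟩ := T₀.decomp (g : G) g.2
  have hle : conjS x T₀.D ≤ T.D := by
    rintro _ ⟨d₀, hd₀, rfl⟩
    have h1 : d⁻¹ * d₀ * d ∈ T₀.D := mul_mem (mul_mem (inv_mem hd) hd₀) hd
    have hm : (⟨d⁻¹ * d₀ * d, T₀.le_norm h1⟩ : ↥N) ∈ (Q : Subgroup ↥N) := by rw [hQ]; exact h1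
    have hm' : MulAut.conj g ⟨d⁻¹ * d₀ * d, T₀.le_norm h1⟩ ∈ (P : Subgroup ↥N) := by
      rw [← hg, Sylow.coe_subgroup_smul]
      exact ⟨_, hm, rfl⟩
    rw [hP] at hm'
    have h2 : (g : G) * (d⁻¹ * d₀ * d) * (g : G)⁻¹ ∈ T.D := hm'
    show x * d₀ * x⁻¹ ∈ T.D
    rw [hxd] at h2
    rwa [show x * d * (d⁻¹ * d₀ * d) * (x * d)⁻¹ = x * d₀ * x⁻¹ by group] at h2
  exact ⟨⟨T, T₀.conj x hx, eq_of_le_of_card_ge hle (le_of_eq (by
    show _ = Nat.card ↥(conjS x T₀.D)
    rw [card_conjS, T.card_D, T₀.card_D]))⟩⟩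

namespace TorPair

variable (P : C.TorPair)

/-- the root group of the second side -/
abbrev Ub : Subgroup G := conjS P.T'.s C.Z
/-- the root group of the first side -/
abbrev Ua : Subgroup G := conjS P.T.s C.Z

theorem Ub_le : P.Ub ≤ C.B := by rintro _ ⟨z, hz, rfl⟩; exact P.conj_Z_B hz
theorem Ua_le : P.Ua ≤ C.A := by rintro _ ⟨z, hz, rfl⟩; exact P.conj_Z_A hz

include P

theorem s_not_mem : P.T.s ∉ normalizer ((C.S : Subgroup G) : Set G) := fun h => by
  obtain ⟨z, hz, hz1⟩ := C.exists_Z_ne_one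
  exact hz1 (P.T.s_Z z hz (C.normalizer_S_conj_Z h hz))

/-- the normalizers of both sides meet in the normalizer of the Sylow subgroup -/
theorem mem_norm_of_mem {n : G} (hA : n ∈ normalizer (C.A : Set G)) (hB : n ∈ normalizer (C.B : Set G)) :
    n ∈ normalizer ((C.S : Subgroup G) : Set G) := by
  rcases P.T.cases n hA with h | ⟨b, hb, b', hb', rfl⟩
  · exact h
  have hle : normalizer ((C.S : Subgroup G) : Set G) ≤ normalizer (C.B : Set G) := by
    rw [← C.swap_A]; exact C.swap.normalizer_S_le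
  have hs : P.T.s ∈ normalizer (C.B : Set G) := by
    have := mul_mem (mul_mem (inv_mem (hle hb)) hB) (inv_mem (hle hb'))
    rwa [show b⁻¹ * (b * P.T.s * b') * b'⁻¹ = P.T.s by group] at this
  obtain ⟨z, hz, hz1⟩ := C.exists_Z_ne_one
  exact absurd (P.T.s_Z z hz ⟨cj_mem P.T.s_mem (C.Z_le_A hz), cj_mem hs (C.Z_le_B hz)⟩) hz1

theorem t_not_mem : P.T'.s ∉ normalizer (C.A : Set G) := fun h => by
  obtain ⟨z, hz, hz1⟩ := C.exists_Z_ne_one
  exact hz1 (P.t_Z hz (C.normalizer_S_conj_Z (P.mem_norm_of_mem h P.t_mem) hz))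

theorem mem_Z_of_conj {a : G} (ha : a ∈ C.A) (h : P.T'.s * a * P.T'.s⁻¹ ∈ normalizer (C.A : Set G)) : a ∈ C.Z := by
  by_contra haZ
  set m := P.T'.s * a * P.T'.s⁻¹ with hm
  have hmB : m ∈ normalizer (C.B : Set G) :=
    mul_mem (mul_mem P.t_mem (C.S_le_normalizer_B (C.A_le ha))) (inv_mem P.t_mem)
  have hmm : m * m = 1 := by
    rw [show m * m = P.T'.s * (a * a) * P.T'.s⁻¹ by rw [hm]; group, C.A_sq ha]
    group
  have hmS : m ∈ (C.S : Subgroup G) := P.T.mem_S_of_sq (P.mem_norm_of_mem h hmB) (by rw [hmm]; exact one_mem _)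
  have hnB : m ∉ C.B := fun hb => haZ ⟨ha, by
    have := cj_mem (inv_mem P.t_mem) hb
    rwa [show P.T'.s⁻¹ * m * P.T'.s⁻¹⁻¹ = a by rw [hm]; group] at this⟩
  have hmA : m ∈ C.A := (C.mem_A_or_B hmS hmm).resolve_right hnB
  obtain ⟨z, hz, hz1⟩ := C.exists_Z_ne_one
  have hc : Commute m (P.T'.s * z * P.T'.s⁻¹) := by
    rw [hm]; exact commute_conj (C.Z_central hz (C.A_le ha)).symm
  exact hz1 (P.t_Z hz ⟨C.mem_A_of_commute hmA (fun hz => hnB (C.Z_le_B hz)) (C.B_le (P.conj_Z_B hz)) hc,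
    P.conj_Z_B hz⟩)

theorem mem_norm_of_conj {j : G} (hj : j ∈ normalizer (C.A : Set G))
    (h : P.T'.s * j * P.T'.s⁻¹ ∈ normalizer (C.A : Set G)) : j ∈ normalizer ((C.S : Subgroup G) : Set G) := by
  have key : ∀ z ∈ C.Z, j * z * j⁻¹ ∈ C.Z := fun z hz => by
    refine P.mem_Z_of_conj (cj_mem hj (C.Z_le_A hz)) ?_
    have h2 := mul_mem (mul_mem h (C.S_le_normalizer_A (C.B_le (P.conj_Z_B hz)))) (inv_mem h)
    rwa [show P.T'.s * j * P.T'.s⁻¹ * (P.T'.s * z * P.T'.s⁻¹) * (P.T'.s * j * P.T'.s⁻¹)⁻¹ =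
      P.T'.s * (j * z * j⁻¹) * P.T'.s⁻¹ by group] at h2
  rcases P.T.cases j hj with h' | ⟨b, hb, b', hb', rfl⟩
  · exact h'
  obtain ⟨z, hz, hz1⟩ := C.exists_Z_ne_one
  have h1 := key _ (C.normalizer_S_conj_Z (inv_mem hb') hz)
  rw [show b * P.T.s * b' * (b'⁻¹ * z * b'⁻¹⁻¹) * (b * P.T.s * b')⁻¹ = b * (P.T.s * z * P.T.s⁻¹) * b⁻¹ by group] at h1
  have h2 := C.normalizer_S_conj_Z (inv_mem hb) h1
  rw [show b⁻¹ * (b * (P.T.s * z * P.T.s⁻¹) * b⁻¹) * b⁻¹⁻¹ = P.T.s * z * P.T.s⁻¹ by group] at h2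
  exact absurd (P.T.s_Z z hz h2) hz1

theorem eq_one_of_sws {w : G} (hw : w ∈ P.Ub) (h : P.T.s * w * P.T.s ∈ normalizer ((C.S : Subgroup G) : Set G)) :
    w = 1 := by
  have hwB := P.Ub_le hw
  obtain ⟨z, hz, rfl⟩ := hw
  change P.T'.s * z * P.T'.s⁻¹ ∈ C.B at hwB
  change P.T.s * (P.T'.s * z * P.T'.s⁻¹) * P.T.s ∈ _ at h
  show P.T'.s * z * P.T'.s⁻¹ = 1
  set w := P.T'.s * z * P.T'.s⁻¹
  have hsq : P.T.s * w * P.T.s * (P.T.s * w * P.T.s) = 1 := by
    rw [show P.T.s * w * P.T.s * (P.T.s * w * P.T.s) = P.T.s * w * (P.T.s * P.T.s) * w * P.T.s by group, P.T.s_sq,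
      mul_one, mul_assoc P.T.s w w, C.B_sq hwB, mul_one, P.T.s_sq]
  have hS := P.T.mem_S_of_sq h (by rw [hsq]; exact one_mem _)
  obtain ⟨z₀, hz₀, hz₀1⟩ := C.exists_Z_ne_one
  have hne : P.T.s * z₀ * P.T.s⁻¹ ∉ C.Z := fun h => hz₀1 (P.T.s_Z z₀ hz₀ h)
  have hc : Commute (P.T.s * z₀ * P.T.s⁻¹) w := by
    have := commute_conj (g := P.T.s) (C.Z_central hz₀ hS)
    rwa [show P.T.s * (P.T.s * w * P.T.s) * P.T.s⁻¹ = P.T.s * P.T.s * w by group, P.T.s_sq, one_mul] at this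
  have := P.t_Z hz ⟨C.mem_A_of_commute (P.conj_Z_A hz₀) hne (C.B_le hwB) hc, hwB⟩
  simp [w, this]

theorem card_norm_A_ge : 2880 ≤ Nat.card ↥(normalizer (C.A : Set G)) := by
  classical
  set N := normalizer ((C.S : Subgroup G) : Set G)
  let r : Option ↥P.Ub → G := fun o => o.elim 1 fun u => (u : G) * P.T.s
  have hr : ∀ o, r o ∈ normalizer (C.A : Set G) := by
    rintro (- | u)
    · exact one_mem _
    · exact mul_mem (C.S_le_normalizer_A (C.B_le (P.Ub_le u.2))) P.T.s_mem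
  let f : Option ↥P.Ub × ↥N → ↥(normalizer (C.A : Set G)) := fun p =>
    ⟨r p.1 * p.2, mul_mem (hr p.1) (C.normalizer_S_le p.2.2)⟩
  have hf : Function.Injective f := by
    rintro ⟨o, n⟩ ⟨o', n'⟩ e
    have e' : r o * n = r o' * n' := congrArg Subtype.val e
    have h1 : (r o')⁻¹ * r o ∈ N := by
      rw [show (r o')⁻¹ * r o = (n' : G) * (n : G)⁻¹ by rw [← mul_inv_eq_iff_eq_mul.2 e'.symm]; group]
      exact mul_mem n'.2 (inv_mem n.2)
    suffices o = o' by
      subst this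
      exact Prod.ext rfl (Subtype.ext (mul_left_cancel e'))
    have hns : ∀ u : ↥P.Ub, (u : G) * P.T.s ∉ N := fun u hu => P.s_not_mem (by
      have := mul_mem (inv_mem (le_normalizer (C.B_le (P.Ub_le u.2)))) hu
      rwa [inv_mul_cancel_left] at this)
    rcases o with - | u <;> rcases o' with - | u'
    · rfl
    · exact absurd (by simpa [r] using inv_mem h1) (hns u')
    · exact absurd (by simpa [r] using h1) (hns u)
    · have h2 : P.T.s * ((u' : G)⁻¹ * u) * P.T.s ∈ N := by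
        have : ((u' : G) * P.T.s)⁻¹ * ((u : G) * P.T.s) ∈ N := h1
        rwa [mul_inv_rev, P.s_inv, show P.T.s * (u' : G)⁻¹ * ((u : G) * P.T.s) =
          P.T.s * ((u' : G)⁻¹ * u) * P.T.s by group] at this
      exact congrArg some (Subtype.ext (inv_mul_eq_one.1 (P.eq_one_of_sws (mul_mem (inv_mem u'.2) u.2) h2)).symm)
  have := Nat.card_le_card_of_injective f hf
  rwa [Nat.card_prod, Finite.card_option, card_conjS, C.card_Z, P.T.card_norm] at this

theorem index_ge : 21 ≤ (normalizer (C.A : Set G)).index := by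
  classical
  set M := normalizer (C.A : Set G) with hM
  let r : Option (↥P.Ua ⊕ ↥P.Ub × ↥P.Ua) → G := fun o => o.elim 1 (Sum.elim (fun u => (u : G) * P.T'.s)
    fun q => (q.1 : G) * P.T.s * q.2 * P.T'.s)
  have hAM : ∀ u : ↥P.Ua, (u : G) ∈ M := fun u => C.S_le_normalizer_A (C.A_le (P.Ua_le u.2))
  have hBM : ∀ u : ↥P.Ub, (u : G) ∈ M := fun u => C.S_le_normalizer_A (C.B_le (P.Ub_le u.2))
  have hSN : ∀ u : ↥P.Ua, (u : G) ∈ normalizer ((C.S : Subgroup G) : Set G) := fun u =>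
    le_normalizer (C.A_le (P.Ua_le u.2))
  have hUa1 : ∀ x ∈ P.Ua, x ∈ C.Z → x = 1 := by
    rintro _ ⟨z, hz, rfl⟩ h
    rw [P.T.s_Z z hz h, map_one]
  have hj : ∀ j ∈ M, P.T'.s⁻¹ * j * P.T'.s ∈ M → j ∈ normalizer ((C.S : Subgroup G) : Set G) := fun j hj h => by
    rw [P.t_inv] at h
    exact P.mem_norm_of_conj hj (by rwa [P.t_inv])
  have hv : ∀ u u' : ↥P.Ua, P.T'.s⁻¹ * ((u : G)⁻¹ * u') * P.T'.s ∈ M → u = u' := fun u u' h => by
    rw [P.t_inv] at h
    have hm := mul_mem (inv_mem u.2) u'.2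
    exact Subtype.ext (inv_mul_eq_one.1 (hUa1 _ hm (P.mem_Z_of_conj (P.Ua_le hm) (by rwa [P.t_inv]))))
  have hnot : ∀ (g : G), g ∈ M → g * P.T'.s ∉ M := fun g hg h => P.t_not_mem (by
    have := mul_mem (inv_mem hg) h
    rwa [inv_mul_cancel_left] at this)
  have hus : ∀ (q : ↥P.Ub × ↥P.Ua), (q.1 : G) * P.T.s * q.2 ∈ M := fun q =>
    mul_mem (mul_mem (hBM q.1) P.T.s_mem) (hAM q.2)
  have hmix : ∀ (u : ↥P.Ua) (q : ↥P.Ub × ↥P.Ua),
      ¬ ((u : G) * P.T'.s)⁻¹ * ((q.1 : G) * P.T.s * q.2 * P.T'.s) ∈ M := fun u q h => by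
    rw [show ((u : G) * P.T'.s)⁻¹ * ((q.1 : G) * P.T.s * q.2 * P.T'.s) =
      P.T'.s⁻¹ * ((u : G)⁻¹ * ((q.1 : G) * P.T.s * q.2)) * P.T'.s by group] at h
    have h1 := hj _ (mul_mem (inv_mem (hAM u)) (hus q)) h
    refine P.s_not_mem ?_
    have h2 := mul_mem (mul_mem (mul_mem (inv_mem (le_normalizer (C.B_le (P.Ub_le q.1.2)))) (hSN u)) h1)
      (inv_mem (hSN q.2))
    rwa [show (q.1 : G)⁻¹ * u * ((u : G)⁻¹ * ((q.1 : G) * P.T.s * q.2)) * (q.2 : G)⁻¹ = P.T.s by group] at h2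
  let f : Option (↥P.Ua ⊕ ↥P.Ub × ↥P.Ua) → G ⧸ M := fun o => ↑(r o)
  have hf : Function.Injective f := by
    intro o o' e
    have h : (r o)⁻¹ * r o' ∈ M := QuotientGroup.eq.1 e
    have h' : (r o')⁻¹ * r o ∈ M := QuotientGroup.eq.1 e.symm
    rcases o with - | u | q <;> rcases o' with - | u' | q'
    · rfl
    · exact absurd (by simpa [r] using h) (hnot _ (hAM u'))
    · exact absurd (by simpa [r] using h) (hnot _ (hus q'))
    · exact absurd (by simpa [r] using h') (hnot _ (hAM u))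
    · have h2 : P.T'.s⁻¹ * ((u : G)⁻¹ * u') * P.T'.s ∈ M := by
        rw [show P.T'.s⁻¹ * ((u : G)⁻¹ * u') * P.T'.s = ((u : G) * P.T'.s)⁻¹ * ((u' : G) * P.T'.s) by group]
        exact h
      rw [hv u u' h2]
    · exact absurd h (hmix u q')
    · exact absurd (by simpa [r] using h') (hnot _ (hus q))
    · exact absurd h' (hmix u' q)
    · have h1 : P.T'.s⁻¹ * ((q.2 : G)⁻¹ * P.T.s⁻¹ * ((q.1 : G)⁻¹ * q'.1) * P.T.s * q'.2) * P.T'.s ∈ M := by
        rw [show P.T'.s⁻¹ * ((q.2 : G)⁻¹ * P.T.s⁻¹ * ((q.1 : G)⁻¹ * q'.1) * P.T.s * q'.2) * P.T'.s =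
          ((q.1 : G) * P.T.s * q.2 * P.T'.s)⁻¹ * ((q'.1 : G) * P.T.s * q'.2 * P.T'.s) by group]
        exact h
      have hM1 : (q.2 : G)⁻¹ * P.T.s⁻¹ * ((q.1 : G)⁻¹ * q'.1) * P.T.s * q'.2 ∈ M :=
        mul_mem (mul_mem (mul_mem (mul_mem (inv_mem (hAM q.2)) (inv_mem P.T.s_mem))
          (mul_mem (inv_mem (hBM q.1)) (hBM q'.1))) P.T.s_mem) (hAM q'.2)
      have h2 := mul_mem (mul_mem (hSN q.2) (hj _ hM1 h1)) (inv_mem (hSN q'.2))
      rw [show (q.2 : G) * ((q.2 : G)⁻¹ * P.T.s⁻¹ * ((q.1 : G)⁻¹ * q'.1) * P.T.s * q'.2) * (q'.2 : G)⁻¹ =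
        P.T.s⁻¹ * ((q.1 : G)⁻¹ * q'.1) * P.T.s by group, P.s_inv] at h2
      have he : q.1 = q'.1 := Subtype.ext (inv_mul_eq_one.1 (P.eq_one_of_sws (mul_mem (inv_mem q.1.2) q'.1.2) h2))
      rw [he, inv_mul_cancel, mul_one, show (q.2 : G)⁻¹ * P.T.s⁻¹ * P.T.s * q'.2 = (q.2 : G)⁻¹ * q'.2 by group] at h1
      rw [Prod.ext he (hv q.2 q'.2 h1)]
  have := Nat.card_le_card_of_injective f hf
  rwa [Finite.card_option, Nat.card_sum, Nat.card_prod, card_conjS, card_conjS, C.card_Z] at this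

theorem card_ge : 60480 ≤ Nat.card G :=
  le_of_le_of_eq (Nat.mul_le_mul P.card_norm_A_ge P.index_ge) (card_mul_index _)

theorem card_cent {z : G} (hz : z ∈ C.Z) (hz1 : z ≠ 1)
    (hC : centralizer ({z} : Set G) ≤ normalizer ((C.S : Subgroup G) : Set G)) :
    Nat.card ↥(centralizer ({z} : Set G)) = 192 := by
  classical
  obtain ⟨⟨z1, z2, z3⟩, rfl⟩ := C.exists_coord (C.Z_le hz)
  obtain ⟨e1, e2⟩ := C.mem_Z.1 hz
  simp only at e1 e2
  subst e1 e2
  have hz3 : z3 ≠ 0 := fun e => hz1 (by subst e; exact C.e_zero)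
  have hact : ∀ {d : G} {α γ : Fin 4}, C.Ch d α γ → d * C.e (0, 0, z3) * d⁻¹ = C.e (0, 0, qm γ z3) := by
    intro d α γ h
    obtain ⟨y, e, h1, h2, h3⟩ := h (0, 0, z3) rfl
    rw [e]
    exact congrArg C.e (Prod.ext (h1.trans (qa_zero α).2.2.2.1) (Prod.ext h2 (h3 rfl)))
  choose dd hdd using fun α : {q : Fin 4 // q ≠ 0} => P.T.ch_surj α.1 1 α.2 (by decide)
  have hmem : ∀ (x : ↥(C.S : Subgroup G)) (α : {q : Fin 4 // q ≠ 0}),
      (x : G) * dd α ∈ centralizer ({C.e (0, 0, z3)} : Set G) := fun x α => by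
    refine mul_mem (C.S_le_centralizer hz x.2) (mem_centralizer_singleton_iff.2 ?_)
    have := hact (hdd α).2
    rw [(qm_one z3).1] at this
    exact mul_inv_eq_iff_eq_mul.1 this
  let f : ↥(C.S : Subgroup G) × {q : Fin 4 // q ≠ 0} → ↥(centralizer ({C.e (0, 0, z3)} : Set G)) := fun p =>
    ⟨p.1 * dd p.2, hmem p.1 p.2⟩
  have hf : Function.Bijective f := by
    constructor
    · rintro ⟨x, α⟩ ⟨x', α'⟩ e
      have e' := P.T.prodEquiv.injective (a₁ := (x, ⟨dd α, (hdd α).1⟩)) (a₂ := (x', ⟨dd α', (hdd α').1⟩))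
        (Subtype.ext (show (x : G) * dd α = x' * dd α' from congrArg Subtype.val e))
      have h2 : dd α = dd α' := congrArg Subtype.val (congrArg Prod.snd e')
      have h3 := (hdd α).2
      rw [h2] at h3
      have h1 : x = x' := congrArg (fun p => p.1) e'
      exact Prod.ext h1 (Subtype.ext (Ch.unique C h3 (hdd α').2).1)
    · rintro ⟨g, hg⟩
      obtain ⟨x, hx, d, hd, rfl⟩ := P.T.decomp g (hC hg)
      obtain ⟨α, γ, hα, hγ, h⟩ := P.T.ch_ex d hd
      have hdc : d ∈ centralizer ({C.e (0, 0, z3)} : Set G) :=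
        (mul_mem_cancel_left (C.S_le_centralizer hz hx)).1 hg
      have hγ1 : γ = 1 := by
        have h1 := hact h
        rw [mem_centralizer_singleton_iff.1 hdc, mul_inv_cancel_right] at h1
        have h2 : z3 = qm γ z3 := congrArg (fun v : Mo => v.2.2) (C.e_inj h1)
        rw [qm_comm] at h2
        exact qm_cancel z3 γ 1 hz3 (by rw [← h2, (qm_one z3).2])
      subst hγ1
      exact ⟨(⟨x, hx⟩, ⟨α, hα⟩), Subtype.ext (by
        show x * dd ⟨α, hα⟩ = x * d
        rw [P.T.D_ch_mul (hdd ⟨α, hα⟩).1 hd (hdd ⟨α, hα⟩).2 h])⟩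
  rw [← Nat.card_congr (Equiv.ofBijective f hf), Nat.card_prod, C.card_S, Nat.card_eq_fintype_card]
  rfl

variable [IsSimpleGroup G] (hl : C.IsLin) (hM : C.Moved) (hM' : C.swap.Moved) (hO : Cfsg.oddCore G = ⊥)
include hl hM hM' hO

theorem card_eq : Nat.card G = 60480 := by
  refine le_antisymm ?_ P.card_ge
  set N := normalizer ((C.S : Subgroup G) : Set G)
  have hC := fun z hz hz1 => C.cent_Z_le_normalizer hl hM hM' hO (z := z) hz hz1
  obtain ⟨d, hd, he⟩ := P.braid hC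
  have hP : BN.Pair N P.Ub P.Ua P.T.s P.T'.s := ⟨P.side, P.side', d, hd, he⟩
  set H := closure ((N : Set G) ∪ {P.T.s, P.T'.s}) with hH
  have hN : N ≤ H := fun n hn => subset_closure (Or.inl hn)
  have hA : normalizer (C.A : Set G) ≤ H := fun n hn => by
    rcases P.T.cases n hn with h | ⟨b, hb, b', hb', rfl⟩
    · exact hN h
    · exact mul_mem (mul_mem (hN hb) (subset_closure (Or.inr (Or.inl rfl)))) (hN hb')
  have hB : normalizer (C.B : Set G) ≤ H := fun n hn => by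
    rcases P.T'.cases n (C.swap_A.symm ▸ hn) with h | ⟨b, hb, b', hb', rfl⟩
    · exact hN h
    · exact mul_mem (mul_mem (hN hb) (subset_closure (Or.inr (Or.inr rfl)))) (hN hb')
  have htop : H = ⊤ := C.eq_top_of_simple hl hM hM' hA hB fun z hz hz1 => (hC z hz hz1).trans hN
  have hle := hP.card_closure_le (q := 4) (by rw [card_conjS, C.card_Z]) (by rw [card_conjS, C.card_Z])
  rw [← hH, htop, card_top, P.T.card_norm] at hle
  exact hle

theorem exists_pairData : Nonempty (PairData G) := by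
  classical
  obtain ⟨hz, hz1⟩ := C.eA_one_not_Z
  have hC := C.cent_Z_le_normalizer hl hM hM' hO hz hz1
  have hconj : ∀ x : G, x * x = 1 → x ≠ 1 → ∃ g, g * C.eA 4 * g⁻¹ = x := fun x hx hx1 => by
    obtain ⟨g, hg⟩ := C.one_class hl hM hM' hz hz1 hx hx1
    exact ⟨g⁻¹, by rw [← hg]; group⟩
  refine ⟨{ A := C.A, B := C.B, z := C.eA 4, zA := C.Z_le_A hz, zB := C.Z_le_B hz, zne := hz1,
            A_sq := fun a => C.A_sq, B_sq := fun b => C.B_sq, card_A := C.card_A, card_B := C.card_B,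
            all_conj := hconj, mem_cases := fun x hx hxz => ?_, not_cj := fun g => C.not_conj_A_B g,
            card_inter := C.card_Z, comm := ?_, card_invol := ?_, self_cent := C.cent_le_A hl hM hM' hO }⟩
  · exact C.mem_A_or_B (P.T.mem_S_of_sq (hC (mem_centralizer_singleton_iff.2 hxz)) (by rw [hx]; exact one_mem _)) hx
  · intro a ha b hb haB hbA
    have haZ : a ∉ C.Z := fun h => haB (C.Z_le_B h)
    refine ⟨fun e => hbA (C.mem_A_of_commute ha haZ (C.B_le hb) e), ?_⟩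
    obtain ⟨w, hw, e⟩ := C.commutator_mem_Z (C.A_le ha) (C.B_le hb)
    have e' : a * b * a⁻¹ * b⁻¹ = w := by
      have hc := (C.Z_central hw (mul_mem (C.B_le hb) (C.A_le ha))).eq
      rw [e, ← hc]
      group
    rw [e']
    exact ⟨C.Z_le_A hw, C.Z_le_B hw⟩
  · set X := centralizer ({C.eA 4} : Set G)
    have hsq : ∀ g : G, g * C.eA 4 * g⁻¹ * (g * C.eA 4 * g⁻¹) = 1 ∧ g * C.eA 4 * g⁻¹ ≠ 1 := fun g => by
      refine ⟨?_, fun e => hz1 (conj_eq_one_iff.1 e)⟩
      rw [show g * C.eA 4 * g⁻¹ * (g * C.eA 4 * g⁻¹) = g * (C.eA 4 * C.eA 4) * g⁻¹ by group,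
        C.A_sq (C.Z_le_A hz), mul_one, mul_inv_cancel]
    let f : G ⧸ X → {x : G // x * x = 1 ∧ x ≠ 1} := Quotient.lift (fun g => ⟨g * C.eA 4 * g⁻¹, hsq g⟩) fun a b hab => by
      have h := mem_centralizer_singleton_iff.1 (QuotientGroup.leftRel_apply.1 hab)
      refine Subtype.ext ?_
      show a * C.eA 4 * a⁻¹ = b * C.eA 4 * b⁻¹
      calc a * C.eA 4 * a⁻¹ = a * (C.eA 4 * (a⁻¹ * b)) * b⁻¹ := by group
        _ = _ := by rw [← h]; group
    have hf : Function.Bijective f := by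
      constructor
      · intro p q
        induction p using QuotientGroup.induction_on with | _ a =>
        induction q using QuotientGroup.induction_on with | _ b =>
        intro e
        have e' : a * C.eA 4 * a⁻¹ = b * C.eA 4 * b⁻¹ := congrArg Subtype.val e
        refine QuotientGroup.eq.2 (mem_centralizer_singleton_iff.2 ?_)
        calc a⁻¹ * b * C.eA 4 = a⁻¹ * (b * C.eA 4 * b⁻¹) * b := by group
          _ = C.eA 4 * (a⁻¹ * b) := by rw [← e']; group
      · rintro ⟨x, hx, hx1⟩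
        obtain ⟨g, hg⟩ := hconj x hx hx1
        exact ⟨g, Subtype.ext hg⟩
    have h := X.card_mul_index
    rw [P.card_cent hz hz1 hC, P.card_eq hl hM hM' hO, Subgroup.index, Nat.card_congr (Equiv.ofBijective f hf)] at h
    omega

/-- the tori do not exist in a simple group -/
theorem false_of_simple : False := by
  classical
  haveI : Fact (Nat.Prime 2) := ⟨Nat.prime_two⟩
  let K := GaloisField 2 2
  letI : Fintype K := Fintype.ofFinite K
  have hK : Fintype.card K = 4 := by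
    rw [← Nat.card_eq_fintype_card, GaloisField.card 2 2 (by norm_num)]; norm_num
  let Q := Matrix.ProjectiveSpecialLinearGroup (Fin 3) K
  haveI : IsSimpleGroup Q := Cfsg.Lib.Classical.isSimpleGroup_PSL_fin (by norm_num) (by norm_num)
  have hQ : Nat.card Q = 20160 := Cfsg.Lib.LThreeFourPar.card_psl_four hK
  have hnaQ : ¬ IsMulCommutative Q := fun hc => by
    letI : CommGroup Q := { (inferInstance : Group Q) with mul_comm := fun a b => mul_comm' a b }
    have h1 : (Nat.card Q).Prime := IsSimpleGroup.prime_card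
    rw [hQ] at h1
    norm_num at h1
  obtain ⟨a, ha, haZ⟩ := C.exists_not_mem_Z_A
  have hna : ¬ IsMulCommutative G := fun hc => by
    obtain ⟨b, hb, hbZ⟩ := C.swap.exists_not_mem_Z_A
    rw [C.swap_A] at hb
    rw [C.swap_Z] at hbZ
    exact hbZ ⟨C.mem_A_of_commute ha haZ (C.B_le hb) (mul_comm' a b), hb⟩
  obtain ⟨D⟩ := P.exists_pairData hl hM hM' hO
  obtain ⟨f, hf⟩ := D.exists_embedding
  obtain ⟨f', hf'⟩ := (Cfsg.Lib.AutThreeFour.pairDataP hK).exists_embedding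
  have h2 := Cfsg.Lib.AutThreeFour.card_planeGroup
  have h3 := Nat.card_le_card_of_injective f' hf'
  rw [Cfsg.Lib.AutThreeFour.card_mulAut_psl hK] at h3
  let e : MulAut Q ≃* Cfsg.Lib.AutThreeFour.planeGroup := MulEquiv.ofBijective f'
    ((Nat.bijective_iff_injective_and_card f').2 ⟨hf', by rw [Cfsg.Lib.AutThreeFour.card_mulAut_psl hK]; omega⟩)
  let ψ : G →* MulAut Q := e.symm.toMonoidHom.comp (f.comp MulAut.conj)
  have hψ : Function.Injective ψ :=
    e.symm.injective.comp (hf.comp (Cfsg.Lib.CITGroups.conj_injective hna))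
  let I : Subgroup (MulAut Q) := (MulAut.conj : Q →* MulAut Q).range
  haveI hI : I.Normal := ⟨by
    rintro _ ⟨p, rfl⟩ α
    refine ⟨α p, MulEquiv.ext fun u => ?_⟩
    show α p * u * (α p)⁻¹ = α (p * α.symm u * p⁻¹)
    rw [map_mul, map_mul, map_inv, MulEquiv.apply_symm_apply]⟩
  have hIc : Nat.card ↥I = 20160 := by
    rw [← Nat.card_congr (MonoidHom.ofInjective (Cfsg.Lib.CITGroups.conj_injective hnaQ)).toEquiv, hQ]
  have hidx : I.index = 12 := by
    have h4 := I.card_mul_index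
    rw [hIc, Cfsg.Lib.AutThreeFour.card_mulAut_psl hK] at h4
    omega
  have hG := P.card_eq hl hM hM' hO
  rcases IsSimpleGroup.eq_bot_or_eq_top_of_normal ((QuotientGroup.mk' I).comp ψ).ker inferInstance with h | h
  · have h5 := Nat.card_le_card_of_injective _ ((MonoidHom.ker_eq_bot_iff _).1 h)
    rw [hG] at h5
    change 60480 ≤ I.index at h5
    omega
  · have hmem : ∀ g, ψ g ∈ I := fun g => (QuotientGroup.eq_one_iff _).1 (MonoidHom.mem_ker.1 (h.ge (mem_top g)))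
    have h5 := Nat.card_le_card_of_injective (fun g => (⟨ψ g, hmem g⟩ : I))
      (fun a b k => hψ (congrArg Subtype.val k))
    omega

end TorPair

variable (C) in
/-- a simple group with both sides moved -/
theorem exists_psl_four [IsSimpleGroup G] (hM : C.Moved) (hM' : C.swap.Moved) (hO : Cfsg.oddCore G = ⊥) :
    ∃ (K : Type) (_ : Field K) (_ : Fintype K), Fintype.card K = 4 ∧
      Nonempty (G ≃* Matrix.ProjectiveSpecialLinearGroup (Fin 3) K) := by
  obtain ⟨D, -, hl, hl', hD, hD', -, -⟩ := C.exists_lin_moved hM hM'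
  rcases D.psl_or_rho hl hD hD' hO with h | h
  · exact h
  have hD2 : D.swap.swap.Moved := by rw [D.swap_swap]; exact hD
  rcases D.swap.psl_or_rho hl' hD' hD2 hO with h' | h'
  · exact h'
  obtain ⟨T⟩ := D.exists_tor hl hD hD' hO h
  obtain ⟨T₀⟩ := D.swap.exists_tor hl' hD' hD2 hO h'
  obtain ⟨P⟩ := T.exists_pair T₀
  exact (P.false_of_simple hl hD hD' hO).elim

end Cfsg.Lib.LFourType.Coord
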