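import Cfsg.Agent.LFourType.CaseTwoSmall

/-!
When the side `A` is moved, it is normal.
-/

set_option autoImplicit false

namespace Cfsg.Lib.LFourType.Coord

open Subgroup

universe u

variable {G : Type u} [Group G] [Finite G] (C : Coord G)

/-- **one moved side is normal** -/
theorem A_normal_moved (hO : Cfsg.oddCore G = ⊥) (hM : C.Moved) (hB : ¬ C.swap.Moved) : C.A.Normal := by
  have hW := C.W_eq_bot hM hB hO
  exact normalizer_eq_top_iff.1 (C.eq_top_moved hM hB le_rfl
    (fun z hz hz1 => (C.cent_Z_S hW z hz hz1).trans C.normalizer_S_le)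
    fun b hb hbZ => C.cent_le_normalizer_A hM hB hW hb hbZ)

end Cfsg.Lib.LFourType.Coord
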