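import Cfsg.Agent.LFourType.CaseTwoMoved

/-!
Basic facts for the case where the side `A` is moved and all cores are trivial: conjugates of the centre inside `A`.
-/

set_option autoImplicit false
set_option linter.unusedSectionVars false
set_option linter.style.haveILetI false
set_option maxHeartbeats 1000000

namespace Cfsg.Lib.LFourType.Coord

open Subgroup
open Cfsg.Lib.Walter (Qt bar Oc mem_Oc odd_ker_qm CoreFree)

universe u

/-- the projection onto `C(a)/O(C(a))` -/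
local notation "qk" => Cfsg.Lib.Walter.qm

variable {G : Type u} [Group G] [Finite G] (C : Coord G)

theorem eq_one_of_three {x : G} (h3 : x ^ 3 = 1) (h2 : x * x = 1) : x = 1 := by
  rwa [pow_succ, pow_two, h2, one_mul] at h3

theorem Oc_Z_eq_bot (hW : C.W = ⊥) {z : G} (hz : z ∈ C.Z) (hz1 : z ≠ 1) : Oc z = ⊥ :=
  le_bot_iff.1 (hW ▸ C.Oc_le_W (C.Z_le_A hz) hz1)

theorem cent_Z_S (hW : C.W = ⊥) : ∀ z ∈ C.Z, z ≠ 1 → centralizer ({z} : Set G) ≤ normalizer ((C.S : Subgroup G) : Set G) :=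
  fun z hz hz1 => C.cent_Z_le hz hz1 (by rw [C.Oc_Z_eq_bot hW hz hz1]; exact bot_le) le_rfl

theorem cent_A_mem (hW : C.W = ⊥) {x : G} (hx : x ∈ centralizer (C.A : Set G)) : x ∈ C.A := by
  obtain ⟨z₀, hz₀, hz₀1⟩ := C.exists_Z_ne_one
  have hFA : C.FA = ⊥ := le_bot_iff.1 (C.Oc_Z_eq_bot hW hz₀ hz₀1 ▸ C.FA_le_Oc hz₀ hz₀1)
  obtain ⟨a, ha, f, hf, rfl⟩ := C.cent_decomp hx
  rw [hFA, mem_bot] at hf
  rwa [hf, mul_one]

theorem cent_B_mem (hW : C.W = ⊥) {x : G} (hx : x ∈ centralizer (C.swap.A : Set G)) : x ∈ C.swap.A := by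
  obtain ⟨z₀, hz₀, hz₀1⟩ := C.exists_Z_ne_one
  have hFB : C.swap.FA = ⊥ :=
    le_bot_iff.1 (C.Oc_Z_eq_bot hW hz₀ hz₀1 ▸ C.swap.FA_le_Oc (C.swap_Z.symm ▸ hz₀) hz₀1)
  obtain ⟨a, ha, f, hf, rfl⟩ := C.swap.cent_decomp hx
  rw [hFB, mem_bot] at hf
  rwa [hf, mul_one]

theorem normalizer_B_le_S (hB : ¬ C.swap.Moved) (hW : C.W = ⊥) :
    normalizer (C.swap.A : Set G) ≤ normalizer ((C.S : Subgroup G) : Set G) :=
  C.swap.normalizer_le_of_cent hB le_rfl (by rw [C.swap_Z]; exact C.cent_Z_S hW)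

theorem Z_le_cent_side {u : G} (hu : u ∈ C.swap.A) : C.Z ≤ centralizer ({u} : Set G) :=
  (C.swap_Z ▸ C.swap.Z_le_A).trans (C.swap.A_le_cent hu)

theorem Oc_side_eq_bot (hW : C.W = ⊥) {b : G} (hb' : b ∈ C.swap.A) : Oc b = ⊥ :=
  le_bot_iff.1 (le_of_four' (by rw [C.card_Z])
    (fun p hp q hq => C.A_comm (C.Z_le_A hp) (C.Z_le_A hq)) (fun p hp => C.A_sq (C.Z_le_A hp)) (odd_Oc b)
    (fun p hp => Oc_normalized (C.Z_le_cent_side hb' hp)) fun z hz hz1 =>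
      (C.swap.Oc_inf_cent_le hb' (C.swap_Z.symm ▸ hz) hz1).trans (C.Oc_Z_eq_bot hW hz hz1).le)

/-- an element of odd order normalising `S` which fixes one central involution fixes all of them -/
theorem fix_Z_of_odd {y : G} (hy : y ∈ normalizer ((C.S : Subgroup G) : Set G)) (hodd : Odd (orderOf y)) {z : G}
    (hz : z ∈ C.Z) (hz1 : z ≠ 1) (hfix : y * z * y⁻¹ = z) {p : G} (hp : p ∈ C.Z) : y * p * y⁻¹ = p := by
  by_cases h1 : p = 1
  · simp [h1]
  by_cases h2 : p = z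
  · rwa [h2]
  by_contra hne
  have hw := C.Z_fourth hz hp (C.normalizer_S_conj_Z hy hp) hz1 h1 (Ne.symm h2) (fun e => h1 (conj_eq_one_iff.1 e))
    (fun e => h2 (mul_left_cancel (mul_right_cancel (e.trans hfix.symm)))) hne
  have h2' : Commute (y * y) p := by
    refine mul_inv_eq_iff_eq_mul.1 ?_
    calc y * y * p * (y * y)⁻¹ = y * (y * p * y⁻¹) * y⁻¹ := by group
      _ = (y * z * y⁻¹) * (y * p * y⁻¹) := by conv_lhs => rw [hw]
                                              group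
      _ = p := by rw [hfix, hw, ← mul_assoc, C.A_sq (C.Z_le_A hz), one_mul]
  obtain ⟨i, hi⟩ := hodd
  have h3 := h2'.pow_left (i + 1)
  rw [← pow_two, ← pow_mul, show 2 * (i + 1) = orderOf y + 1 by omega, pow_succ, pow_orderOf_eq_one,
    one_mul] at h3
  exact hne (by rw [h3.eq, mul_inv_cancel_right])

variable {b : G} {L : Subgroup (Qt b)} {U : Subgroup G}

theorem side_inj (hW : C.W = ⊥) (hb' : b ∈ C.swap.A) {x y : G} (hx : x ∈ centralizer ({b} : Set G))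
    (hy : y ∈ centralizer ({b} : Set G)) (e : qk b ⟨x, hx⟩ = qk b ⟨y, hy⟩) : x = y := by
  have h1 : x⁻¹ * y ∈ Oc b := mem_Oc.2 ⟨mul_mem (inv_mem hx) hy, by
    rw [show (⟨x⁻¹ * y, _⟩ : centralizer ({b} : Set G)) = ⟨x, hx⟩⁻¹ * ⟨y, hy⟩ from rfl, map_mul, map_inv, e,
      inv_mul_cancel]⟩
  rw [C.Oc_side_eq_bot hW hb', mem_bot] at h1
  exact inv_mul_eq_one.1 h1

theorem U_mem_cent (h : C.swap.Split b L U) {v : G} (hv : v ∈ U) : v ∈ centralizer ({b} : Set G) :=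
  C.swap.A_le_cent h.a_mem (h.U_le hv)

theorem U_mem_S (h : C.swap.Split b L U) {v : G} (hv : v ∈ U) : v ∈ (C.S : Subgroup G) := C.swap.A_le (h.U_le hv)

theorem U_commute (hW : C.W = ⊥) (h : C.swap.Split b L U) {x : G} (hx : x ∈ centralizer ({b} : Set G))
    (hl : qk b ⟨x, hx⟩ ∈ L) : ∀ v ∈ U, Commute x v := by
  intro v hv
  refine C.side_inj hW h.a_mem (mul_mem hx (C.U_mem_cent h hv)) (mul_mem (C.U_mem_cent h hv) hx) ?_
  rw [show (⟨x * v, _⟩ : centralizer ({b} : Set G)) = ⟨x, hx⟩ * ⟨v, C.U_mem_cent h hv⟩ from rfl,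
    show (⟨v * x, _⟩ : centralizer ({b} : Set G)) = ⟨v, C.U_mem_cent h hv⟩ * ⟨x, hx⟩ from rfl, map_mul, map_mul]
  exact mem_centralizer_iff.1 (h.U_mem v hv (C.U_mem_cent h hv)) _ hl

theorem U_cent_A (h : C.swap.Split b L U) {x v : G} (hx : x ∈ C.A) (hv : v ∈ U) (hv1 : v ≠ 1) (hc : Commute x v) :
    x ∈ C.Z := by
  have h1 := C.swap.mem_A_of_commute (h.U_le hv) (fun hz => hv1 (h.U_Z v hv hz)) (C.A_le hx) hc.symm
  rw [C.swap_A] at h1
  exact ⟨hx, h1⟩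

/-- conjugates of a central involution by elements outside `N(S)` are outside the centre -/
theorem line_of_mem (hW : C.W = ⊥) {n : G} (hn : n ∈ normalizer (C.A : Set G)) {w : G} (hw : w ∈ C.Z) (hw1 : w ≠ 1)
    (hw' : n⁻¹ * w * n ∈ C.Z) : n ∈ normalizer ((C.S : Subgroup G) : Set G) := by
  have hZN := C.cent_Z_S hW
  set S' := conjS n (C.S : Subgroup G)
  have hS'N : S' ≤ normalizer ((C.S : Subgroup G) : Set G) := by
    rintro _ ⟨s, hs, rfl⟩
    refine hZN w hw hw1 (mem_centralizer_singleton_iff.2 ?_)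
    have := (commute_conj (g := n) (C.Z_central hw' hs)).eq
    rw [show n * (n⁻¹ * w * n) * n⁻¹ = w by group] at this
    exact this.symm
  have h2 : IsPGroup 2 (S' ⊔ (C.S : Subgroup G) : Subgroup G) :=
    (C.S.2.map _).to_sup_of_normal_right' C.S.2 hS'N
  have h3 : S' ≤ C.S := le_sup_left.trans (C.eq_S h2 le_sup_right).le
  exact conjS_eq_self.1 (eq_of_le_of_card_ge h3 (card_conjS n _).ge)

theorem line_stab (hW : C.W = ⊥) (h : C.swap.Split b L U) {n : G} (hn : n ∈ normalizer (C.A : Set G)) {v : G}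
    (hv : v ∈ U) (hv1 : v ≠ 1) (hmap : ∀ w ∈ C.Z, n⁻¹ * (v * (n * w * n⁻¹) * v⁻¹) * n ∈ C.Z) :
    n ∈ normalizer ((C.S : Subgroup G) : Set G) := by
  haveI : Fact (Nat.Prime 2) := ⟨Nat.prime_two⟩
  obtain ⟨z₀, hz₀, hz₀1⟩ := C.exists_Z_ne_one
  have hvS : ∀ {v}, v ∈ U → v ∈ (C.S : Subgroup G) := fun hv => C.U_mem_S h hv
  have hline : ∀ n ∈ normalizer (C.A : Set G), ∀ w ∈ C.Z, w ≠ 1 → n⁻¹ * w * n ∈ C.Z →
      n ∈ normalizer ((C.S : Subgroup G) : Set G) := fun n hn w hw => C.line_of_mem hW hn hw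
  have hUZ' : ∀ {x v : G}, x ∈ C.A → v ∈ U → v ≠ 1 → Commute x v → x ∈ C.Z := fun {x v} hx hv => C.U_cent_A h hx hv
  have hvA : v ∈ normalizer (C.A : Set G) := C.S_le_normalizer_A (hvS hv)
  set m := n⁻¹ * v * n with hm
  have hmN : m ∈ normalizer (C.A : Set G) := mul_mem (mul_mem (inv_mem hn) hvA) hn
  have h1 : m * z₀ * m⁻¹ ∈ C.Z := by
    have := hmap z₀ hz₀
    rwa [show n⁻¹ * (v * (n * z₀ * n⁻¹) * v⁻¹) * n = m * z₀ * m⁻¹ by rw [hm]; group] at this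
  have hmS : m ∈ normalizer ((C.S : Subgroup G) : Set G) :=
    hline m hmN _ h1 (fun e => hz₀1 (conj_eq_one_iff.1 e)) (by
      rwa [show m⁻¹ * (m * z₀ * m⁻¹) * m = z₀ by group])
  have hm2 : m * m = 1 := by
    rw [hm, show n⁻¹ * v * n * (n⁻¹ * v * n) = n⁻¹ * (v * v) * n by group, C.swap.A_sq (h.U_le hv)]; group
  have hmC : m ∈ (C.S : Subgroup G) := (le_sup_left.trans (C.eq_S ((isPGroup_zpowers_sq hm2).to_sup_of_normal_right'
    C.S.2 (zpowers_le.2 hmS)) le_sup_right).le) (mem_zpowers m)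
  have h2 := (commute_conj (g := n) (C.Z_central hz₀ hmC)).eq
  rw [show n * m * n⁻¹ = v by rw [hm]; group] at h2
  exact hline n hn _ (hUZ' (cj_mem hn (C.Z_le_A hz₀)) hv hv1 h2)
    (fun e => hz₀1 (conj_eq_one_iff.1 e)) (by rwa [show n⁻¹ * (n * z₀ * n⁻¹) * n = z₀ by group])

end Cfsg.Lib.LFourType.Coord
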