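import Cfsg.Agent.LFourType.CaseTwoRot

/-!
An involution inverting the rotation, and the two-part of the centralizer of the rotation.
-/

set_option autoImplicit false
set_option linter.unusedSectionVars false
set_option linter.style.haveILetI false
set_option maxHeartbeats 1000000

namespace Cfsg.Lib.LFourType.Coord

open Subgroup
open Cfsg.Lib.Walter (Qt bar Oc mem_Oc odd_ker_qm CoreFree)

universe u

/-- the projection onto `C(a)/O(C(a))` -/
local notation "qk" => Cfsg.Lib.Walter.qm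

variable {G : Type u} [Group G] [Finite G] (C : Coord G)

variable {b : G} {L : Subgroup (Qt b)} {U : Subgroup G}

theorem exists_inverting (hB : ¬ C.swap.Moved) (hW : C.W = ⊥) (h : C.swap.Split b L U) {k : G}
    (hk : C.Rot b L U k) : ∃ t, t * k * t⁻¹ = k⁻¹ ∧ t * t = 1 ∧ k⁻¹ ≠ k ∧ (∀ v ∈ U, Commute t v) ∧
      ∃ l, (∀ v ∈ U, Commute l v) ∧ ∃ z ∈ C.Z, z ≠ 1 ∧ l * z * l⁻¹ = t := by
  classical
  haveI : Fact (Nat.Prime 2) := ⟨Nat.prime_two⟩
  haveI : Fact (Nat.Prime 3) := ⟨Nat.prime_three⟩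
  obtain ⟨z₀, hz₀, hz₀1⟩ := C.exists_Z_ne_one
  have hb' := h.a_mem
  have hbZ' := h.a_not
  have hvS : ∀ {v}, v ∈ U → v ∈ (C.S : Subgroup G) := fun hv => C.U_mem_S h hv
  have hUZ' : ∀ {x v : G}, x ∈ C.A → v ∈ U → v ≠ 1 → Commute x v → x ∈ C.Z := fun {x v} hx hv => C.U_cent_A h hx hv
  have hconjZ : ∀ {n}, n ∈ normalizer ((C.S : Subgroup G) : Set G) → ∀ {v}, v ∈ C.Z → n * v * n⁻¹ ∈ C.Z :=
    fun {n} hn {v} hv => C.normalizer_S_conj_Z hn hv
  have hk3 := hk.cube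
  have hk1 := hk.ne_one
  have hkS := hk.mem_S
  have hkA := C.normalizer_S_le hkS
  have hkK := hk.mem_cent
  have hkL := hk.mem_L hkK
  have hkU := hk.comm
  have hkfix := hk.fpf
  have hkZ : ∀ z ∈ C.Z, k * z * k⁻¹ = z → z = 1 := fun z hz => hkfix z (C.Z_le_A hz)
  have hinj : ∀ {x y : G} (hx : x ∈ centralizer ({b} : Set G)) (hy : y ∈ centralizer ({b} : Set G)),
      qk b ⟨x, hx⟩ = qk b ⟨y, hy⟩ → x = y := fun {x y} hx hy => C.side_inj hW hb' hx hy
  haveI := h.simple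
  have hLU : ∀ {x : G} (hx : x ∈ centralizer ({b} : Set G)), qk b ⟨x, hx⟩ ∈ L → ∀ v ∈ U, Commute x v :=
    fun {x} hx hl => C.U_commute hW h hx hl
  have hUK : ∀ {v}, v ∈ U → v ∈ centralizer ({b} : Set G) := fun hv => C.U_mem_cent h hv
  have hZN := C.cent_Z_S hW
  have hCB : ∀ x ∈ centralizer (C.swap.A : Set G), x ∈ C.swap.A := fun x hx => C.cent_B_mem hW hx
  have hZn : ∀ {u}, u ∈ C.swap.A → C.Z ≤ centralizer ({u} : Set G) := fun {u} hu => C.Z_le_cent_side hu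
  obtain ⟨F, _, _, h5, K⟩ := Cfsg.Lib.Walter.exists_top h.psl
  have hzK : ∀ {z}, z ∈ C.Z → z ∈ centralizer ({b} : Set G) := fun hz => hZn hb' hz
  have hZm : ∀ {z} (hz : z ∈ C.Z), qk b ⟨z, hzK hz⟩ ∈ L := fun {z} hz => h.Z_mem z (C.swap_Z.symm ▸ hz) _
  set v₀ : L := ⟨_, hZm hz₀⟩
  have hv₀ : orderOf v₀ = 2 := orderOf_involution (Subtype.ext (by
    show qk b _ * qk b _ = 1
    rw [← map_mul]
    exact (congrArg (qk b) (Subtype.ext (C.A_sq (C.Z_le_A hz₀)))).trans (map_one _)))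
    fun e => hz₀1 (hinj (hzK hz₀) (one_mem _) ((congrArg Subtype.val e).trans (map_one _).symm))
  have htor : Cfsg.Lib.FourGW.tor (⊤ : Subgroup L) v₀ = ⊥ := by
    refine eq_bot_iff.2 fun q hq => mem_bot.2 ?_
    obtain ⟨-, hqc, hqo⟩ := (K.mem_tor hv₀).1 hq
    obtain ⟨⟨x, hx⟩, hxe⟩ := QuotientGroup.mk'_surjective _ (q : Qt b)
    have hxL : qk b ⟨x, hx⟩ ∈ L := hxe ▸ q.2
    have hxz : Commute x z₀ := by
      refine hinj (mul_mem hx (hzK hz₀)) (mul_mem (hzK hz₀) hx) ?_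
      show qk b ((⟨x, hx⟩ : centralizer ({b} : Set G)) * (⟨z₀, hzK hz₀⟩ : centralizer ({b} : Set G))) =
        qk b ((⟨z₀, hzK hz₀⟩ : centralizer ({b} : Set G)) * (⟨x, hx⟩ : centralizer ({b} : Set G)))
      rw [map_mul, map_mul]
      rw [show qk b ⟨x, hx⟩ = q from hxe]
      exact congrArg Subtype.val hqc
    have hxS := hZN z₀ hz₀ hz₀1 (mem_centralizer_singleton_iff.2 hxz.eq)
    have hxo : x ^ orderOf q = 1 := by
      refine hinj (pow_mem hx _) (one_mem _) ?_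
      rw [show (⟨x ^ orderOf q, _⟩ : centralizer ({b} : Set G)) = ⟨x, hx⟩ ^ orderOf q from rfl, map_pow,
        show qk b ⟨x, hx⟩ = q from hxe, ← SubgroupClass.coe_pow, pow_orderOf_eq_one]
      exact (map_one _).symm
    have hox : Odd (orderOf x) := hqo.of_dvd_nat (orderOf_dvd_of_pow_eq_one hxo)
    -- `x` fixes the centre
    have hxZ : ∀ z ∈ C.Z, Commute x z := fun z hz => mul_inv_eq_iff_eq_mul.1
      (C.fix_Z_of_odd hxS hox hz₀ hz₀1 (by rw [hxz.eq, mul_inv_cancel_right]) hz)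
    have hxB : x ∈ C.swap.A := hCB x (mem_centralizer_iff.2 fun y hy => by
      obtain ⟨v, hv, z, hz, rfl⟩ := h.sup y hy
      rw [C.swap_Z] at hz
      exact ((hLU hx hxL v hv).mul_right (hxZ z hz)).eq.symm)
    have hx1 : x = 1 := Cfsg.Lib.GenDihedral.eq_one_of_sq_of_odd (C.swap.A_sq hxB) hox
    refine Subtype.ext ?_
    rw [← hxe]
    subst hx1
    exact map_one _
  have hT : Cfsg.Lib.FourGW.torT (Fintype.card F) = 1 := by rw [← K.card_tor hv₀, htor, card_bot]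
  have hL60 : Nat.card L = 60 := by
    have hq : Fintype.card F = 5 := by
      obtain ⟨-, ⟨-, e⟩ | ⟨-, e⟩⟩ := Cfsg.Lib.FourGW.torT_spec K.hq <;> omega
    have := K.card_L_mul
    rw [Subgroup.card_top, hq] at this
    norm_num at this
    omega
  set kb : L := ⟨_, hkL⟩
  have hkb : orderOf kb = 3 := by
    refine orderOf_eq_prime ?_ ?_
    · refine Subtype.ext ?_
      show qk b ⟨k, hkK⟩ ^ 3 = 1
      rw [← map_pow]
      exact (congrArg (qk b) (Subtype.ext hk3)).trans (map_one _)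
    · exact fun e => hk1 (hinj hkK (one_mem _) ((congrArg Subtype.val e).trans (map_one _).symm))
  -- an involution inverting the rotation
  obtain ⟨t, htK, htL, htinv, ht2⟩ : ∃ t, ∃ ht : t ∈ centralizer ({b} : Set G), qk b ⟨t, ht⟩ ∈ L ∧
      t * k * t⁻¹ = k⁻¹ ∧ t * t = 1 := by
    set P3 := zpowers kb
    have hP3c : Nat.card P3 = 3 := by rw [Nat.card_zpowers, hkb]
    have hP3i : ¬ 3 ∣ P3.index := by
      have h1 := P3.card_mul_index
      rw [hP3c, hL60] at h1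
      omega
    let P := (IsPGroup.of_card (p := 3) (n := 1) (by rw [hP3c, pow_one]) : IsPGroup 3 P3).toSylow hP3i
    obtain ⟨w, hwN, hwC⟩ : ∃ w ∈ normalizer (P3 : Set L), w * kb * w⁻¹ ≠ kb := by
      by_contra hcon
      push Not at hcon
      obtain ⟨N, hN, hNc, -⟩ := Cfsg.Lib.PermGen.burnside_complement P (fun y hy => mem_centralizer_iff.2 fun p hp => by
        obtain ⟨i, rfl⟩ := mem_zpowers_iff.1 (show p ∈ P3 from hp)
        exact (((show Commute y kb from mul_inv_eq_iff_eq_mul.1 (hcon y hy)).zpow_right i).eq).symm)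
      have hP : ((P : Sylow 3 L) : Subgroup L) = P3 := rfl
      rw [hP, hP3c, hL60] at hNc
      rcases IsSimpleGroup.eq_bot_or_eq_top_of_normal N hN with e | e
      · rw [e, card_bot] at hNc; omega
      · rw [e, card_top, hL60] at hNc; omega
    have hwinv : w * kb * w⁻¹ = kb⁻¹ := by
      obtain ⟨i, hi⟩ := mem_zpowers_iff.1 (cj_mem hwN (mem_zpowers kb))
      have hi' : kb ^ (i % 3) = w * kb * w⁻¹ := by rw [← hi, ← zpow_mod_orderOf kb i, hkb]; norm_num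
      have h3 : i % 3 = 0 ∨ i % 3 = 1 ∨ i % 3 = 2 := by omega
      rcases h3 with e | e | e <;> rw [e] at hi'
      · have : kb = 1 := conj_eq_one_iff.1 (by rw [← hi', zpow_zero])
        rw [this, orderOf_one] at hkb; omega
      · exact absurd (by rw [← hi', zpow_one]) hwC
      · rw [← hi']
        refine eq_inv_of_mul_eq_one_left ?_
        rw [← zpow_add_one, show (2 : ℤ) + 1 = ((3 : ℕ) : ℤ) by norm_num, zpow_natCast, ← hkb, pow_orderOf_eq_one]
    obtain ⟨j, m, hm, hjm⟩ := Nat.exists_eq_pow_mul_and_not_dvd (orderOf_pos w).ne' 2 (by norm_num)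
    obtain ⟨i, hi⟩ : Odd m := Nat.odd_iff.2 (by omega)
    set tb := w ^ m
    have htb : tb * kb * tb⁻¹ = kb⁻¹ := by
      have h2 : Commute (w * w) kb := by
        refine mul_inv_eq_iff_eq_mul.1 ?_
        calc w * w * kb * (w * w)⁻¹ = w * (w * kb * w⁻¹) * w⁻¹ := by group
          _ = (w * kb * w⁻¹)⁻¹ := by
              nth_rewrite 1 [hwinv]
              group
          _ = kb := by rw [hwinv, inv_inv]
      show w ^ m * kb * (w ^ m)⁻¹ = kb⁻¹
      rw [hi, pow_succ', pow_mul, pow_two, show w * (w * w) ^ i * kb * (w * (w * w) ^ i)⁻¹ =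
        w * ((w * w) ^ i * kb * ((w * w) ^ i)⁻¹) * w⁻¹ by group, (h2.pow_left i).eq, mul_inv_cancel_right, hwinv]
    obtain ⟨⟨t, ht⟩, hte⟩ := QuotientGroup.mk'_surjective _ (tb : Qt b)
    have htp : IsPGroup 2 (zpowers (tb : Qt b)) := by
      refine IsPGroup.of_card (n := j) ?_
      rw [Nat.card_zpowers, orderOf_coe, orderOf_pow_of_dvd (by omega) ⟨2 ^ j, by rw [hjm]; ring⟩, hjm,
        Nat.mul_div_cancel _ (by omega)]
    obtain ⟨T, hTbar, -⟩ := C.swap.exists_sylow_bar hB hb' hbZ'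
    obtain ⟨R, hR⟩ := htp.exists_le_sylow
    obtain ⟨c, hc⟩ := MulAction.exists_smul_eq (Qt b) R T
    have h1 : c * (tb : Qt b) * c⁻¹ ∈ (T : Subgroup (Qt b)) := by
      rw [← hc]; exact ⟨_, hR (mem_zpowers _), rfl⟩
    rw [hTbar] at h1
    obtain ⟨y, hy, hyA, ey⟩ := mem_bar.1 h1
    have hsq : (tb : Qt b) * tb = 1 := by
      have h2 : (c * (tb : Qt b) * c⁻¹) * (c * tb * c⁻¹) = 1 := by
        rw [← ey, ← map_mul]
        exact (congrArg (qk b) (Subtype.ext (C.swap.A_sq hyA))).trans (map_one _)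
      rw [show (c * (tb : Qt b) * c⁻¹) * (c * tb * c⁻¹) = c * (tb * tb) * c⁻¹ by group] at h2
      exact conj_eq_one_iff.1 h2
    refine ⟨t, ht, hte ▸ tb.2, ?_, ?_⟩
    · refine hinj (mul_mem (mul_mem ht hkK) (inv_mem ht)) (inv_mem hkK) ?_
      rw [show (⟨t * k * t⁻¹, _⟩ : centralizer ({b} : Set G)) = ⟨t, ht⟩ * ⟨k, hkK⟩ * ⟨t, ht⟩⁻¹ from rfl,
        show (⟨k⁻¹, _⟩ : centralizer ({b} : Set G)) = ⟨k, hkK⟩⁻¹ from rfl, map_mul, map_mul, map_inv, map_inv,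
        show qk b ⟨t, ht⟩ = tb from hte]
      exact congrArg Subtype.val htb
    · refine hinj (mul_mem ht ht) (one_mem _) ?_
      rw [show (⟨t * t, _⟩ : centralizer ({b} : Set G)) = ⟨t, ht⟩ * ⟨t, ht⟩ from rfl, map_mul,
        show qk b ⟨t, ht⟩ = tb from hte, hsq]
      exact (map_one _).symm
  have hkne : k⁻¹ ≠ k := fun e => hk1 (eq_one_of_three hk3 (by
    nth_rewrite 1 [← e]; exact inv_mul_cancel k))
  have ht1 : t ≠ 1 := fun e => hkne (by rw [← htinv, e, one_mul, inv_one, mul_one])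
  -- `t` is conjugate to `z₀` by an element commuting with `U`
  obtain ⟨l, hlU, hlt⟩ : ∃ l, (∀ v ∈ U, Commute l v) ∧ l * z₀ * l⁻¹ = t := by
    have hto : orderOf (⟨_, htL⟩ : L) = 2 := orderOf_involution (Subtype.ext (by
      show qk b _ * qk b _ = 1
      rw [← map_mul]
      exact (congrArg (qk b) (Subtype.ext ht2)).trans (map_one _)))
      fun e => ht1 (hinj htK (one_mem _) ((congrArg Subtype.val e).trans (map_one _).symm))
    obtain ⟨lb, -, hlb⟩ := K.exists_conj_L hv₀ hto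
    obtain ⟨⟨l, hl⟩, hle⟩ := QuotientGroup.mk'_surjective _ (lb : Qt b)
    refine ⟨l, hLU hl (hle ▸ lb.2), hinj (mul_mem (mul_mem hl (hzK hz₀)) (inv_mem hl)) htK ?_⟩
    rw [show (⟨l * z₀ * l⁻¹, _⟩ : centralizer ({b} : Set G)) = ⟨l, hl⟩ * ⟨z₀, hzK hz₀⟩ * ⟨l, hl⟩⁻¹ from rfl,
      map_mul, map_mul, map_inv, show qk b ⟨l, hl⟩ = lb from hle]
    exact congrArg Subtype.val hlb
  have htU : ∀ v ∈ U, Commute t v := hLU htK htL
  exact ⟨t, htinv, ht2, hkne, htU, l, hlU, z₀, hz₀, hz₀1, hlt⟩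

/-- `U` is a Sylow subgroup of the centralizer of the rotation -/
theorem rot_sylow (hB : ¬ C.swap.Moved) (hW : C.W = ⊥) (h : C.swap.Split b L U) {k : G}
    (hk : C.Rot b L U k) :
    ∀ R : Subgroup G, IsPGroup 2 R → R ≤ centralizer ({k} : Set G) → U ≤ R → R ≤ U := by
  classical
  haveI : Fact (Nat.Prime 2) := ⟨Nat.prime_two⟩
  haveI : Fact (Nat.Prime 3) := ⟨Nat.prime_three⟩
  obtain ⟨z₀, hz₀, hz₀1⟩ := C.exists_Z_ne_one
  have hb' := h.a_mem
  have hbZ' := h.a_not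
  have hvS : ∀ {v}, v ∈ U → v ∈ (C.S : Subgroup G) := fun hv => C.U_mem_S h hv
  have hUZ' : ∀ {x v : G}, x ∈ C.A → v ∈ U → v ≠ 1 → Commute x v → x ∈ C.Z := fun {x v} hx hv => C.U_cent_A h hx hv
  have hconjZ : ∀ {n}, n ∈ normalizer ((C.S : Subgroup G) : Set G) → ∀ {v}, v ∈ C.Z → n * v * n⁻¹ ∈ C.Z :=
    fun {n} hn {v} hv => C.normalizer_S_conj_Z hn hv
  have hk3 := hk.cube
  have hk1 := hk.ne_one
  have hkS := hk.mem_S
  have hkA := C.normalizer_S_le hkS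
  have hkK := hk.mem_cent
  have hkL := hk.mem_L hkK
  have hkU := hk.comm
  have hkfix := hk.fpf
  have hkZ : ∀ z ∈ C.Z, k * z * k⁻¹ = z → z = 1 := fun z hz => hkfix z (C.Z_le_A hz)
  have hinj : ∀ {x y : G} (hx : x ∈ centralizer ({b} : Set G)) (hy : y ∈ centralizer ({b} : Set G)),
      qk b ⟨x, hx⟩ = qk b ⟨y, hy⟩ → x = y := fun {x y} hx hy => C.side_inj hW hb' hx hy
  haveI := h.simple
  have hLU : ∀ {x : G} (hx : x ∈ centralizer ({b} : Set G)), qk b ⟨x, hx⟩ ∈ L → ∀ v ∈ U, Commute x v :=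
    fun {x} hx hl => C.U_commute hW h hx hl
  have hUK : ∀ {v}, v ∈ U → v ∈ centralizer ({b} : Set G) := fun hv => C.U_mem_cent h hv
  have hZN := C.cent_Z_S hW
  have hCB : ∀ x ∈ centralizer (C.swap.A : Set G), x ∈ C.swap.A := fun x hx => C.cent_B_mem hW hx
  -- two-elements normalising `U` centralise it
  have hnorm : ∀ x : G, IsPGroup 2 (zpowers x) → x ∈ normalizer (U : Set G) → ∀ v ∈ U, Commute x v := by
    intro x hx hxU v hv
    obtain ⟨c, hc⟩ := C.exists_conj_le (hx.to_sup_of_normal_right' (C.swap.isPGroup_of_le_S (fun y hy => hvS hy))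
      (zpowers_le.2 hxU))
    have hxS := hc (conj_mem_conjS (g := c) (mem_sup_left (mem_zpowers x)))
    have hv' : ∀ y ∈ U, c * y * c⁻¹ ∈ (C.S : Subgroup G) := fun y hy => hc (conj_mem_conjS (mem_sup_right hy))
    obtain ⟨w, hw, ew⟩ := C.commutator_mem_Z hxS (hv' v hv)
    have hd : w = c * (v⁻¹ * (x⁻¹ * v * x⁻¹⁻¹))⁻¹⁻¹ * c⁻¹ ∨ True := Or.inr trivial
    have hw' : w = c * (x⁻¹ * (v⁻¹ * x * v⁻¹⁻¹)) * c⁻¹ := by
      have : w = (c * v * c⁻¹ * (c * x * c⁻¹))⁻¹ * (c * x * c⁻¹ * (c * v * c⁻¹)) := by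
        rw [ew, inv_mul_cancel_left]
      rw [this]; group
    have hy : x⁻¹ * (v⁻¹ * x * v⁻¹⁻¹) ∈ U := by
      rw [show x⁻¹ * (v⁻¹ * x * v⁻¹⁻¹) = (x⁻¹ * v⁻¹ * x⁻¹⁻¹) * v by group]
      exact mul_mem (cj_mem (inv_mem hxU) (inv_mem hv)) hv
    set y := x⁻¹ * (v⁻¹ * x * v⁻¹⁻¹)
    have hy1 : y = 1 := by
      by_contra hy1
      exact C.unfused_B hB (C.swap_A ▸ h.U_le hy) (fun hz => hy1 (h.U_Z y hy (C.swap_Z.symm ▸ hz))) c
        (hw' ▸ hw)
    have e := inv_mul_eq_one.1 hy1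
    rw [inv_inv] at e
    exact (show x * v = v * x from calc
      x * v = v * (v⁻¹ * x * v) := by group
      _ = v * x := by rw [← e])
  intro R hR hRk hUR x hx
  by_contra hxU
  -- a normaliser element outside `U`
  obtain ⟨y, hy, hyR, hyU⟩ : ∃ y, y ∈ normalizer (U : Set G) ∧ y ∈ R ∧ y ∉ U := by
    have hlt : U.subgroupOf R < ⊤ := lt_top_iff_ne_top.2 fun e => hxU (mem_subgroupOf.1 (e ▸ mem_top (⟨x, hx⟩ : R)))
    haveI : Group.IsNilpotent R := hR.isNilpotent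
    obtain ⟨⟨y, hy⟩, hyN, hyU⟩ := SetLike.exists_of_lt (Group.normalizerCondition_of_isNilpotent _ hlt)
    refine ⟨y, ZStarApps.mem_normalizer_of_maps fun v hv => ?_, hy, fun hh => hyU (mem_subgroupOf.2 hh)⟩
    exact mem_subgroupOf.1 ((mem_normalizer_iff.1 hyN ⟨v, hUR hv⟩).1 (mem_subgroupOf.2 hv))
  have hyp : IsPGroup 2 (zpowers y) := hR.to_le (zpowers_le.2 hyR)
  have hyv := hnorm y hyp hy
  have hyk : Commute y k := mem_centralizer_singleton_iff.1 (hRk hyR)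
  have hyb : y ∈ centralizer ({b} : Set G) := mem_centralizer_singleton_iff.2 (hyv b h.mem_self).eq
  -- into a conjugate of `B`
  obtain ⟨T, hTbar, -⟩ := C.swap.exists_sylow_bar hB hb' hbZ'
  have hyq : IsPGroup 2 (zpowers (qk b ⟨y, hyb⟩)) := by
    rw [← MonoidHom.map_zpowers]
    exact (hyp.comap_of_injective (centralizer ({b} : Set G)).subtype (Subgroup.subtype_injective _) |>.to_le
      (zpowers_le.2 (mem_zpowers y : y ∈ zpowers y))).map _
  obtain ⟨R', hR'⟩ := hyq.exists_le_sylow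
  obtain ⟨c, hc⟩ := MulAction.exists_smul_eq (Qt b) R' T
  have h1 : c * qk b ⟨y, hyb⟩ * c⁻¹ ∈ (T : Subgroup (Qt b)) := by
    rw [← hc]; exact ⟨_, hR' (mem_zpowers _), rfl⟩
  rw [hTbar] at h1
  obtain ⟨w, hwK, hwB, ew⟩ := mem_bar.1 h1
  obtain ⟨⟨c, hcK⟩, rfl⟩ := QuotientGroup.mk'_surjective _ c
  have ew' : c * y * c⁻¹ = w := hinj (mul_mem (mul_mem hcK hyb) (inv_mem hcK)) hwK (by rw [ew]; rfl)
  obtain ⟨v, hv, z, hz, rfl⟩ := h.sup w hwB
  rw [C.swap_Z] at hz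
  -- `c` normalises `U`
  have hcU : ∀ {d : G}, d ∈ centralizer ({b} : Set G) → ∀ v ∈ U, d * v * d⁻¹ ∈ U := by
    intro d hd v hv
    obtain ⟨w', hw'K, hw', e⟩ := mem_bar.1 (h.U_normal.conj_mem _ (mem_bar.2 ⟨v, hUK hv, hv, rfl⟩)
      (qk b ⟨d, hd⟩))
    rwa [hinj (mul_mem (mul_mem hd (hUK hv)) (inv_mem hd)) hw'K (by rw [e]; rfl)]
  have hz1 : z ≠ 1 := by
    rintro rfl
    apply hyU
    rw [mul_one] at ew'
    rw [show y = c⁻¹ * v * c⁻¹⁻¹ by rw [← ew']; group]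
    exact hcU (inv_mem hcK) v hv
  set k' := c * k * c⁻¹ with hk'
  have hk'U : ∀ u ∈ U, Commute k' u := fun u hu => by
    have := commute_conj (g := c) (hkU _ (hcU (inv_mem hcK) u hu))
    rwa [show c * (c⁻¹ * u * c⁻¹⁻¹) * c⁻¹ = u by group] at this
  have hk'z : Commute k' z := by
    have h2 : Commute k' (v * z) := ew' ▸ commute_conj (g := c) hyk.symm
    have h3 := ((hk'U v hv).inv_right).mul_right h2
    rwa [inv_mul_cancel_left] at h3
  have hk'S := hZN z hz hz1 (mem_centralizer_singleton_iff.2 hk'z.eq)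
  have hk'3 : k' ^ 3 = 1 := by
    rw [hk', show c * k * c⁻¹ = MulAut.conj c k from rfl, ← map_pow, hk3, map_one]
  have hk'Z : ∀ p ∈ C.Z, Commute k' p := fun p hp => mul_inv_eq_iff_eq_mul.1
    (C.fix_Z_of_odd hk'S ((show Odd 3 by decide).of_dvd_nat (orderOf_dvd_of_pow_eq_one hk'3)) hz hz1
      (by rw [hk'z.eq, mul_inv_cancel_right]) hp)
  have hk'B : k' ∈ C.swap.A := hCB k' (mem_centralizer_iff.2 fun q hq => by
    obtain ⟨u, hu, p, hp, rfl⟩ := h.sup q hq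
    rw [C.swap_Z] at hp
    exact ((hk'U u hu).mul_right (hk'Z p hp)).eq.symm)
  exact hk1 (conj_eq_one_iff.1 (eq_one_of_three hk'3 (C.swap.A_sq hk'B)))

end Cfsg.Lib.LFourType.Coord
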