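import Cfsg.Agent.LFourType.CaseTwoBase

/-!
The rotation of order three in the centralizer of an involution of the other side, and its normalizer.
-/

set_option autoImplicit false
set_option linter.unusedSectionVars false
set_option linter.style.haveILetI false
set_option maxHeartbeats 1000000

namespace Cfsg.Lib.LFourType.Coord

open Subgroup
open Cfsg.Lib.Walter (Qt bar Oc mem_Oc odd_ker_qm CoreFree)

universe u

/-- the projection onto `C(a)/O(C(a))` -/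
local notation "qk" => Cfsg.Lib.Walter.qm

variable {G : Type u} [Group G] [Finite G] (C : Coord G)

variable {b : G} {L : Subgroup (Qt b)} {U : Subgroup G}

/-- the properties of the rotation -/
structure Rot (b : G) (L : Subgroup (Qt b)) (U : Subgroup G) (k : G) : Prop where
  cube : k ^ 3 = 1
  ne_one : k ≠ 1
  mem_S : k ∈ normalizer ((C.S : Subgroup G) : Set G)
  mem_cent : k ∈ centralizer ({b} : Set G)
  mem_L : ∀ h : k ∈ centralizer ({b} : Set G), qk b ⟨k, h⟩ ∈ L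
  comm : ∀ v ∈ U, Commute k v
  fpf : ∀ a ∈ C.A, k * a * k⁻¹ = a → a = 1

theorem exists_rot (hB : ¬ C.swap.Moved) (hW : C.W = ⊥) (h : C.swap.Split b L U) : ∃ k, C.Rot b L U k := by
  classical
  haveI : Fact (Nat.Prime 2) := ⟨Nat.prime_two⟩
  haveI : Fact (Nat.Prime 3) := ⟨Nat.prime_three⟩
  obtain ⟨z₀, hz₀, hz₀1⟩ := C.exists_Z_ne_one
  have hb' := h.a_mem
  have hbZ' := h.a_not
  have hvS : ∀ {v}, v ∈ U → v ∈ (C.S : Subgroup G) := fun hv => C.U_mem_S h hv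
  have hUZ' : ∀ {x v : G}, x ∈ C.A → v ∈ U → v ≠ 1 → Commute x v → x ∈ C.Z := fun {x v} hx hv => C.U_cent_A h hx hv
  have hconjZ : ∀ {n}, n ∈ normalizer ((C.S : Subgroup G) : Set G) → ∀ {v}, v ∈ C.Z → n * v * n⁻¹ ∈ C.Z :=
    fun {n} hn {v} hv => C.normalizer_S_conj_Z hn hv
  have hNB := C.normalizer_B_le_S hB hW
  have hCB : ∀ x ∈ centralizer (C.swap.A : Set G), x ∈ C.swap.A := fun x hx => C.cent_B_mem hW hx
  obtain ⟨r, hrB, hrK, hrL, hrU, hrZ⟩ := h.rot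
  rw [C.swap_Z] at hrZ
  have hrS := hNB hrB
  have hr3Z : ∀ z ∈ C.Z, r ^ 3 * z * (r ^ 3)⁻¹ = z := by
    intro z hz
    by_cases hz1 : z = 1
    · simp [hz1]
    set z' := r * z * r⁻¹ with hz'd
    set w := r * z' * r⁻¹ with hwd
    have hz' : z' ∈ C.Z := hconjZ hrS hz
    have hwZ : w ∈ C.Z := hconjZ hrS hz'
    have hz'1 : z' ≠ 1 := fun e => hz1 (conj_eq_one_iff.1 e)
    have hne : z' ≠ z := fun e => hz1 (hrZ z hz e)
    have hcl : ∀ v ∈ C.Z, ∀ v' ∈ C.Z, v * v' = v' * v := fun v hv v' hv' =>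
      (C.A_comm (C.Z_le_A hv) (C.Z_le_A hv')).eq
    have hwne : w ≠ z := by
      intro e
      have h1 : r * (z * z') * r⁻¹ = z * z' := by
        rw [show r * (z * z') * r⁻¹ = (r * z * r⁻¹) * (r * z' * r⁻¹) by group, ← hz'd, ← hwd, e, hcl _ hz' _ hz]
      exact hne (mul_left_cancel ((hrZ _ (mul_mem hz hz') h1).trans (C.A_sq (C.Z_le_A hz)).symm))
    have hw : w = z * z' := C.Z_fourth hz hz' hwZ hz1 hz'1 hne.symm (fun e => hz'1 (conj_eq_one_iff.1 e)) hwne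
      (fun e => hz'1 (hrZ z' hz' e))
    calc r ^ 3 * z * (r ^ 3)⁻¹ = r * w * r⁻¹ := by rw [hwd, hz'd]; simp only [pow_succ, pow_zero, one_mul]; group
      _ = (r * z * r⁻¹) * (r * z' * r⁻¹) := by rw [hw]; group
      _ = z := by
        rw [← hz'd, ← hwd, hw, hcl _ hz _ hz', ← mul_assoc, C.A_sq (C.Z_le_A hz'), one_mul]
  have hpowU : ∀ (n : ℕ), ∀ v ∈ U, Commute (r ^ n) v := fun n v hv =>
    (show Commute r v from mul_inv_eq_iff_eq_mul.1 (hrU v hv)).pow_left n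
  have hr6 : r ^ 6 = 1 := by
    have h3 : r ^ 3 ∈ C.swap.A := hCB _ (mem_centralizer_iff.2 fun x hx => by
      obtain ⟨v, hv, z, hz, rfl⟩ := h.sup x hx
      rw [C.swap_Z] at hz
      exact (((hpowU 3 v hv).mul_right (show Commute (r ^ 3) z from
        mul_inv_eq_iff_eq_mul.1 (hr3Z z hz))).eq).symm)
    rw [show 6 = 3 + 3 from rfl, pow_add]
    exact C.swap.A_sq h3
  set k := r ^ 4 with hkd
  have hk3 : k ^ 3 = 1 := by rw [hkd, ← pow_mul, show 4 * 3 = 6 * 2 from rfl, pow_mul, hr6, one_pow]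
  have hkS : k ∈ normalizer ((C.S : Subgroup G) : Set G) := pow_mem hrS 4
  have hkA := C.normalizer_S_le hkS
  have hkK : k ∈ centralizer ({b} : Set G) := pow_mem hrK 4
  have hkL : qk b ⟨k, hkK⟩ ∈ L := by
    rw [show (⟨k, hkK⟩ : centralizer ({b} : Set G)) = ⟨r, hrK⟩ ^ 4 from rfl, map_pow]
    exact pow_mem hrL 4
  have hkU : ∀ v ∈ U, Commute k v := hpowU 4
  have hkZ : ∀ z ∈ C.Z, k * z * k⁻¹ = z → z = 1 := fun z hz e => by
    refine hrZ z hz ?_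
    have h4 : r ^ 4 * z * (r ^ 4)⁻¹ = r * (r ^ 3 * z * (r ^ 3)⁻¹) * r⁻¹ := by group
    rw [← hkd, hr3Z z hz] at h4
    rw [← h4]
    exact e
  have hk1 : k ≠ 1 := fun e => hz₀1 (hkZ z₀ hz₀ (by simp [e]))
  have hkfix : ∀ a ∈ C.A, k * a * k⁻¹ = a → a = 1 := by
    intro a ha e
    have hb1 : b ≠ 1 := fun e' => hbZ' (e' ▸ one_mem _)
    obtain ⟨w, hw, ew⟩ := C.commutator_mem_Z (C.A_le ha) (hvS h.mem_self)
    have hwfix : k * w * k⁻¹ = w := by
      have hkb := hkU b h.mem_self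
      have hka : Commute k a := mul_inv_eq_iff_eq_mul.1 e
      have hw' : w = (b * a)⁻¹ * (a * b) := by rw [ew, inv_mul_cancel_left]
      rw [hw']
      have : Commute k ((b * a)⁻¹ * (a * b)) := ((hkb.mul_right hka).inv_right).mul_right (hka.mul_right hkb)
      rw [this.eq, mul_inv_cancel_right]
    have hab : Commute a b := by
      rw [hkZ w hw hwfix, mul_one] at ew
      exact ew
    exact hkZ a (hUZ' ha h.mem_self hb1 hab) e
  exact ⟨k, hk3, hk1, hkS, hkK, fun _ => hkL, hkU, hkfix⟩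

/-- the rotation fixes every conjugate of the centre -/
theorem rot_line (hW : C.W = ⊥) (h : C.swap.Split b L U) {k : G} (hk : C.Rot b L U k) :
    ∀ n ∈ normalizer (C.A : Set G), ∀ w ∈ C.Z, n⁻¹ * (k * (n * w * n⁻¹) * k⁻¹) * n ∈ C.Z := by
  classical
  haveI : Fact (Nat.Prime 2) := ⟨Nat.prime_two⟩
  haveI : Fact (Nat.Prime 3) := ⟨Nat.prime_three⟩
  obtain ⟨z₀, hz₀, hz₀1⟩ := C.exists_Z_ne_one
  have hb' := h.a_mem
  have hbZ' := h.a_not
  have hvS : ∀ {v}, v ∈ U → v ∈ (C.S : Subgroup G) := fun hv => C.U_mem_S h hv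
  have hUZ' : ∀ {x v : G}, x ∈ C.A → v ∈ U → v ≠ 1 → Commute x v → x ∈ C.Z := fun {x v} hx hv => C.U_cent_A h hx hv
  have hconjZ : ∀ {n}, n ∈ normalizer ((C.S : Subgroup G) : Set G) → ∀ {v}, v ∈ C.Z → n * v * n⁻¹ ∈ C.Z :=
    fun {n} hn {v} hv => C.normalizer_S_conj_Z hn hv
  have hline : ∀ n ∈ normalizer (C.A : Set G), ∀ w ∈ C.Z, w ≠ 1 → n⁻¹ * w * n ∈ C.Z →
      n ∈ normalizer ((C.S : Subgroup G) : Set G) := fun n hn w hw => C.line_of_mem hW hn hw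
  have hstab : ∀ n ∈ normalizer (C.A : Set G), ∀ v ∈ U, v ≠ 1 →
      (∀ w ∈ C.Z, n⁻¹ * (v * (n * w * n⁻¹) * v⁻¹) * n ∈ C.Z) → n ∈ normalizer ((C.S : Subgroup G) : Set G) :=
    fun n hn v hv => C.line_stab hW h hn hv
  have hk3 := hk.cube
  have hk1 := hk.ne_one
  have hkS := hk.mem_S
  have hkA := C.normalizer_S_le hkS
  have hkK := hk.mem_cent
  have hkL := hk.mem_L hkK
  have hkU := hk.comm
  have hkfix := hk.fpf
  have hkZ : ∀ z ∈ C.Z, k * z * k⁻¹ = z → z = 1 := fun z hz => hkfix z (C.Z_le_A hz)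
  intro n hn
  by_cases hnS : n ∈ normalizer ((C.S : Subgroup G) : Set G)
  · intro w hw
    have := hconjZ (mul_mem (mul_mem (inv_mem hnS) hkS) hnS) hw
    rwa [show n⁻¹ * (k * (n * w * n⁻¹) * k⁻¹) * n = n⁻¹ * k * n * w * (n⁻¹ * k * n)⁻¹ by group]
  have hUA : ∀ {v}, v ∈ U → v ∈ normalizer (C.A : Set G) := fun hv => C.S_le_normalizer_A (hvS hv)
  -- the four translates of the line
  let α := U × {w : C.Z // w ≠ 1}
  let f : α → {a : C.A // (a : G) ∉ C.Z} := fun p =>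
    ⟨⟨p.1 * (n * (p.2.1 : G) * n⁻¹) * (p.1 : G)⁻¹, cj_mem (hUA p.1.2) (cj_mem hn (C.Z_le_A p.2.1.2))⟩,
      fun hmem => hnS (hline n hn (n * (p.2.1 : G) * n⁻¹)
        (by
          have := hconjZ (le_normalizer (inv_mem (hvS p.1.2))) hmem
          rwa [show (p.1 : G)⁻¹ * (p.1 * (n * (p.2.1 : G) * n⁻¹) * (p.1 : G)⁻¹) * (p.1 : G)⁻¹⁻¹ =
            n * (p.2.1 : G) * n⁻¹ by group] at this)
        (fun e => p.2.2 (Subtype.ext (conj_eq_one_iff.1 e)))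
        (by rw [show n⁻¹ * (n * (p.2.1 : G) * n⁻¹) * n = p.2.1 by group]; exact p.2.1.2))⟩
  have hinjf : Function.Injective f := by
    intro p q e
    have e' : (p.1 : G) * (n * (p.2.1 : G) * n⁻¹) * (p.1 : G)⁻¹ = q.1 * (n * (q.2.1 : G) * n⁻¹) * (q.1 : G)⁻¹ :=
      congrArg (fun a : {a : C.A // (a : G) ∉ C.Z} => ((a : C.A) : G)) e
    set v := (q.1 : G)⁻¹ * p.1 with hvd
    by_cases hv1 : v = 1
    · have h12 : q.1 = p.1 := Subtype.ext (inv_mul_eq_one.1 hv1)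
      rw [h12] at e'
      exact Prod.ext h12.symm (Subtype.ext (Subtype.ext (mul_left_cancel (mul_right_cancel
        (mul_left_cancel (mul_right_cancel e'))))))
    · exfalso
      set m := n⁻¹ * v * n with hm
      have hmN : m ∈ normalizer (C.A : Set G) :=
        mul_mem (mul_mem (inv_mem hn) (hUA (mul_mem (inv_mem q.1.2) p.1.2))) hn
      have hm' : m * (p.2.1 : G) * m⁻¹ = q.2.1 := by
        rw [hm, hvd]
        calc _ = n⁻¹ * (q.1 : G)⁻¹ * (p.1 * (n * (p.2.1 : G) * n⁻¹) * (p.1 : G)⁻¹) * q.1 * n := by group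
          _ = q.2.1 := by rw [e']; group
      have hmS := hline m hmN _ q.2.1.2 (fun e => q.2.2 (Subtype.ext e)) (by
        rw [← hm', show m⁻¹ * (m * (p.2.1 : G) * m⁻¹) * m = p.2.1 by group]; exact p.2.1.2)
      refine hnS (hstab n hn v (mul_mem (inv_mem q.1.2) p.1.2) hv1 fun w hw => ?_)
      rw [show n⁻¹ * (v * (n * w * n⁻¹) * v⁻¹) * n = m * w * m⁻¹ by rw [hm]; group]
      exact hconjZ hmS hw
  have hcard : Nat.card α = Nat.card {a : C.A // (a : G) ∉ C.Z} := by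
    haveI := Fintype.ofFinite C.A
    haveI := Fintype.ofFinite C.Z
    have hA : Fintype.card C.A = 16 := by rw [← Nat.card_eq_fintype_card]; exact C.card_A
    have hZ : Fintype.card C.Z = 4 := by rw [← Nat.card_eq_fintype_card]; exact C.card_Z
    have h1 : Nat.card {w : C.Z // w ≠ 1} = 3 := by
      rw [Nat.card_eq_fintype_card, Fintype.card_subtype_compl, Fintype.card_subtype_eq, hZ]
    have h2 : Fintype.card {x : C.A // (x : G) ∈ C.Z} = 4 := by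
      rw [← Nat.card_eq_fintype_card]
      exact (Nat.card_congr (Subgroup.subgroupOfEquivOfLe C.Z_le_A).toEquiv).trans C.card_Z
    rw [Nat.card_prod, h.card, h1, Nat.card_eq_fintype_card, Fintype.card_subtype_compl, hA, h2]
  obtain ⟨-, hsurj⟩ := (Nat.bijective_iff_injective_and_card f).2 ⟨hinjf, hcard⟩
  intro w hw
  by_cases hw1 : w = 1
  · simp [hw1, one_mem]
  have hknA : k * (n * w * n⁻¹) * k⁻¹ ∈ C.A := cj_mem hkA (cj_mem hn (C.Z_le_A hw))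
  have hknZ : k * (n * w * n⁻¹) * k⁻¹ ∉ C.Z := fun hmem => by
    have h1 := hconjZ (inv_mem hkS) hmem
    rw [show k⁻¹ * (k * (n * w * n⁻¹) * k⁻¹) * k⁻¹⁻¹ = n * w * n⁻¹ by group] at h1
    exact hnS (hline n hn _ h1 (fun e => hw1 (conj_eq_one_iff.1 e))
      (by rwa [show n⁻¹ * (n * w * n⁻¹) * n = w by group]))
  obtain ⟨⟨v, w'⟩, hp⟩ := hsurj ⟨⟨_, hknA⟩, hknZ⟩
  have e : (v : G) * (n * (w'.1 : G) * n⁻¹) * (v : G)⁻¹ = k * (n * w * n⁻¹) * k⁻¹ :=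
    congrArg (fun a : {a : C.A // (a : G) ∉ C.Z} => ((a : C.A) : G)) hp
  set m := n⁻¹ * ((v : G)⁻¹ * k) * n with hm
  have hmN : m ∈ normalizer (C.A : Set G) :=
    mul_mem (mul_mem (inv_mem hn) (mul_mem (inv_mem (hUA v.2)) hkA)) hn
  have hmw : m * w * m⁻¹ = w'.1 := by
    rw [hm]
    calc _ = n⁻¹ * (v : G)⁻¹ * (k * (n * w * n⁻¹) * k⁻¹) * v * n := by group
      _ = w'.1 := by rw [← e]; group
  have hmS : m ∈ normalizer ((C.S : Subgroup G) : Set G) :=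
    hline m hmN _ w'.1.2 (fun e => w'.2 (Subtype.ext e)) (by
      rwa [← hmw, show m⁻¹ * (m * w * m⁻¹) * m = w by group])
  have hvk : Commute (v : G)⁻¹ k := (hkU v v.2).symm.inv_left
  have hv : (v : G) = 1 := by
    by_contra hv1
    refine hnS (hstab n hn (v : G)⁻¹ (inv_mem v.2) (inv_ne_one.2 hv1) fun x hx => ?_)
    have h3 := hconjZ (pow_mem hmS 3) hx
    have e3 : ((v : G)⁻¹ * k) ^ 3 = (v : G)⁻¹ := by
      rw [hvk.mul_pow, hk3, mul_one, pow_succ, pow_two, ← mul_inv_rev, C.swap.A_sq (h.U_le v.2), inv_one,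
        one_mul]
    rwa [hm, show n⁻¹ * ((v : G)⁻¹ * k) * n = MulAut.conj n⁻¹ ((v : G)⁻¹ * k) by simp, ← map_pow, e3,
      MulAut.conj_apply, inv_inv, show n⁻¹ * (v : G)⁻¹ * n * x * (n⁻¹ * (v : G)⁻¹ * n)⁻¹ =
        n⁻¹ * ((v : G)⁻¹ * (n * x * n⁻¹) * (v : G)⁻¹⁻¹) * n by group] at h3
  rw [hv] at e
  rw [← e, show n⁻¹ * (1 * (n * (w'.1 : G) * n⁻¹) * (1 : G)⁻¹) * n = w'.1 by group]
  exact w'.1.2

theorem exists_moving (hM : C.Moved) (hW : C.W = ⊥) (h : C.swap.Split b L U) {k : G} (hk : C.Rot b L U k) :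
    ∃ g, g ∈ normalizer (C.A : Set G) ∧ g ∈ normalizer (zpowers k : Set G) ∧
      g ∉ normalizer ((C.S : Subgroup G) : Set G) := by
  classical
  haveI : Fact (Nat.Prime 2) := ⟨Nat.prime_two⟩
  haveI : Fact (Nat.Prime 3) := ⟨Nat.prime_three⟩
  obtain ⟨z₀, hz₀, hz₀1⟩ := C.exists_Z_ne_one
  have hb' := h.a_mem
  have hbZ' := h.a_not
  have hvS : ∀ {v}, v ∈ U → v ∈ (C.S : Subgroup G) := fun hv => C.U_mem_S h hv
  have hUZ' : ∀ {x v : G}, x ∈ C.A → v ∈ U → v ≠ 1 → Commute x v → x ∈ C.Z := fun {x v} hx hv => C.U_cent_A h hx hv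
  have hconjZ : ∀ {n}, n ∈ normalizer ((C.S : Subgroup G) : Set G) → ∀ {v}, v ∈ C.Z → n * v * n⁻¹ ∈ C.Z :=
    fun {n} hn {v} hv => C.normalizer_S_conj_Z hn hv
  have hline : ∀ n ∈ normalizer (C.A : Set G), ∀ w ∈ C.Z, w ≠ 1 → n⁻¹ * w * n ∈ C.Z →
      n ∈ normalizer ((C.S : Subgroup G) : Set G) := fun n hn w hw => C.line_of_mem hW hn hw
  have hstab : ∀ n ∈ normalizer (C.A : Set G), ∀ v ∈ U, v ≠ 1 →
      (∀ w ∈ C.Z, n⁻¹ * (v * (n * w * n⁻¹) * v⁻¹) * n ∈ C.Z) → n ∈ normalizer ((C.S : Subgroup G) : Set G) :=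
    fun n hn v hv => C.line_stab hW h hn hv
  have hk3 := hk.cube
  have hk1 := hk.ne_one
  have hkS := hk.mem_S
  have hkA := C.normalizer_S_le hkS
  have hkK := hk.mem_cent
  have hkL := hk.mem_L hkK
  have hkU := hk.comm
  have hkfix := hk.fpf
  have hkZ : ∀ z ∈ C.Z, k * z * k⁻¹ = z → z = 1 := fun z hz => hkfix z (C.Z_le_A hz)
  have hkline := C.rot_line hW h hk
  have hCA : ∀ x ∈ centralizer (C.A : Set G), x ∈ C.A := fun x hx => C.cent_A_mem hW hx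
  obtain ⟨n, hn, w, hw, hout⟩ := hM
  have hnS : n ∉ normalizer ((C.S : Subgroup G) : Set G) := fun hh => hout (hconjZ hh hw)
  set x := n⁻¹ * k * n with hxd
  have hxA : x ∈ normalizer (C.A : Set G) := mul_mem (mul_mem (inv_mem hn) hkA) hn
  have hxS : x ∈ normalizer ((C.S : Subgroup G) : Set G) := by
    have h1 := hkline n hn z₀ hz₀
    rw [show n⁻¹ * (k * (n * z₀ * n⁻¹) * k⁻¹) * n = x * z₀ * x⁻¹ by rw [hxd]; group] at h1
    exact hline x hxA _ h1 (fun e => hz₀1 (conj_eq_one_iff.1 e))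
      (by rwa [show x⁻¹ * (x * z₀ * x⁻¹) * x = z₀ by group])
  have hx3 : x ^ 3 = 1 := by
    rw [hxd, show n⁻¹ * k * n = MulAut.conj n⁻¹ k by simp, ← map_pow, hk3, map_one]
  -- what fixes `Z` and normalises the line of `n` is in `A`
  have hfixA : ∀ y ∈ normalizer (C.A : Set G), (∀ z ∈ C.Z, y * z * y⁻¹ = z) →
      (∀ z ∈ C.Z, n⁻¹ * (y * (n * z * n⁻¹) * y⁻¹) * n ∈ C.Z) →
      (∀ v ∈ U, ∀ z ∈ C.Z, n⁻¹ * (v⁻¹ * (y * (v * (n * z * n⁻¹) * v⁻¹) * y⁻¹) * v) * n ∈ C.Z) → y ∈ C.A := by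
    intro y hy hyZ hyn hyu
    have hb1 : b ≠ 1 := fun e' => hbZ' (e' ▸ one_mem _)
    have hdis : ∀ p ∈ C.Z, n⁻¹ * p * n ∈ C.Z → p = 1 := fun p hp hp' => by
      by_contra h1
      exact hnS (hline n hn p hp h1 hp')
    have hline' : ∀ z ∈ C.Z, y * (n * z * n⁻¹) * y⁻¹ = n * z * n⁻¹ := by
      intro z hz
      set p := n * z * n⁻¹
      set p' := y * p * y⁻¹
      obtain ⟨ω, hω, eω⟩ := C.commutator_mem_Z (hvS h.mem_self) (C.A_le (cj_mem hn (C.Z_le_A hz)))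
      have hbp : b * p * b⁻¹ = p * ω := by
        rw [eω, mul_inv_eq_iff_eq_mul, mul_assoc p b ω, (C.Z_central hω (hvS h.mem_self)).symm.eq, ← mul_assoc]
      have hz' : n⁻¹ * p' * n ∈ C.Z := hyn z hz
      obtain ⟨ω', hω', eω'⟩ := C.commutator_mem_Z (hvS h.mem_self) (C.A_le (cj_mem hy (cj_mem hn (C.Z_le_A hz))))
      have hbp' : b * p' * b⁻¹ = p' * ω' := by
        rw [eω', mul_inv_eq_iff_eq_mul, mul_assoc p' b ω', (C.Z_central hω' (hvS h.mem_self)).symm.eq, ← mul_assoc]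
      -- the translate
      have h2 := hyu b h.mem_self z hz
      set q := b⁻¹ * (y * (b * p * b⁻¹) * y⁻¹) * b with hq
      have hq' : q = p' * (ω' * ω) := by
        rw [hq, hbp, show y * (p * ω) * y⁻¹ = (y * p * y⁻¹) * (y * ω * y⁻¹) by group, hyZ ω hω,
          show b⁻¹ * (y * p * y⁻¹ * ω) * b = (b⁻¹ * p' * b) * (b⁻¹ * ω * b) by simp only [p']; group]
        have hb2 : b⁻¹ = b := inv_eq_of_mul_eq_one_right (C.swap.A_sq hb')
        rw [show b⁻¹ * p' * b = b * p' * b⁻¹ by rw [hb2], hbp', show b⁻¹ * ω * b = ω by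
          rw [mul_assoc, (C.Z_central hω (hvS h.mem_self)).eq, inv_mul_cancel_left], mul_assoc]
      have h3 : n⁻¹ * (ω' * ω) * n ∈ C.Z := by
        have := mul_mem (inv_mem hz') h2
        rwa [hq', show (n⁻¹ * p' * n)⁻¹ * (n⁻¹ * (p' * (ω' * ω)) * n) = n⁻¹ * (ω' * ω) * n by group] at this
      have h4 : ω' = ω := by
        have := mul_eq_one_iff_eq_inv.1 (hdis _ (mul_mem hω' hω) h3)
        rwa [inv_eq_of_mul_eq_one_right (C.A_sq (C.Z_le_A hω))] at this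
      have h5 : Commute (p⁻¹ * p') b := by
        have : b * (p⁻¹ * p') * b⁻¹ = p⁻¹ * p' := by
          rw [show b * (p⁻¹ * p') * b⁻¹ = (b * p * b⁻¹)⁻¹ * (b * p' * b⁻¹) by group, hbp, hbp', h4, mul_inv_rev,
            (C.A_comm (inv_mem (C.Z_le_A hω)) (inv_mem (cj_mem hn (C.Z_le_A hz)))).eq, mul_assoc,
            ← mul_assoc ω⁻¹, (C.A_comm (inv_mem (C.Z_le_A hω)) (cj_mem hy (cj_mem hn (C.Z_le_A hz)))).eq,
            mul_assoc p', inv_mul_cancel, mul_one]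
        exact (mul_inv_eq_iff_eq_mul.1 this).symm
      have h6 := hUZ' (mul_mem (inv_mem (cj_mem hn (C.Z_le_A hz))) (cj_mem hy (cj_mem hn (C.Z_le_A hz))))
        h.mem_self hb1 h5
      refine (inv_mul_eq_one.1 (hdis _ h6 ?_)).symm
      rw [show n⁻¹ * (p⁻¹ * p') * n = (n⁻¹ * p * n)⁻¹ * (n⁻¹ * p' * n) by group,
        show n⁻¹ * p * n = z by simp [p, mul_assoc]]
      exact mul_mem (inv_mem hz) hz'
    -- `A` is the product of the two lines
    have hinj2 : Function.Injective (fun p : C.Z × C.Z =>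
        (⟨n * p.1 * n⁻¹ * p.2, mul_mem (cj_mem hn (C.Z_le_A p.1.2)) (C.Z_le_A p.2.2)⟩ : C.A)) := by
      intro p q e
      have e' : n * p.1 * n⁻¹ * p.2 = n * q.1 * n⁻¹ * q.2 := congrArg Subtype.val e
      have h2 : n * ((q.1 : G)⁻¹ * p.1) * n⁻¹ = (q.2 : G) * (p.2 : G)⁻¹ := by
        calc n * ((q.1 : G)⁻¹ * p.1) * n⁻¹ = (n * q.1 * n⁻¹)⁻¹ * (n * p.1 * n⁻¹ * p.2) * (p.2 : G)⁻¹ := by group
          _ = (q.2 : G) * (p.2 : G)⁻¹ := by rw [e']; group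
      have h3 := hdis _ (h2.symm ▸ mul_mem q.2.2 (inv_mem p.2.2)) (by
        rw [show n⁻¹ * (n * ((q.1 : G)⁻¹ * p.1) * n⁻¹) * n = (q.1 : G)⁻¹ * p.1 by group]
        exact mul_mem (inv_mem q.1.2) p.1.2)
      rw [h3] at h2
      have h4 : q.1 = p.1 := Subtype.ext (inv_mul_eq_one.1 (conj_eq_one_iff.1 h3))
      exact Prod.ext h4.symm (Subtype.ext (mul_inv_eq_one.1 h2.symm).symm)
    refine hCA y (mem_centralizer_iff.2 fun a ha => ?_)
    obtain ⟨⟨p, q⟩, hpq⟩ := ((Nat.bijective_iff_injective_and_card _).2 ⟨hinj2, by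
      rw [Nat.card_prod, C.card_Z, C.card_A]⟩).2 ⟨a, ha⟩
    have e : n * p * n⁻¹ * q = a := congrArg Subtype.val hpq
    have h1 : Commute y (n * p * n⁻¹) := mul_inv_eq_iff_eq_mul.1 (hline' p p.2)
    have h2 : Commute y q := mul_inv_eq_iff_eq_mul.1 (hyZ q q.2)
    rw [← e]
    exact (h1.mul_right h2).eq.symm
  have hpres : ∀ y, (∀ m ∈ normalizer (C.A : Set G), ∀ z ∈ C.Z, m⁻¹ * (y * (m * z * m⁻¹) * y⁻¹) * m ∈ C.Z) →
      y ∈ normalizer (C.A : Set G) → (∀ z ∈ C.Z, y * z * y⁻¹ = z) → y ∈ C.A := fun y hy hyA hyZ =>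
    hfixA y hyA hyZ (hy n hn) fun v hv z hz => by
      have := hy (v * n) (mul_mem (C.S_le_normalizer_A (hvS hv)) hn) z hz
      rwa [show (v * n)⁻¹ * (y * (v * n * z * (v * n)⁻¹) * y⁻¹) * (v * n) =
        n⁻¹ * (v⁻¹ * (y * (v * (n * z * n⁻¹) * v⁻¹) * y⁻¹) * v) * n by group] at this
  have hxline : ∀ m ∈ normalizer (C.A : Set G), ∀ z ∈ C.Z, m⁻¹ * (x * (m * z * m⁻¹) * x⁻¹) * m ∈ C.Z :=
    fun m hm z hz => by
      have := hkline (n * m) (mul_mem hn hm) z hz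
      rwa [show (n * m)⁻¹ * (k * (n * m * z * (n * m)⁻¹) * k⁻¹) * (n * m) =
        m⁻¹ * (x * (m * z * m⁻¹) * x⁻¹) * m by rw [hxd]; group] at this
  have hcomp : ∀ y y', (∀ m ∈ normalizer (C.A : Set G), ∀ z ∈ C.Z, m⁻¹ * (y * (m * z * m⁻¹) * y⁻¹) * m ∈ C.Z) →
      (∀ m ∈ normalizer (C.A : Set G), ∀ z ∈ C.Z, m⁻¹ * (y' * (m * z * m⁻¹) * y'⁻¹) * m ∈ C.Z) →
      ∀ m ∈ normalizer (C.A : Set G), ∀ z ∈ C.Z, m⁻¹ * (y * y' * (m * z * m⁻¹) * (y * y')⁻¹) * m ∈ C.Z :=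
    fun y y' hy hy' m hm z hz => by
      have := hy m hm _ (hy' m hm z hz)
      rwa [show m⁻¹ * (y * (m * (m⁻¹ * (y' * (m * z * m⁻¹) * y'⁻¹) * m) * m⁻¹) * y⁻¹) * m =
        m⁻¹ * (y * y' * (m * z * m⁻¹) * (y * y')⁻¹) * m by group] at this
  -- an element of order dividing three of `N(S)` fixing one central involution fixes all
  have hthree : ∀ y ∈ normalizer ((C.S : Subgroup G) : Set G), y ^ 3 = 1 → ∀ z ∈ C.Z, z ≠ 1 →
      y * z * y⁻¹ = z → ∀ z' ∈ C.Z, y * z' * y⁻¹ = z' := by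
    intro y hy hy3 z hz hz1 hfix z' hz'
    by_cases h1 : z' = 1
    · simp [h1]
    by_cases h2 : z' = z
    · rwa [h2]
    by_contra hne
    set w := y * z' * y⁻¹ with hwd
    have hw : w = z * z' := C.Z_fourth hz hz' (hconjZ hy hz') hz1 h1 (Ne.symm h2)
      (fun e => h1 (conj_eq_one_iff.1 e)) (fun e => h2 (mul_left_cancel (mul_right_cancel (e.trans hfix.symm))))
      hne
    have hw2 : y * w * y⁻¹ = z' := by
      rw [hw, show y * (z * z') * y⁻¹ = (y * z * y⁻¹) * (y * z' * y⁻¹) by group, hfix, ← hwd, hw, ← mul_assoc,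
        C.A_sq (C.Z_le_A hz), one_mul]
    apply hne
    calc y * z' * y⁻¹ = y * (y * w * y⁻¹) * y⁻¹ := by rw [hw2]
      _ = (y ^ 3) * z' * (y ^ 3)⁻¹ := by rw [hwd]; simp only [pow_succ, pow_zero, one_mul]; group
      _ = z' := by rw [hy3]; group
  have hk2 : ∀ z ∈ C.Z, z ≠ 1 → ∀ w ∈ C.Z, w ≠ 1 → w = z ∨ w = k * z * k⁻¹ ∨ w = k ^ 2 * z * (k ^ 2)⁻¹ := by
    intro z hz hz1 w hw hw1
    by_cases e1 : w = z
    · exact Or.inl e1
    by_cases e2 : w = k * z * k⁻¹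
    · exact Or.inr (Or.inl e2)
    refine Or.inr (Or.inr ?_)
    have hne1 : k * z * k⁻¹ ≠ z := fun e => hz1 (hkZ z hz e)
    have hz' := hconjZ hkS hz
    have hz'1 : k * z * k⁻¹ ≠ 1 := fun e => hz1 (conj_eq_one_iff.1 e)
    rw [C.Z_fourth hz hz' hw hz1 hz'1 (Ne.symm hne1) hw1 e1 e2]
    have hz2 := hconjZ (pow_mem hkS 2) hz
    refine (C.Z_fourth hz hz' hz2 hz1 hz'1 (Ne.symm hne1) (fun e => hz1 (conj_eq_one_iff.1 e)) (fun e => ?_)
      (fun e => ?_)).symm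
    · refine hne1 ?_
      conv_lhs => rw [← e]
      calc k * (k ^ 2 * z * (k ^ 2)⁻¹) * k⁻¹ = k ^ 3 * z * (k ^ 3)⁻¹ := by group
        _ = z := by rw [hk3]; group
    · refine hz'1 (hkZ _ hz' ?_)
      calc k * (k * z * k⁻¹) * k⁻¹ = k ^ 2 * z * (k ^ 2)⁻¹ := by simp only [pow_succ, pow_zero, one_mul]; group
        _ = k * z * k⁻¹ := e
  -- a power of `k` agrees with `x` modulo `A`
  obtain ⟨m, hxm, hm0⟩ : ∃ m, (k ^ m)⁻¹ * x ∈ C.A ∧ (m = 1 ∨ m = 2) := by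
    have hkl : ∀ j : ℕ, ∀ m ∈ normalizer (C.A : Set G), ∀ z ∈ C.Z,
        m⁻¹ * (k ^ j * (m * z * m⁻¹) * (k ^ j)⁻¹) * m ∈ C.Z := fun j => by
      induction j with
      | zero => exact fun m _ z hz => by simpa [mul_assoc] using hz
      | succ j ih => rw [pow_succ]; exact hcomp _ _ ih hkline
    have hinvk : ∀ j : ℕ, ∀ m ∈ normalizer (C.A : Set G), ∀ z ∈ C.Z,
        m⁻¹ * ((k ^ j)⁻¹ * (m * z * m⁻¹) * (k ^ j)⁻¹⁻¹) * m ∈ C.Z := fun j => by
      have e : (k ^ j)⁻¹ = k ^ (2 * j) := inv_eq_of_mul_eq_one_right (by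
        rw [← pow_add, show j + 2 * j = 3 * j by ring, pow_mul, hk3, one_pow])
      rw [e]; exact hkl _
    have hj : ∀ j : ℕ, x * z₀ * x⁻¹ = k ^ j * z₀ * (k ^ j)⁻¹ → (k ^ j)⁻¹ * x ∈ C.A := fun j ej => by
      refine hpres _ (hcomp _ _ (hinvk j) hxline) (mul_mem (inv_mem (pow_mem hkA j)) hxA) fun z hz => ?_
      -- both permute the central involutions cyclically
      set y := (k ^ j)⁻¹ * x
      have hy0 : y * z₀ * y⁻¹ = z₀ := by
        calc y * z₀ * y⁻¹ = (k ^ j)⁻¹ * (x * z₀ * x⁻¹) * k ^ j := by simp only [y]; group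
          _ = z₀ := by rw [ej]; group
      by_cases hj3 : k ^ j = 1
      · rw [show y = x by simp [y, hj3]] at hy0 ⊢
        exact hthree x hxS hx3 z₀ hz₀ hz₀1 hy0 z hz
      by_cases h1 : z = 1
      · simp [h1]
      by_cases h2 : z = z₀
      · rwa [h2]
      have hyS : y ∈ normalizer ((C.S : Subgroup G) : Set G) := mul_mem (inv_mem (pow_mem hkS j)) hxS
      by_contra hne
      have hx0 : x * z₀ * x⁻¹ ≠ z₀ := fun e => by
        have hfix : k ^ j * z₀ * (k ^ j)⁻¹ = z₀ := ej ▸ e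
        have := hthree (k ^ j) (pow_mem hkS j) (by rw [← pow_mul, mul_comm, pow_mul, hk3, one_pow]) z₀ hz₀
          hz₀1 hfix
        have hjmod : j % 3 = 1 ∨ j % 3 = 2 := by
          rcases (show j % 3 = 0 ∨ j % 3 = 1 ∨ j % 3 = 2 by omega) with e0 | e0
          · exfalso; apply hj3
            rw [← Nat.div_add_mod j 3, e0, add_zero, pow_mul, hk3, one_pow]
          · exact e0
        have e2 : k ^ j = k ^ (j % 3) := by
          conv_lhs => rw [← Nat.div_add_mod j 3, pow_add, pow_mul, hk3, one_pow, one_mul]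
        rcases hjmod with e0 | e0 <;> rw [e2, e0] at hfix
        · exact hz₀1 (hkZ z₀ hz₀ (by simpa using hfix))
        · refine hz₀1 (hkZ z₀ hz₀ ?_)
          calc k * z₀ * k⁻¹ = k * (k ^ 2 * z₀ * (k ^ 2)⁻¹) * k⁻¹ := by rw [hfix]
            _ = k ^ 3 * z₀ * (k ^ 3)⁻¹ := by group
            _ = z₀ := by rw [hk3]; group
      -- `x` and `k ^ j` are 3-cycles with the same value at `z₀`
      have hcyc : ∀ q, q ∈ normalizer ((C.S : Subgroup G) : Set G) → q ^ 3 = 1 → q * z₀ * q⁻¹ ≠ z₀ →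
          q * (q * z₀ * q⁻¹) * q⁻¹ = z₀ * (q * z₀ * q⁻¹) := by
        intro q hq hq3 hq0
        refine C.Z_fourth hz₀ (hconjZ hq hz₀) (hconjZ hq (hconjZ hq hz₀)) hz₀1
          (fun e => hz₀1 (conj_eq_one_iff.1 e)) (Ne.symm hq0)
          (fun e => hz₀1 (conj_eq_one_iff.1 (conj_eq_one_iff.1 e))) (fun e => hq0 ?_) (fun e => hq0 ?_)
        · calc q * z₀ * q⁻¹ = q * (q * (q * z₀ * q⁻¹) * q⁻¹) * q⁻¹ := by rw [e]
            _ = q ^ 3 * z₀ * (q ^ 3)⁻¹ := by simp only [pow_succ, pow_zero, one_mul]; group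
            _ = z₀ := by rw [hq3]; group
        · exact mul_left_cancel (mul_right_cancel e)
      set z1 := x * z₀ * x⁻¹ with hz1d
      have ex := hcyc x hxS hx3 hx0
      have ek := hcyc (k ^ j) (pow_mem hkS j) (by rw [← pow_mul, mul_comm, pow_mul, hk3, one_pow]) (ej ▸ hx0)
      rw [← ej] at ek
      have hy1 : y * z1 * y⁻¹ = z1 := by
        calc y * z1 * y⁻¹ = (k ^ j)⁻¹ * (x * z1 * x⁻¹) * k ^ j := by simp only [y]; group
          _ = (k ^ j)⁻¹ * (k ^ j * z1 * (k ^ j)⁻¹) * k ^ j := by rw [ex, ek]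
          _ = z1 := by group
      apply hne
      by_cases h3 : z = z1
      · rw [h3]; exact hy1
      rw [C.Z_fourth hz₀ (hconjZ hxS hz₀) hz hz₀1 (fun e => hz₀1 (conj_eq_one_iff.1 e)) (Ne.symm hx0) h1 h2 h3,
        show y * (z₀ * z1) * y⁻¹ = (y * z₀ * y⁻¹) * (y * z1 * y⁻¹) by group, hy0, hy1]
    rcases hk2 z₀ hz₀ hz₀1 _ (hconjZ hxS hz₀) (fun e => hz₀1 (conj_eq_one_iff.1 e)) with e | e | e
    · exfalso
      have h1 := hj 0 (by simpa using e)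
      rw [pow_zero, inv_one, one_mul] at h1
      have := eq_one_of_three hx3 (C.A_sq h1)
      rw [hxd] at this
      exact hk1 (conj_eq_one_iff.1 (by
        rw [show n⁻¹ * k * n = n⁻¹ * k * n⁻¹⁻¹ by group] at this; exact this))
    · exact ⟨1, hj 1 (by simpa using e), Or.inl rfl⟩
    · exact ⟨2, hj 2 e, Or.inr rfl⟩
  have hkm : ∀ a ∈ C.A, (k ^ m) * a * (k ^ m)⁻¹ = a → a = 1 := fun a ha e => by
    rcases hm0 with rfl | rfl
    · exact hkfix a ha (by simpa using e)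
    · refine hkfix a ha ?_
      calc k * a * k⁻¹ = k * (k ^ 2 * a * (k ^ 2)⁻¹) * k⁻¹ := by rw [e]
        _ = k ^ 3 * a * (k ^ 3)⁻¹ := by group
        _ = a := by rw [hk3]; group
  let φ : C.A → C.A := fun c => ⟨(k ^ m)⁻¹ * (c * k ^ m * (c : G)⁻¹), by
    rw [show (k ^ m)⁻¹ * ((c : G) * k ^ m * (c : G)⁻¹) = ((k ^ m)⁻¹ * c * (k ^ m)⁻¹⁻¹) * (c : G)⁻¹ by group]
    exact mul_mem (cj_mem (inv_mem (pow_mem hkA m)) c.2) (inv_mem c.2)⟩
  have hφ : Function.Injective φ := fun c c' e => by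
    have e' : (c : G) * k ^ m * (c : G)⁻¹ = c' * k ^ m * (c' : G)⁻¹ :=
      mul_left_cancel (congrArg Subtype.val e)
    refine Subtype.ext (inv_mul_eq_one.1 (hkm _ (mul_mem (inv_mem c.2) c'.2) ?_))
    calc k ^ m * ((c : G)⁻¹ * c') * (k ^ m)⁻¹ = (c : G)⁻¹ * (c * k ^ m * (c : G)⁻¹) * c' * (k ^ m)⁻¹ := by group
      _ = (c : G)⁻¹ * c' := by rw [e']; group
  obtain ⟨c, hc⟩ := (Finite.injective_iff_surjective.1 hφ) ⟨_, hxm⟩
  have hcx : (c : G) * k ^ m * (c : G)⁻¹ = x := mul_left_cancel (congrArg Subtype.val hc)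
  refine ⟨n * c, mul_mem hn (le_normalizer c.2), ?_, fun hh => hnS ?_⟩
  · refine (inv_mem_iff (x := n * (c : G))).1 (ZStarApps.mem_normalizer_of_maps fun q hq => ?_)
    obtain ⟨i, rfl⟩ := mem_zpowers_iff.1 hq
    rw [show (n * (c : G))⁻¹ * k ^ i * (n * (c : G))⁻¹⁻¹ = MulAut.conj (n * (c : G))⁻¹ (k ^ i) from rfl, map_zpow]
    refine zpow_mem ?_ i
    show (n * (c : G))⁻¹ * k * (n * (c : G))⁻¹⁻¹ ∈ zpowers k
    rw [show (n * (c : G))⁻¹ * k * (n * (c : G))⁻¹⁻¹ = (c : G)⁻¹ * x * c by rw [hxd]; group, ← hcx,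
      show (c : G)⁻¹ * (c * k ^ m * (c : G)⁻¹) * c = k ^ m by group]
    exact pow_mem (mem_zpowers k) m
  · have := mul_mem hh (le_normalizer (inv_mem (C.A_le c.2)))
    rwa [mul_inv_cancel_right] at this

end Cfsg.Lib.LFourType.Coord
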