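import Cfsg.Agent.LFourType.CaseTwoBase

/-!
A group with abelian Sylow 2-subgroup has a 2-closed quotient by its odd core if the centralizer of an involution
fixed by the Sylow normaliser is 2-closed.
-/

set_option autoImplicit false
set_option linter.unusedSectionVars false
set_option linter.style.haveILetI false

namespace Cfsg.Lib.LFourType

open Subgroup
open Cfsg.Lib.Walter (CoreFree)

universe u

variable {H : Type u} [Group H] [Finite H]


theorem sylow_normal_of_coreFree {T : Sylow 2 H} (hCF : CoreFree T) {t : H} (htT : t ∈ (T : Subgroup H))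
    (hfix : ∀ r ∈ normalizer ((T : Subgroup H) : Set H), r * t * r⁻¹ = t)
    (hclosed : centralizer ({t} : Set H) ≤ normalizer ((T : Subgroup H) : Set H)) : (T : Subgroup H).Normal := by
  haveI : Fact (Nat.Prime 2) := ⟨Nat.prime_two⟩
  haveI : (Cfsg.pCore 2 H).Normal := (Cfsg.Lib.Components.pCore_normal_and_isPGroup 2).1
  by_cases hno : ∀ L' : Subgroup H, ¬ Cfsg.IsComponent L'
  · have hl : Cfsg.layer H = ⊥ := eq_bot_iff.2 (sSup_le fun L' hL' => absurd hL' (hno L'))
    have hTP : (T : Subgroup H) = Cfsg.pCore 2 H :=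
      le_antisymm (by simpa [hl] using Cfsg.Lib.Walter.sylow_le_genFit hCF) (Cfsg.Lib.Walter.pCore_le hCF)
    rw [hTP]; infer_instance
  exfalso
  push Not at hno
  obtain ⟨L', hL'⟩ := hno
  obtain ⟨rb, hrbL, hrbN, -, hrbfix⟩ := Cfsg.Lib.Walter.rot_in hCF hL'
  obtain ⟨hdis', hsup'⟩ := Cfsg.Lib.Walter.comp_split hCF hL'
  have h4 := Cfsg.Lib.Walter.card_inf hCF hL'
  have htc : t ∈ centralizer (L' : Set H) := by
    have hrt := hfix rb hrbN
    rw [← hsup'] at htT
    have hn : (T : Subgroup H) ⊓ L' ≤ normalizer (((T : Subgroup H) ⊓ centralizer (L' : Set H) : Subgroup H) : Set H) :=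
      fun q hq => ZStarApps.mem_normalizer_of_maps fun p hp => by
        have hc : q * p = p * q := hCF.ab T q hq.1 p hp.1
        rw [hc, mul_inv_cancel_right]
        exact hp
    have hmem := (Cfsg.Lib.Coprime.mem_sup_of_le_normalizer hn).1 htT
    obtain ⟨p, hp, q, hq, e⟩ := hmem
    have hq1 : q = 1 := by
      refine hrbfix 1 (fun hd => ?_) q hq ?_
      · have := Nat.le_of_dvd one_pos hd
        omega
      · rw [pow_one]
        have hpc : rb * p * rb⁻¹ = p := by rw [mem_centralizer_iff.1 hp.2 rb hrbL, mul_inv_cancel_right]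
        rw [← e, show rb * (p * q) * rb⁻¹ = (rb * p * rb⁻¹) * (rb * q * rb⁻¹) by group, hpc] at hrt
        exact mul_left_cancel hrt
    rw [← e, hq1, mul_one]
    exact hp.2
  have hLT : L' ≤ normalizer ((T : Subgroup H) : Set H) := fun y hy =>
    hclosed (mem_centralizer_singleton_iff.2 (mem_centralizer_iff.1 htc y hy))
  haveI : (((T : Subgroup H) ⊓ L').subgroupOf L').Normal :=
    normal_subgroupOf_of_le_normalizer fun y hy => ZStarApps.mem_normalizer_of_maps fun q hq => mem_inf.2
      ⟨Coord.cj_mem (hLT hy) (mem_inf.1 hq).1, mul_mem (mul_mem hy (mem_inf.1 hq).2) (inv_mem hy)⟩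
  haveI := (Cfsg.Lib.Walter.comp_simple hCF hL').1
  rcases IsSimpleGroup.eq_bot_or_eq_top_of_normal (((T : Subgroup H) ⊓ L').subgroupOf L')
    inferInstance with e | e
  · rw [subgroupOf_eq_bot, disjoint_iff, inf_assoc, inf_idem] at e
    rw [e, card_bot] at h4
    omega
  · rw [subgroupOf_eq_top] at e
    exact (Cfsg.Lib.Walter.comp_simple hCF hL').2 ⟨⟨fun p q => Subtype.ext
      (hCF.ab T p (e p.2).1 q (e q.2).1)⟩⟩

theorem quot_sylow_normal (hab : Cfsg.Lib.Walter.AbTwo H) (R : Sylow 2 H) {t : H} (htR : t ∈ (R : Subgroup H))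
    (ht2 : t * t = 1) (hfix : ∀ r ∈ normalizer ((R : Subgroup H) : Set H), r * t * r⁻¹ = t)
    (hclosed : centralizer ({t} : Set H) ≤ normalizer ((R : Subgroup H) : Set H)) :
    ((R : Subgroup H).map (QuotientGroup.mk' (Cfsg.oddCore H))).Normal := by
  haveI : Fact (Nat.Prime 2) := ⟨Nat.prime_two⟩
  have hπs : Function.Surjective (QuotientGroup.mk' (Cfsg.oddCore H)) := QuotientGroup.mk'_surjective _
  have hkerodd : (Nat.card (QuotientGroup.mk' (Cfsg.oddCore H)).ker).Coprime 2 := by
    rw [QuotientGroup.ker_mk']; exact Cfsg.Lib.Components.coprime_card_pPrimeCore 2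
  have hCF : CoreFree (R.mapSurjective hπs) :=
    ⟨hab.of_surjective hπs, Cfsg.Lib.Coprime.pPrimeCore_quotient_eq_bot (G := H) (p := 2),
      fun L hs hna => Cfsg.Lib.Walter.walterProp L hna ((hab.of_surjective hπs).subgroup L),
      Cfsg.Lib.GW.fourGroupProp⟩
  refine sylow_normal_of_coreFree hCF (t := QuotientGroup.mk' (Cfsg.oddCore H) t) ⟨t, htR, rfl⟩
    (fun r hr => ?_) fun y hy => ?_
  · obtain ⟨rr, hrrN, hrre⟩ := (Cfsg.Lib.Components.normalizer_map_of_coprime_ker (p := 2) hπs hkerodd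
      (P := (R : Subgroup H)) R.2).ge hr
    rw [← hrre, ← map_inv, ← map_mul, ← map_mul, hfix rr hrrN]
  · obtain ⟨c, hc, rfl⟩ := (Cfsg.Lib.Components.centralizer_map_of_coprime_ker (p := 2) (b := t) hπs
      hkerodd (isPGroup_zpowers_sq ht2)).ge hy
    exact le_normalizer_map _ ⟨c, hclosed hc, rfl⟩

end Cfsg.Lib.LFourType
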