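import Cfsg.Agent.LFourType.CaseTwoInv
import Cfsg.Agent.LFourType.SylowQuot

/-!
When the side `A` is moved and all cores are trivial, the centralizers of the other side lie in the normalizer
of `A`: otherwise a rotation `k` would give a centralizer of a fused involution which is not 2-closed.
-/

set_option autoImplicit false
set_option linter.unusedSectionVars false
set_option linter.style.haveILetI false
set_option maxHeartbeats 1000000

namespace Cfsg.Lib.LFourType.Coord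

open Subgroup
open Cfsg.Lib.Walter (Qt bar Oc mem_Oc odd_ker_qm CoreFree)

universe u

/-- the projection onto `C(a)/O(C(a))` -/
local notation "qk" => Cfsg.Lib.Walter.qm

variable {G : Type u} [Group G] [Finite G] (C : Coord G)

theorem cent_le_normalizer_A (hM : C.Moved) (hB : ¬ C.swap.Moved) (hW : C.W = ⊥) {b : G} (hb : b ∈ C.B)
    (hbZ : b ∉ C.Z) : centralizer ({b} : Set G) ≤ normalizer (C.A : Set G) := by
  obtain ⟨hb', hbZ'⟩ := C.mem_A_not_Z_swap hb hbZ
  have hHn := C.swap.normalizer_bar_le hb' ((C.normalizer_B_le_S hB hW).trans C.normalizer_S_le)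
  rcases C.swap.plain_or_split hB hb' hbZ' with h | ⟨L, U, h⟩
  · refine cent_le_of_gen (by rw [C.Oc_side_eq_bot hW hb']; exact bot_le)
      (X := normalizer (bar b C.swap.A : Set (Qt b))) (Y := ⊥) ?_ hHn bot_le
    rw [normalizer_eq_top_iff.2 h.normal, top_sup_eq]
  exfalso
  classical
  haveI : Fact (Nat.Prime 2) := ⟨Nat.prime_two⟩
  haveI : Fact (Nat.Prime 3) := ⟨Nat.prime_three⟩
  obtain ⟨z₀, hz₀, hz₀1⟩ := C.exists_Z_ne_one
  have hb' := h.a_mem
  have hbZ' := h.a_not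
  have hvS : ∀ {v}, v ∈ U → v ∈ (C.S : Subgroup G) := fun hv => C.U_mem_S h hv
  have hUZ' : ∀ {x v : G}, x ∈ C.A → v ∈ U → v ≠ 1 → Commute x v → x ∈ C.Z := fun {x v} hx hv => C.U_cent_A h hx hv
  have hconjZ : ∀ {n}, n ∈ normalizer ((C.S : Subgroup G) : Set G) → ∀ {v}, v ∈ C.Z → n * v * n⁻¹ ∈ C.Z :=
    fun {n} hn {v} hv => C.normalizer_S_conj_Z hn hv
  have hline : ∀ n ∈ normalizer (C.A : Set G), ∀ w ∈ C.Z, w ≠ 1 → n⁻¹ * w * n ∈ C.Z →
      n ∈ normalizer ((C.S : Subgroup G) : Set G) := fun n hn w hw => C.line_of_mem hW hn hw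
  have hstab : ∀ n ∈ normalizer (C.A : Set G), ∀ v ∈ U, v ≠ 1 →
      (∀ w ∈ C.Z, n⁻¹ * (v * (n * w * n⁻¹) * v⁻¹) * n ∈ C.Z) → n ∈ normalizer ((C.S : Subgroup G) : Set G) :=
    fun n hn v hv => C.line_stab hW h hn hv
  have hinj : ∀ {x y : G} (hx : x ∈ centralizer ({b} : Set G)) (hy : y ∈ centralizer ({b} : Set G)),
      qk b ⟨x, hx⟩ = qk b ⟨y, hy⟩ → x = y := fun {x y} hx hy => C.side_inj hW hb' hx hy
  haveI := h.simple
  have hLU : ∀ {x : G} (hx : x ∈ centralizer ({b} : Set G)), qk b ⟨x, hx⟩ ∈ L → ∀ v ∈ U, Commute x v :=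
    fun {x} hx hl => C.U_commute hW h hx hl
  have hUK : ∀ {v}, v ∈ U → v ∈ centralizer ({b} : Set G) := fun hv => C.U_mem_cent h hv
  have hZN := C.cent_Z_S hW
  have hCB : ∀ x ∈ centralizer (C.swap.A : Set G), x ∈ C.swap.A := fun x hx => C.cent_B_mem hW hx
  obtain ⟨k, hk⟩ := C.exists_rot hB hW h
  have hk3 := hk.cube
  have hk1 := hk.ne_one
  have hkS := hk.mem_S
  have hkA := C.normalizer_S_le hkS
  have hkK := hk.mem_cent
  have hkL := hk.mem_L hkK
  have hkU := hk.comm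
  have hkfix := hk.fpf
  have hkZ : ∀ z ∈ C.Z, k * z * k⁻¹ = z → z = 1 := fun z hz => hkfix z (C.Z_le_A hz)
  obtain ⟨g, hgA, hgk, hgS⟩ := C.exists_moving hM hW h hk
  obtain ⟨t, htinv, ht2, hkne, htU, l, hlU, z₀, hz₀, hz₀1, hlt⟩ := C.exists_inverting hB hW h hk
  have hSylU := C.rot_sylow hB hW h hk
  -- the normalizer of `⟨k⟩`
  set H := normalizer (zpowers k : Set G)
  have hUk : U ≤ centralizer ({k} : Set G) := fun v hv => mem_centralizer_singleton_iff.2 (hkU v hv).symm.eq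
  have hCkH : centralizer ({k} : Set G) ≤ H := fun x hx => centralizer_le_normalizer _
    (mem_centralizer_iff.2 fun q hq => by
      obtain ⟨i, rfl⟩ := mem_zpowers_iff.1 hq
      exact (((show Commute x k from mem_centralizer_singleton_iff.1 hx).zpow_right i).eq).symm)
  have htH : t ∈ H := ZStarApps.mem_normalizer_of_maps fun q hq => by
    obtain ⟨i, rfl⟩ := mem_zpowers_iff.1 hq
    rw [show t * k ^ i * t⁻¹ = MulAut.conj t (k ^ i) from rfl, map_zpow, MulAut.conj_apply, htinv]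
    exact zpow_mem (inv_mem (mem_zpowers k)) i
  have hHk : ∀ x ∈ H, x * k * x⁻¹ = k ∨ x * k * x⁻¹ = k⁻¹ := by
    intro x hx
    obtain ⟨i, hi⟩ := mem_zpowers_iff.1 (cj_mem hx (mem_zpowers k))
    have hko : orderOf k = 3 := orderOf_eq_prime hk3 hk1
    have hi' : k ^ (i % 3) = x * k * x⁻¹ := by rw [← hi, ← zpow_mod_orderOf k i, hko]; norm_num
    have h3 : i % 3 = 0 ∨ i % 3 = 1 ∨ i % 3 = 2 := by omega
    rcases h3 with e | e | e <;> rw [e] at hi'
    · exact absurd (conj_eq_one_iff.1 (by rw [← hi', zpow_zero])) hk1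
    · left; rw [← hi', zpow_one]
    · right
      rw [← hi']
      refine eq_inv_of_mul_eq_one_left ?_
      rw [← zpow_add_one, show (2 : ℤ) + 1 = ((3 : ℕ) : ℤ) by norm_num, zpow_natCast, hk3]
  have hUT : IsPGroup 2 (zpowers t ⊔ U : Subgroup G) :=
    (isPGroup_zpowers_sq ht2).to_sup_of_normal_right' (C.swap.isPGroup_of_le_S fun y hy => hvS hy)
      (zpowers_le.2 (ZStarApps.mem_normalizer_of_maps fun v hv => by
        rw [(htU v hv).eq, mul_inv_cancel_right]; exact hv))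
  have hUTH : zpowers t ⊔ U ≤ H := sup_le (zpowers_le.2 htH) (hUk.trans hCkH)
  obtain ⟨R, hR⟩ := (hUT.comap_subtype (K := H)).exists_le_sylow
  set RG := (R : Subgroup H).map H.subtype
  have hR2 : IsPGroup 2 RG := R.2.map _
  have htR : t ∈ RG := ⟨⟨t, htH⟩, hR (mem_sup_left (mem_zpowers t) : t ∈ zpowers t ⊔ U), rfl⟩
  have hUR : U ≤ RG := fun v hv => ⟨⟨v, hCkH (hUk hv)⟩, hR (mem_sup_right hv : v ∈ zpowers t ⊔ U), rfl⟩
  have hRH : RG ≤ H := map_subtype_le _
  have hRcases : ∀ x ∈ RG, x ∈ U ∨ ∃ v ∈ U, x = v * t := by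
    intro x hx
    have key : ∀ y ∈ RG, y * k * y⁻¹ = k → y ∈ U := fun y hy e =>
      hSylU (RG ⊓ centralizer ({k} : Set G)) (hR2.to_le inf_le_left) inf_le_right (le_inf hUR hUk)
        (mem_inf.2 ⟨hy, mem_centralizer_singleton_iff.2 (mul_inv_eq_iff_eq_mul.1 e)⟩)
    rcases hHk x (hRH hx) with e | e
    · exact Or.inl (key x hx e)
    · refine Or.inr ⟨x * t⁻¹, key _ (mul_mem hx (inv_mem htR)) ?_, (inv_mul_cancel_right x t).symm⟩
      calc x * t⁻¹ * k * (x * t⁻¹)⁻¹ = x * (t⁻¹ * k * t) * x⁻¹ := by group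
        _ = x * k⁻¹ * x⁻¹ := by rw [inv_eq_of_mul_eq_one_right ht2]; nth_rewrite 2 [← inv_eq_of_mul_eq_one_right ht2]; rw [htinv]
        _ = (x * k * x⁻¹)⁻¹ := by group
        _ = k := by rw [e, inv_inv]
  have hRab : ∀ x ∈ RG, ∀ y ∈ RG, Commute x y := by
    intro x hx y hy
    have hUU : ∀ p ∈ U, ∀ q ∈ U, Commute p q := fun p hp q hq => C.swap.A_comm (h.U_le hp) (h.U_le hq)
    rcases hRcases x hx with hx | ⟨v, hv, rfl⟩ <;> rcases hRcases y hy with hy | ⟨v', hv', rfl⟩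
    · exact hUU x hx y hy
    · exact (hUU x hx v' hv').mul_right (htU x hx).symm
    · exact (hUU v hv y hy).mul_left (htU y hy)
    · exact ((hUU v hv v' hv').mul_right (htU v hv).symm).mul_left ((htU v' hv').mul_right (Commute.refl t))
  have hRt : ∀ x ∈ RG, C.IsZ x → x = t := by
    intro x hx hxZ
    obtain ⟨c, z, hz, hz1, e⟩ := hxZ
    have hbad : ∀ q ∈ C.B, q ∉ C.Z → ∀ d : G, d * q * d⁻¹ ≠ c * z * c⁻¹ := fun q hq hqZ d he =>
      C.unfused_B hB hq hqZ (c⁻¹ * d) (by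
        rw [show c⁻¹ * d * q * (c⁻¹ * d)⁻¹ = c⁻¹ * (d * q * d⁻¹) * c by group, he]
        simpa [mul_assoc] using hz)
    rcases hRcases x hx with hxU | ⟨v, hv, rfl⟩
    · exfalso
      have hx1 : x ≠ 1 := fun e' => hz1 (conj_eq_one_iff.1 (e.trans e'))
      exact hbad x (C.swap_A ▸ h.U_le hxU) (fun hh => hx1 (h.U_Z x hxU (C.swap_Z.symm ▸ hh))) 1 (by simp [e])
    · by_contra hne
      have hv1 : v ≠ 1 := fun e' => hne (by rw [e', one_mul])
      have hvB : v ∈ C.B := C.swap_A ▸ h.U_le hv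
      refine hbad (v * z₀) (mul_mem hvB (C.Z_le_B hz₀)) (fun hh => hv1 (h.U_Z v hv (C.swap_Z.symm ▸ ?_))) l ?_
      · have := mul_mem hh (inv_mem hz₀)
        rwa [mul_inv_cancel_right] at this
      · rw [e, show l * (v * z₀) * l⁻¹ = (l * v * l⁻¹) * (l * z₀ * l⁻¹) by group, hlt, (hlU v hv).eq,
          mul_inv_cancel_right]
  -- the quotient by the core
  have habH : Cfsg.Lib.Walter.AbTwo H := fun R' x hx y hy => by
    obtain ⟨c, hc⟩ := MulAction.exists_smul_eq H R' R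
    have hx' : c * x * c⁻¹ ∈ (R : Subgroup H) := by rw [← hc]; exact ⟨x, hx, rfl⟩
    have hy' : c * y * c⁻¹ ∈ (R : Subgroup H) := by rw [← hc]; exact ⟨y, hy, rfl⟩
    have h1 : c * x * c⁻¹ * (c * y * c⁻¹) = c * y * c⁻¹ * (c * x * c⁻¹) := Subtype.ext
      (hRab _ ⟨_, hx', rfl⟩ _ ⟨_, hy', rfl⟩).eq
    have := congrArg (fun q => c⁻¹ * q * c) h1
    simpa [mul_assoc] using this
  set π := QuotientGroup.mk' (Cfsg.oddCore H)
  set tH : H := ⟨t, htH⟩
  have htRH : tH ∈ (R : Subgroup H) := hR (mem_sup_left (mem_zpowers t) : t ∈ zpowers t ⊔ U)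
  have hfix : ∀ r ∈ normalizer ((R : Subgroup H) : Set H), r * tH * r⁻¹ = tH := by
    rintro ⟨rr, hrrH⟩ hrrN
    refine Subtype.ext (hRt _ ⟨⟨rr, hrrH⟩ * tH * ⟨rr, hrrH⟩⁻¹, (mem_normalizer_iff.1 hrrN tH).1 htRH, rfl⟩
      ⟨rr * l, z₀, hz₀, hz₀1, ?_⟩)
    rw [show rr * l * z₀ * (rr * l)⁻¹ = rr * (l * z₀ * l⁻¹) * rr⁻¹ by group, hlt]
    rfl
  -- the centraliser of `t` is 2-closed
  set St := conjS l (C.S : Subgroup G)
  have hCt : centralizer ({t} : Set G) ≤ normalizer (St : Set G) := by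
    intro c hc
    have hc' : l⁻¹ * c * l ∈ centralizer ({z₀} : Set G) := mem_centralizer_singleton_iff.2 (by
      have := (commute_conj (g := l⁻¹) (show Commute c t from mem_centralizer_singleton_iff.1 hc)).eq
      rwa [inv_inv, ← hlt, show l⁻¹ * (l * z₀ * l⁻¹) * l = z₀ by group] at this)
    refine ZStarApps.mem_normalizer_of_maps fun q hq => mem_conjS.2 ?_
    have := cj_mem (hZN z₀ hz₀ hz₀1 hc') (mem_conjS.1 hq)
    rwa [show l⁻¹ * (c * q * c⁻¹) * l = l⁻¹ * c * l * (l⁻¹ * q * l) * (l⁻¹ * c * l)⁻¹ by group]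
  have hRSt : RG ≤ St := by
    intro x hx
    have hxC : x ∈ centralizer ({t} : Set G) := mem_centralizer_singleton_iff.2 (hRab x hx t htR).eq
    have h2 : IsPGroup 2 (zpowers x ⊔ St : Subgroup G) := (hR2.to_le (zpowers_le.2 hx)).to_sup_of_normal_right'
      (C.S.2.map _) (zpowers_le.2 (hCt hxC))
    have h3 : conjS l⁻¹ (zpowers x ⊔ St) = C.S := C.eq_S (h2.map _) (fun s hs => mem_conjS.2 (by
      rw [inv_inv]; exact mem_sup_right (conj_mem_conjS hs)))
    have h4 := h3.le (conj_mem_conjS (g := l⁻¹) (mem_sup_left (mem_zpowers x) : x ∈ zpowers x ⊔ St))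
    exact mem_conjS.2 (by simpa using h4)
  set N2 := ((St.subgroupOf H) : Subgroup H)
  have hN2 : IsPGroup 2 N2 := (C.S.2.map _).comap_subtype
  have hN2R : N2 = (R : Subgroup H) := R.3 hN2 fun x hx => mem_subgroupOf.2 (hRSt ⟨x, hx, rfl⟩)
  have hclosed : centralizer ({tH} : Set H) ≤ normalizer ((R : Subgroup H) : Set H) := by
    rintro ⟨c, hcH⟩ hc
    rw [← hN2R]
    refine ZStarApps.mem_normalizer_of_maps fun q hq => mem_subgroupOf.2 ?_
    exact cj_mem (hCt (mem_centralizer_singleton_iff.2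
      (congrArg Subtype.val (mem_centralizer_singleton_iff.1 hc)))) (mem_subgroupOf.1 hq)
  have hTn := quot_sylow_normal habH R htRH (Subtype.ext ht2) hfix hclosed
  -- the odd core fixes the centre
  set D := Cfsg.Lib.AltEightType.core H ⊓ normalizer (C.A : Set G)
  have hUH : U ≤ H := hUk.trans hCkH
  have hD : D ≤ normalizer ((C.S : Subgroup G) : Set G) := by
    refine le_of_four' (E := U) (by rw [h.card]) (fun p hp q hq => C.swap.A_comm (h.U_le hp) (h.U_le hq))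
      (fun p hp => C.swap.A_sq (h.U_le hp))
      ((Cfsg.Lib.AltEightType.odd_core H).of_dvd_nat (card_dvd_of_le inf_le_left)) ?_ ?_
    · exact fun v hv => ZStarApps.mem_normalizer_of_maps fun d hd => mem_inf.2
        ⟨cj_mem (Cfsg.Lib.AltEightType.core_normalized (hUH hv)) (mem_inf.1 hd).1,
          mul_mem (mul_mem (C.S_le_normalizer_A (hvS hv)) (mem_inf.1 hd).2)
            (inv_mem (C.S_le_normalizer_A (hvS hv)))⟩
    · intro v hv hv1 d hd
      have hdA : d ∈ normalizer (C.A : Set G) := (mem_inf.1 (mem_inf.1 hd).1).2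
      have hc : Commute d v := mem_centralizer_singleton_iff.1 (mem_inf.1 hd).2
      refine hstab d hdA v hv hv1 fun w hw => ?_
      have hvw : v * w * v⁻¹ = w := by rw [(C.Z_central hw (hvS hv)).symm.eq, mul_inv_cancel_right]
      rw [show d⁻¹ * (v * (d * w * d⁻¹) * v⁻¹) * d = (d⁻¹ * v * d) * w * (d⁻¹ * v * d)⁻¹ by group,
        show d⁻¹ * v * d = v by rw [mul_assoc, ← hc.eq, inv_mul_cancel_left], hvw]
      exact hw
  apply hgS
  have hb1 : b ≠ 1 := fun e' => hbZ' (e' ▸ one_mem _)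
  have hgbS : g * b * g⁻¹ ∈ normalizer ((C.S : Subgroup G) : Set G) := by
    set x := g * b * g⁻¹
    have hxk : x ∈ centralizer ({k} : Set G) := by
      refine mem_centralizer_singleton_iff.2 ?_
      obtain ⟨i, hi⟩ := mem_zpowers_iff.1 (cj_mem hgk (mem_zpowers k))
      have h1 : Commute x (g * k * g⁻¹) := commute_conj (g := g) (hkU b h.mem_self).symm
      rcases hHk g hgk with e | e <;> rw [e] at h1
      · exact h1.eq
      · exact (inv_inv k ▸ h1.inv_right).eq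
    have hxH := hCkH hxk
    have hmem : π ⟨x, hxH⟩ ∈ ((R : Subgroup H).map π) := by
      rw [show (⟨x, hxH⟩ : H) = ⟨g, hgk⟩ * ⟨b, hUH h.mem_self⟩ * ⟨g, hgk⟩⁻¹ from rfl, map_mul, map_mul, map_inv]
      exact hTn.conj_mem _ ⟨⟨b, hUH h.mem_self⟩, hR (mem_sup_right h.mem_self : b ∈ zpowers t ⊔ U), rfl⟩ _
    obtain ⟨⟨e, heH⟩, he, hee⟩ := hmem
    have heR : e ∈ RG := ⟨⟨e, heH⟩, he, rfl⟩
    have ho : x * e⁻¹ ∈ Cfsg.Lib.AltEightType.core H := ⟨⟨x, hxH⟩ * ⟨e, heH⟩⁻¹, (QuotientGroup.eq_one_iff _).1 (by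
      show π (⟨x, hxH⟩ * ⟨e, heH⟩⁻¹) = 1
      rw [map_mul, map_inv, hee, mul_inv_cancel]), rfl⟩
    have hok : x * e⁻¹ ∈ centralizer ({k} : Set G) := by
      refine mem_centralizer_singleton_iff.2 (mul_inv_eq_iff_eq_mul.1 ?_)
      rcases hHk _ (Cfsg.Lib.AltEightType.core_le H ho) with e1 | e1
      · exact e1
      exfalso
      have h2 : Commute ((x * e⁻¹) ^ 2) k := by
        refine mul_inv_eq_iff_eq_mul.1 ?_
        rw [pow_two, show x * e⁻¹ * (x * e⁻¹) * k * (x * e⁻¹ * (x * e⁻¹))⁻¹ =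
          x * e⁻¹ * (x * e⁻¹ * k * (x * e⁻¹)⁻¹) * (x * e⁻¹)⁻¹ by group, e1, ← _root_.conj_inv, e1, inv_inv]
      obtain ⟨i, hi⟩ := odd_orderOf (Cfsg.Lib.AltEightType.odd_core H) ho
      have h3 := h2.pow_left (i + 1)
      rw [← pow_mul, show 2 * (i + 1) = orderOf (x * e⁻¹) + 1 by omega, pow_succ, pow_orderOf_eq_one, one_mul] at h3
      rw [h3.eq, mul_inv_cancel_right] at e1
      exact hkne e1.symm
    have hek : e ∈ centralizer ({k} : Set G) := by
      rw [show e = (x * e⁻¹)⁻¹ * x by group]; exact mul_mem (inv_mem hok) hxk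
    have heU : e ∈ U := by
      rcases hRcases e heR with hu | ⟨v, hv, rfl⟩
      · exact hu
      exfalso
      have h1 := mul_mem (inv_mem (hUk hv)) hek
      rw [inv_mul_cancel_left, mem_centralizer_singleton_iff] at h1
      rw [h1, mul_inv_cancel_right] at htinv
      exact hkne htinv.symm
    have hoD : x * e⁻¹ ∈ D := mem_inf.2 ⟨ho, mul_mem (mul_mem (mul_mem hgA (C.S_le_normalizer_A (hvS h.mem_self)))
      (inv_mem hgA)) (inv_mem (C.S_le_normalizer_A (hvS heU)))⟩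
    rw [show x = x * e⁻¹ * e by group]
    exact mul_mem (hD hoD) (le_normalizer (hvS heU))
  -- `b` fixes the line of `g⁻¹`
  have := hstab g⁻¹ (inv_mem hgA) b h.mem_self hb1 fun w hw => by
    rw [inv_inv, show g * (b * (g⁻¹ * w * g) * b⁻¹) * g⁻¹ = (g * b * g⁻¹) * w * (g * b * g⁻¹)⁻¹ by group]
    exact hconjZ hgbS hw
  simpa using inv_mem this

end Cfsg.Lib.LFourType.Coord
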