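import Cfsg.Agent.LFourType.Central

/-!
The centralizer of an involution in the centre of the Sylow subgroup.
-/

set_option autoImplicit false
set_option linter.unusedSectionVars false
set_option linter.style.haveILetI false

namespace Cfsg.Lib.LFourType.Coord

open Subgroup
open Cfsg.Lib.AltEightType (core core_le odd_core core_normalized le_core)

universe u

variable {G : Type u} [Group G] [Finite G] (C : Coord G)

/-- `C(z) = O(C(z)) (C(z) ∩ N(S))` for `z` in the centre of `S` -/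
theorem cent_Z_decomp {z : G} (hz : z ∈ C.Z) (hz1 : z ≠ 1) {g : G} (hg : g ∈ centralizer ({z} : Set G)) :
    ∃ o ∈ core (centralizer ({z} : Set G)), ∃ m ∈ normalizer ((C.S : Subgroup G) : Set G),
      m ∈ centralizer ({z} : Set G) ∧ g = o * m := by
  haveI : Fact (Nat.Prime 2) := ⟨Nat.prime_two⟩
  set K := centralizer ({z} : Set G)
  have hS := C.S_le_centralizer hz
  let CK := C.restrict K hS
  let f := QuotientGroup.mk' (Cfsg.oddCore K)
  have hfs : Function.Surjective f := QuotientGroup.mk'_surjective _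
  have hk : Odd (Nat.card f.ker) := by
    rw [QuotientGroup.ker_mk']; exact Cfsg.Lib.AltEightType.odd_oddCore _
  let CQ := CK.mapHom f hfs hk
  have hzK : z ∈ K := mem_centralizer_singleton_iff.2 rfl
  have hzQ : f ⟨z, hzK⟩ ∈ CQ.Z := by
    obtain ⟨x, hx⟩ := C.exists_coord (C.Z_le hz)
    have : f ⟨z, hzK⟩ = CQ.e x := congrArg f (Subtype.ext hx.symm)
    rw [this, CQ.mem_Z]
    exact C.mem_Z.1 (hx ▸ hz)
  have hz1Q : f ⟨z, hzK⟩ ≠ 1 := fun h => hz1 (congrArg Subtype.val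
    (CK.eq_one_of_map f hk (show (⟨z, hzK⟩ : K) ∈ (CK.S : Subgroup K) from C.Z_le hz) h))
  have hnormal : (CQ.S : Subgroup (K ⧸ Cfsg.oddCore K)).Normal :=
    CQ.normal_of_central (Cfsg.Lib.Coprime.pPrimeCore_quotient_eq_bot (G := K) (p := 2)) hzQ hz1Q (fun q => by
      obtain ⟨y, rfl⟩ := hfs q
      exact ((mem_centralizer_singleton_iff.1 y.2).symm |> fun h =>
        (show Commute (⟨z, hzK⟩ : K) y from Subtype.ext h).map f))
  -- Frattini inside the preimage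
  set W : Subgroup G := ((CQ.S : Subgroup (K ⧸ Cfsg.oddCore K)).comap f).map K.subtype
  have hSW : (C.S : Subgroup G) ≤ W := fun s hs => ⟨⟨s, hS hs⟩, ⟨_, (show (⟨s, hS hs⟩ : K) ∈ (CK.S : Subgroup K) from hs), rfl⟩, rfl⟩
  have hWn : ∀ k ∈ K, ∀ w ∈ W, k * w * k⁻¹ ∈ W := by
    rintro k hk' _ ⟨w, hw, rfl⟩
    refine ⟨⟨k, hk'⟩ * w * ⟨k, hk'⟩⁻¹, ?_, rfl⟩
    show f _ ∈ (CQ.S : Subgroup (K ⧸ Cfsg.oddCore K))
    rw [map_mul, map_mul, map_inv]
    exact hnormal.conj_mem _ hw _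
  have hgW : ((g • C.S : Sylow 2 G) : Subgroup G) ≤ W := by
    rw [Sylow.coe_subgroup_smul]
    rintro _ ⟨x, hx, rfl⟩
    exact hWn g hg x (hSW hx)
  obtain ⟨c, hc, hcS⟩ := Cfsg.Lib.Transfer.exists_conj_mem_of_sylow_le W (g • C.S) C.S hgW hSW
  have hm : c * g ∈ normalizer ((C.S : Subgroup G) : Set G) :=
    Sylow.smul_eq_iff_mem_normalizer.1 (by rw [mul_smul, hcS])
  obtain ⟨w, hw, rfl⟩ := hc
  obtain ⟨s, hs, e⟩ := (hw : f w ∈ (CQ.S : Subgroup (K ⧸ Cfsg.oddCore K)))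
  obtain ⟨x, hx⟩ := CK.exists_coord hs
  have hs' : (s : G) ∈ (C.S : Subgroup G) := hs
  have ho : s * w⁻¹ ∈ Cfsg.oddCore K := (QuotientGroup.eq_one_iff _).1 (by
    show f (s * w⁻¹) = 1
    rw [map_mul, map_inv, e, mul_inv_cancel])
  have ho2 : (w : G)⁻¹ * s ∈ core K := by
    refine ⟨w⁻¹ * s, ?_, rfl⟩
    have := (inferInstance : (Cfsg.oddCore K).Normal).conj_mem _ ho w⁻¹
    simpa [mul_assoc] using this
  refine ⟨(w : G)⁻¹ * s, ho2, (s : G)⁻¹ * ((w : G) * g), mul_mem (le_normalizer (inv_mem hs')) hm,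
    mul_mem (inv_mem (hS hs')) (mul_mem w.2 hg), by group⟩

end Cfsg.Lib.LFourType.Coord
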