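import Cfsg.Agent.LFourType.Auto
import Cfsg.Agent.Walter.Structure
import Cfsg.Agent.Walter.Main
import Cfsg.Agent.FourGroupGW.Main

/-!
A central involution of the centre of the Sylow subgroup makes the Sylow subgroup normal.
-/

set_option autoImplicit false
set_option linter.style.haveILetI false
set_option linter.unusedSectionVars false
set_option maxHeartbeats 1000000

namespace Cfsg.Lib.LFourType

open Subgroup

universe u

theorem class_aux : ∀ a y y' : Q, a ≠ 0 → y ≠ 0 → a ≠ y → y' ≠ 0 → a ≠ y' → y' = y ∨ y' = qa a y := by decide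

theorem period_aux : ∀ a b c d : Q, a ≠ 0 → b ≠ 0 → c ≠ 0 → d ≠ 0 → a = b ∨ a = c ∨ a = d ∨ b = c ∨ b = d ∨ c = d := by
  decide

theorem qa_eq_zero : ∀ a b : Q, qa a b = 0 ↔ a = b := by decide

theorem split_aux : ∀ x1 x2 x3 : Q, mm (x1, 0, qa x3 (qm x1 x2)) (0, x2, 0) = (x1, x2, x3) := by decide +kernel

theorem comm_eq_aux : ∀ a c b w : Q, qm a b = w →
    mm (0, b, 0) (a, 0, c) = mm (mm (a, 0, c) (0, 0, w)) (0, b, 0) := by decide +kernel

theorem comm_eq (a c b w : Q) {x y : Mo} (h1 : x.1 = a) (h2 : x.2.1 = 0) (h3 : x.2.2 = c) (h4 : y.1 = 0)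
    (h5 : y.2.1 = 0) (h6 : y.2.2 = w) (h : qm a b = w) : mm (0, b, 0) x = mm (mm x y) (0, b, 0) := by
  obtain ⟨x1, x2, x3⟩ := x
  obtain ⟨y1, y2, y3⟩ := y
  cases h1; cases h2; cases h3; cases h4; cases h5; cases h6
  exact comm_eq_aux _ _ _ _ h

namespace Coord

variable {G : Type u} [Group G] [Finite G] (C : Coord G)

theorem normalizer_S_conj_A {m a : G} (hm : m ∈ normalizer ((C.S : Subgroup G) : Set G)) (ha : a ∈ C.A) :
    m * a * m⁻¹ ∈ C.A := cj_mem (C.normalizer_S_le hm) ha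

theorem normalizer_S_conj_B {m b : G} (hm : m ∈ normalizer ((C.S : Subgroup G) : Set G)) (hb : b ∈ C.B) :
    m * b * m⁻¹ ∈ C.B := by
  rw [← C.swap_A] at hb ⊢
  exact C.swap.normalizer_S_conj_A hm hb

theorem normalizer_S_conj_Z {m z : G} (hm : m ∈ normalizer ((C.S : Subgroup G) : Set G)) (hz : z ∈ C.Z) :
    m * z * m⁻¹ ∈ C.Z := ⟨C.normalizer_S_conj_A hm (C.Z_le_A hz), C.normalizer_S_conj_B hm (C.Z_le_B hz)⟩

/-- a 2-element normalising the centre centralises it -/
theorem commute_of_normalizes {y : G} (hy : IsPGroup 2 ↥(zpowers y)) (hn : y ∈ normalizer (C.Z : Set G)) {z : G}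
    (hz : z ∈ C.Z) : Commute y z := by
  haveI : Fact (Nat.Prime 2) := ⟨Nat.prime_two⟩
  have hSN : (C.S : Subgroup G) ≤ normalizer (C.Z : Set G) := fun s hs => by
    refine mem_normalizer_iff.2 fun w => ?_
    have hc : ∀ v ∈ C.Z, s * v * s⁻¹ = v := fun v hv => by rw [(C.Z_central hv hs).symm.eq, mul_inv_cancel_right]
    refine ⟨fun hw => by rw [hc w hw]; exact hw, fun hw => ?_⟩
    have h := hc _ hw
    rw [mul_left_inj, mul_right_inj] at h
    rwa [h] at hw
  set N := normalizer (C.Z : Set G)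
  obtain ⟨P, hP⟩ := (hy.comap_subtype (K := N)).exists_le_sylow
  obtain ⟨c, hc⟩ := MulAction.exists_smul_eq N P (C.S.subtype hSN)
  have hm : (c : G) * y * (c : G)⁻¹ ∈ (C.S : Subgroup G) := by
    have : c * ⟨y, hn⟩ * c⁻¹ ∈ ((C.S.subtype hSN : Sylow 2 N) : Subgroup N) := by
      rw [← hc, Sylow.coe_subgroup_smul]
      exact ⟨⟨y, hn⟩, hP (mem_zpowers y), rfl⟩
    exact this
  have hw : (c : G) * z * (c : G)⁻¹ ∈ C.Z := cj_mem c.2 hz
  simpa [mul_assoc] using commute_conj (g := (c : G)⁻¹) (C.Z_central hw hm).symm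

omit [Finite G] in
theorem exists_split {v : G} (hv : v ∈ (C.S : Subgroup G)) : ∃ a ∈ C.A, ∃ b ∈ C.B, a * b = v := by
  obtain ⟨⟨x1, x2, x3⟩, rfl⟩ := C.exists_coord hv
  refine ⟨C.e (x1, 0, qa x3 (qm x1 x2)), C.mem_A.2 rfl, C.e (0, x2, 0), C.mem_B.2 rfl, ?_⟩
  rw [← C.e_mul, split_aux]

omit [Finite G] in
theorem mem_Z_mul {x y : Mo} (hx : x.2.1 = 0) (hy : y.2.1 = 0) : (C.e x)⁻¹ * C.e y ∈ C.Z ↔ x.1 = y.1 := by
  rw [C.e_inv, ← C.e_mul, C.mem_Z]
  show qa x.1 y.1 = 0 ∧ qa x.2.1 y.2.1 = 0 ↔ _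
  rw [qa_eq_zero, hx, hy]
  exact ⟨fun h => h.1, fun h => ⟨h, rfl⟩⟩

omit [Finite G] in
theorem class_cases {a y y' : G} (ha : a ∈ C.A) (hy : y ∈ C.A) (hy' : y' ∈ C.A) (haZ : a ∉ C.Z) (hyZ : y ∉ C.Z)
    (hay : a⁻¹ * y ∉ C.Z) (hy'Z : y' ∉ C.Z) (hay' : a⁻¹ * y' ∉ C.Z) :
    y⁻¹ * y' ∈ C.Z ∨ (a * y)⁻¹ * y' ∈ C.Z := by
  obtain ⟨x, hx, rfl⟩ := ha; obtain ⟨u, hu, rfl⟩ := hy; obtain ⟨w, hw, rfl⟩ := hy'
  rw [C.mem_Z_mul hx hu] at hay
  rw [C.mem_Z_mul hx hw] at hay'
  rcases class_aux x.1 u.1 w.1 (fun h => haZ (C.mem_Z.2 ⟨h, hx⟩)) (fun h => hyZ (C.mem_Z.2 ⟨h, hu⟩)) hay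
    (fun h => hy'Z (C.mem_Z.2 ⟨h, hw⟩)) hay' with h | h
  · exact Or.inl ((C.mem_Z_mul hu hw).2 h.symm)
  · right
    rw [← C.e_mul, C.mem_Z_mul (show qa x.2.1 u.2.1 = 0 by
      rw [show x.2.1 = 0 from hx, show u.2.1 = 0 from hu]; rfl) hw]
    exact h.symm

/-- an element of `N(S)` returns a class of a side within six steps -/
theorem class_period {ρ a : G} (hρ : ρ ∈ normalizer ((C.S : Subgroup G) : Set G)) (ha : a ∈ C.A) (haZ : a ∉ C.Z) :
    (ρ ^ 6 * a * (ρ ^ 6)⁻¹)⁻¹ * a ∈ C.Z := by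
  choose x hx hxe using fun n : ℕ => C.normalizer_S_conj_A (pow_mem hρ n) ha
  have hiff : ∀ m n, (ρ ^ m * a * (ρ ^ m)⁻¹)⁻¹ * (ρ ^ n * a * (ρ ^ n)⁻¹) ∈ C.Z ↔ (x m).1 = (x n).1 := fun m n => by
    rw [← hxe m, ← hxe n]; exact C.mem_Z_mul (hx m) (hx n)
  have hne : ∀ n, (x n).1 ≠ 0 := fun n h => haZ (by
    have := C.normalizer_S_conj_Z (inv_mem (pow_mem hρ n)) (hxe n ▸ C.mem_Z.2 ⟨h, hx n⟩)
    simpa [mul_assoc] using this)
  have hs : ∀ i n, (x (i + n)).1 = (x i).1 ↔ (x n).1 = (x 0).1 := fun i n => by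
    rw [← hiff, ← hiff, pow_zero, one_mul, inv_one, mul_one]
    have e : (ρ ^ (i + n) * a * (ρ ^ (i + n))⁻¹)⁻¹ * (ρ ^ i * a * (ρ ^ i)⁻¹) =
        ρ ^ i * ((ρ ^ n * a * (ρ ^ n)⁻¹)⁻¹ * a) * (ρ ^ i)⁻¹ := by rw [pow_add]; group
    rw [e]
    refine ⟨fun h => ?_, C.normalizer_S_conj_Z (pow_mem hρ i)⟩
    have := C.normalizer_S_conj_Z (inv_mem (pow_mem hρ i)) h
    simpa [mul_assoc] using this
  have key : ∀ n, (x n).1 = (x 0).1 → ∀ k, (x (k * n)).1 = (x 0).1 := fun n h k => by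
    induction k with
    | zero => rw [zero_mul]
    | succ k ih => rw [Nat.succ_mul, (hs (k * n) n).2 h, ih]
  have h6 : (x 6).1 = (x 0).1 := by
    rcases period_aux _ _ _ _ (hne 0) (hne 1) (hne 2) (hne 3) with h | h | h | h | h | h
    · exact key 1 h.symm 6
    · exact key 2 h.symm 3
    · exact key 3 h.symm 2
    · exact key 1 ((hs 1 1).1 h.symm) 6
    · exact key 2 ((hs 1 2).1 h.symm) 3
    · exact key 1 ((hs 2 1).1 h.symm) 6
  have := (hiff 6 0).2 h6
  simpa using this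

omit [Finite G] in
theorem exists_comm_eq {w v : G} (hw : w ∈ C.Z) (hv : v ∈ C.A) (hvZ : v ∉ C.Z) :
    ∃ b ∈ C.B, b * v * b⁻¹ = v * w := by
  obtain ⟨x, hx, rfl⟩ := hv
  obtain ⟨y, rfl⟩ := C.exists_coord (C.Z_le hw)
  obtain ⟨h1, h2⟩ := C.mem_Z.1 hw
  have ha : x.1 ≠ 0 := fun h => hvZ (C.mem_Z.2 ⟨h, hx⟩)
  obtain ⟨b, hb, -⟩ := com_solve x.1 y.2.2 ha
  refine ⟨C.e (0, b, 0), C.mem_B.2 rfl, ?_⟩
  rw [mul_inv_eq_iff_eq_mul, ← C.e_mul, ← C.e_mul, ← C.e_mul, comm_eq x.1 x.2.2 b y.2.2 (x := x) (y := y) rfl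
    hx rfl h1 h2 rfl hb]

/-- an element of the centre centralised by the group makes the centre central -/
theorem Z_central_of (hO : Cfsg.oddCore G = ⊥) {z : G} (hz : z ∈ C.Z) (hz1 : z ≠ 1)
    (hcen : ∀ g : G, Commute z g) {w : G} (hw : w ∈ C.Z) : ∀ g : G, Commute w g := by
  haveI : Fact (Nat.Prime 2) := ⟨Nat.prime_two⟩
  have hww : w * w = 1 := C.A_sq (C.Z_le_A hw)
  have hzz : z * z = 1 := C.A_sq (C.Z_le_A hz)
  intro g
  by_cases hw1 : w = 1
  · subst hw1; exact Commute.one_left g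
  by_cases hwz : w = z
  · subst hwz; exact hcen g
  have hwo : orderOf w = 2 := orderOf_eq_prime (by rw [pow_two]; exact hww) hw1
  -- the four elements of the centre
  have hZ : ∀ v ∈ C.Z, v = 1 ∨ v = z ∨ v = w ∨ v = w * z := by
    classical
    haveI := Fintype.ofFinite C.Z
    intro v hv
    have hsub : ({1, ⟨z, hz⟩, ⟨w, hw⟩, ⟨w, hw⟩ * ⟨z, hz⟩} : Finset C.Z) = Finset.univ := by
      refine Finset.eq_univ_of_card _ ?_
      rw [← Nat.card_eq_fintype_card, C.card_Z]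
      have h1 : (⟨z, hz⟩ : C.Z) ≠ 1 := fun e => hz1 (congrArg Subtype.val e)
      have h2 : (⟨w, hw⟩ : C.Z) ≠ 1 := fun e => hw1 (congrArg Subtype.val e)
      have h3 : (⟨w, hw⟩ : C.Z) ≠ ⟨z, hz⟩ := fun e => hwz (congrArg Subtype.val e)
      have h4 : (⟨w, hw⟩ : C.Z) * ⟨z, hz⟩ ≠ 1 := fun e => hwz (by
        have := congrArg (fun u : C.Z => (u : G) * z) e
        simpa [mul_assoc, hzz] using this)
      simp only [Finset.card_insert_of_notMem, Finset.mem_insert, Finset.mem_singleton, Finset.card_singleton,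
        h1, h2, h3, h4, h1.symm, h2.symm, h3.symm, h4.symm, mul_eq_left, left_eq_mul, mul_eq_right, right_eq_mul,
        not_or, not_false_eq_true, and_self, or_self]
    have hv' := Finset.mem_univ (⟨v, hv⟩ : C.Z)
    rw [← hsub] at hv'
    simpa [Subtype.ext_iff] using hv'
  -- a conjugate of `w` in a side outside the centre is impossible
  have hside : ∀ (D : Coord G), D.Z = C.Z → ∀ a ∈ D.A, a ∉ D.Z → ∀ k : G, k * a * k⁻¹ ≠ w := by
    intro D hD a ha haZ k hk
    obtain ⟨b, hb, e⟩ := D.exists_comm_eq (hD.symm ▸ hz) ha haZ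
    set y := k * b * k⁻¹ with hy
    have hyw : y * w * y⁻¹ = w * z := by
      calc y * w * y⁻¹ = k * (b * a * b⁻¹) * k⁻¹ := by rw [hy, ← hk]; group
        _ = k * a * k⁻¹ * (k * z * k⁻¹) := by rw [e]; group
        _ = w * z := by rw [hk, (hcen k).symm.eq, mul_inv_cancel_right]
    have hyz : y * z * y⁻¹ = z := by rw [(hcen y).symm.eq, mul_inv_cancel_right]
    have hmem : ∀ v ∈ C.Z, y * v * y⁻¹ ∈ C.Z := by
      intro v hv
      rcases hZ v hv with rfl | rfl | rfl | rfl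
      · simp [one_mem]
      · rw [hyz]; exact hz
      · rw [hyw]; exact mul_mem hw hz
      · rw [show y * (w * z) * y⁻¹ = (y * w * y⁻¹) * (y * z * y⁻¹) by group, hyw, hyz, mul_assoc, hzz, mul_one]
        exact hw
    have hyy : y * y = 1 := by
      rw [hy, show k * b * k⁻¹ * (k * b * k⁻¹) = k * (b * b) * k⁻¹ by group, D.B_sq hb]; group
    have hn : y ∈ normalizer (C.Z : Set G) := mem_normalizer_iff.2 fun v => ⟨hmem v, fun h => by
      have := hmem _ h
      rwa [show y * (y * v * y⁻¹) * y⁻¹ = y * y * v * (y * y)⁻¹ by group, hyy, one_mul, inv_one, mul_one] at this⟩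
    have hp : IsPGroup 2 ↥(zpowers y) := fun u => ⟨1, by
      obtain ⟨_, j, rfl⟩ := u
      refine Subtype.ext ?_
      show (y ^ j) ^ (2 ^ 1) = 1
      rw [pow_one, pow_two, ← (Commute.refl y).mul_zpow, hyy, one_zpow]⟩
    rw [(C.commute_of_normalizes hp hn hw).eq, mul_inv_cancel_right, left_eq_mul] at hyw
    exact hz1 hyw
  -- `w` is isolated
  obtain ⟨k, hk, hkc⟩ := Cfsg.Lib.AltEightType.isolated_of_commuting (C := (⊤ : Subgroup G)) (mem_top w) hwo
    (fun c _ hc => by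
      by_contra hne
      set v := c * w * c⁻¹ with hv
      have hSK := C.S_le_centralizer hw
      set K := centralizer ({w} : Set G)
      have hvK : v ∈ K := mem_centralizer_singleton_iff.2 hc.symm.eq
      have hvv : v * v = 1 := by rw [hv, show c * w * c⁻¹ * (c * w * c⁻¹) = c * (w * w) * c⁻¹ by group, hww]; group
      have hp : IsPGroup 2 ↥(zpowers (⟨v, hvK⟩ : K)) := IsPGroup.of_card (n := 1) (by
        rw [Nat.card_zpowers, orderOf_mk, hv, ← MulAut.conj_apply, MulEquiv.orderOf_eq, hwo, pow_one])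
      obtain ⟨P, hP⟩ := hp.exists_le_sylow
      obtain ⟨h, hh⟩ := MulAction.exists_smul_eq K P (C.S.subtype hSK)
      have hmS : (h : G) * v * (h : G)⁻¹ ∈ (C.S : Subgroup G) := by
        have : h * ⟨v, hvK⟩ * h⁻¹ ∈ ((C.S.subtype hSK : Sylow 2 K) : Subgroup K) := by
          rw [← hh, Sylow.coe_subgroup_smul]
          exact ⟨⟨v, hvK⟩, hP (mem_zpowers _), rfl⟩
        exact this
      set v' := (h : G) * v * (h : G)⁻¹ with hv'
      have hv'' : v' * v' = 1 := by
        rw [hv', show (h : G) * v * (h : G)⁻¹ * ((h : G) * v * (h : G)⁻¹) = (h : G) * (v * v) * (h : G)⁻¹ by group,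
          hvv]; group
      have hback : (c⁻¹ * (h : G)⁻¹) * v' * (c⁻¹ * (h : G)⁻¹)⁻¹ = w := by rw [hv', hv]; group
      have hv'Z : v' ∈ C.Z := by
        by_contra hnZ
        rcases C.mem_A_or_B hmS hv'' with ha | hb
        · exact hside C rfl v' ha hnZ _ hback
        · exact hside C.swap C.swap_Z v' (C.swap_A.symm ▸ hb) (C.swap_Z.symm ▸ hnZ) _ hback
      have hfix : (h : G) * w * (h : G)⁻¹ = w := by
        rw [(mem_centralizer_singleton_iff.1 h.2 : (h : G) * w = w * h), mul_inv_cancel_right]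
      have hv'w : v' ≠ w := fun e => hne (mul_left_cancel (mul_right_cancel (e.trans hfix.symm)))
      rcases hZ v' hv'Z with e | e | e | e
      · have : orderOf v' = 2 := by
          rw [hv', ← MulAut.conj_apply, MulEquiv.orderOf_eq, hv, ← MulAut.conj_apply, MulEquiv.orderOf_eq, hwo]
        rw [e, orderOf_one] at this; omega
      · apply hwz
        rw [← hback, e, (hcen _).symm.eq, mul_inv_cancel_right]
      · exact hv'w e
      · -- an odd element of `N(S)` cannot move `w` to `w * z`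
        obtain ⟨n, hn, hne'⟩ := C.exists_normalizer_S hw (g := (h : G) * c) (by
          rw [show (h : G) * c * w * ((h : G) * c)⁻¹ = v' by rw [hv', hv]; group]; exact hv'Z)
        have hnw : n * w * n⁻¹ = w * z := by rw [hne', ← e, hv', hv]; group
        have hnz : n * z * n⁻¹ = z := by rw [(hcen n).symm.eq, mul_inv_cancel_right]
        have hn2 : Commute (n * n) w := by
          have : n * n * w * (n * n)⁻¹ = w := by
            calc n * n * w * (n * n)⁻¹ = n * (n * w * n⁻¹) * n⁻¹ := by group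
              _ = n * (w * z) * n⁻¹ := by rw [hnw]
              _ = n * w * n⁻¹ * (n * z * n⁻¹) := by group
              _ = w := by rw [hnw, hnz, mul_assoc, hzz, mul_one]
          exact mul_inv_eq_iff_eq_mul.1 this
        obtain ⟨j, m, hm, hjm⟩ := Nat.exists_eq_pow_mul_and_not_dvd (orderOf_pos n).ne' 2 (by norm_num)
        have hp2 : IsPGroup 2 ↥(zpowers (n ^ m)) := by
          refine IsPGroup.of_card (n := j) ?_
          rw [Nat.card_zpowers, orderOf_pow_of_dvd (by omega) ⟨2 ^ j, by rw [hjm]; ring⟩, hjm,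
            Nat.mul_div_cancel _ (by omega)]
        have hnm : n ^ m ∈ normalizer (C.Z : Set G) := by
          refine mem_normalizer_iff.2 fun u => ⟨C.normalizer_S_conj_Z (pow_mem hn m), fun hu => ?_⟩
          have := C.normalizer_S_conj_Z (inv_mem (pow_mem hn m)) hu
          simpa [mul_assoc] using this
        have hcm := C.commute_of_normalizes hp2 hnm hw
        obtain ⟨i, hi⟩ : Odd m := Nat.odd_iff.2 (by omega)
        rw [hi, pow_succ, pow_mul, pow_two] at hcm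
        have hnc : Commute n w := by
          have := ((hn2.pow_left i).inv_left).mul_left hcm
          rwa [inv_mul_cancel_left] at this
        rw [hnc.eq, mul_inv_cancel_right, left_eq_mul] at hnw
        exact hz1 hnw) (mem_top g)
  have hk1 : k = 1 := by
    have hle : (Cfsg.oddCore ↥(⊤ : Subgroup G)).map (⊤ : Subgroup G).subtype ≤ Cfsg.oddCore G := by
      haveI : ((Cfsg.oddCore ↥(⊤ : Subgroup G)).map (⊤ : Subgroup G).subtype).Normal :=
        ⟨fun x ⟨⟨y, hy⟩, hy', e⟩ c => ⟨⟨c * x * c⁻¹, mem_top _⟩, by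
          subst e
          exact (inferInstance : (Cfsg.oddCore ↥(⊤ : Subgroup G)).Normal).conj_mem _ hy' ⟨c, mem_top c⟩, rfl⟩⟩
      exact Cfsg.Lib.AltEightType.le_oddCore (by
        rw [card_map_of_injective (⊤ : Subgroup G).subtype_injective]
        exact Cfsg.Lib.AltEightType.odd_oddCore _)
    rw [hO] at hle
    exact mem_bot.1 (hle hk)
  rw [hk1, inv_one, one_mul] at hkc
  exact (mem_centralizer_singleton_iff.1 hkc).symm

/-- a central involution in the centre of the Sylow subgroup: the Sylow subgroup is normal -/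
theorem normal_of_central (hO : Cfsg.oddCore G = ⊥) {z : G} (hz : z ∈ C.Z) (hz1 : z ≠ 1)
    (hcen : ∀ g : G, Commute z g) : (C.S : Subgroup G).Normal := by
  haveI : Fact (Nat.Prime 2) := ⟨Nat.prime_two⟩
  have hZc := fun w hw => C.Z_central_of hO hz hz1 hcen (w := w) hw
  haveI : C.Z.Normal := ⟨fun x hx g => by rw [(hZc x hx g).symm.eq, mul_inv_cancel_right]; exact hx⟩
  set f := QuotientGroup.mk' C.Z
  have hfs : Function.Surjective f := QuotientGroup.mk'_surjective _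
  let T : Sylow 2 (G ⧸ C.Z) := C.S.mapSurjective hfs
  have hTmem : ∀ {x : G}, f x ∈ T ↔ x ∈ (C.S : Subgroup G) := by
    intro x
    refine ⟨?_, fun hx => ⟨x, hx, rfl⟩⟩
    rintro ⟨s, hs, e⟩
    have := C.Z_le (QuotientGroup.eq.1 e)
    rwa [mul_mem_cancel_left (inv_mem hs)] at this
  have hab : Cfsg.Lib.Walter.AbTwo (G ⧸ C.Z) := fun R x hx y hy => by
    obtain ⟨g, hg⟩ := MulAction.exists_smul_eq (G ⧸ C.Z) R T
    have hx' : g * x * g⁻¹ ∈ T := by rw [← hg]; exact ⟨x, hx, rfl⟩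
    have hy' : g * y * g⁻¹ ∈ T := by rw [← hg]; exact ⟨y, hy, rfl⟩
    obtain ⟨s, hs, es⟩ := hx'
    obtain ⟨t, ht, et⟩ := hy'
    obtain ⟨w, hw, e⟩ := C.commutator_mem_Z hs ht
    have h : f s * f t = f t * f s := by
      rw [← map_mul, ← map_mul, e, map_mul _ (t * s), show f w = 1 from (QuotientGroup.eq_one_iff _).2 hw, mul_one]
    rw [es, et] at h
    have := congrArg (fun u => g⁻¹ * u * g) h
    simpa [mul_assoc] using this
  have hcore : Cfsg.pPrimeCore 2 (G ⧸ C.Z) = ⊥ := by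
    show Cfsg.oddCore (G ⧸ C.Z) = ⊥
    set N := Cfsg.oddCore (G ⧸ C.Z)
    set M := N.comap f
    haveI : M.Normal := inferInstance
    have hNo := Cfsg.Lib.AltEightType.odd_oddCore (G ⧸ C.Z)
    have hZM : C.Z ≤ M := fun w hw => by
      show f w ∈ N
      rw [show f w = 1 from (QuotientGroup.eq_one_iff _).2 hw]; exact one_mem _
    set P := C.Z.subgroupOf M
    have hP2 : IsPGroup 2 P := (C.isPGroup_of_le_S C.Z_le).comap_subtype
    have hidx : ¬ 2 ∣ P.index := fun h2 => by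
      have hd : P.index ∣ Nat.card N := by
        show C.Z.relIndex M ∣ _
        have h := relIndex_comap (⊥ : Subgroup (G ⧸ C.Z)) f M
        rw [MonoidHom.comap_bot, map_comap_eq_self_of_surjective hfs, relIndex_bot_left,
          show f.ker = C.Z from QuotientGroup.ker_mk' _] at h
        rw [h]
      exact (Nat.not_even_iff_odd.2 hNo) (even_iff_two_dvd.2 (h2.trans hd))
    obtain ⟨L, hL, hLc, hLi⟩ := Cfsg.Lib.PermGen.burnside_complement (hP2.toSylow hidx) (fun y _ =>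
      mem_centralizer_iff.2 fun p hp => Subtype.ext (hZc p hp y))
    haveI := hL
    have hPP : ((hP2.toSylow hidx : Sylow 2 M) : Subgroup M) = P := rfl
    rw [hPP] at hLc hLi
    have hLodd : Odd (Nat.card L) := by
      have h := P.card_mul_index
      rw [← hLc, mul_comm (Nat.card L)] at h
      rw [← Nat.eq_of_mul_eq_mul_left Nat.card_pos h]
      exact Nat.not_even_iff_odd.1 fun he => hidx (even_iff_two_dvd.1 he)
    have hK : (Cfsg.oddCore ↥M).map M.subtype ≤ Cfsg.oddCore G := by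
      haveI : ((Cfsg.oddCore ↥M).map M.subtype).Normal := ⟨fun x hx c => by
        refine Cfsg.Lib.GenFittingAction.le_normalizer_map_char M (Cfsg.oddCore ↥M)
          (?_ : c ∈ normalizer (M : Set G)) |> fun h => (mem_normalizer_iff.1 h x).1 hx
        rw [normalizer_eq_top]; exact mem_top c⟩
      exact Cfsg.Lib.AltEightType.le_oddCore (by
        rw [card_map_of_injective M.subtype_injective]; exact Cfsg.Lib.AltEightType.odd_oddCore _)
    rw [hO, le_bot_iff, map_eq_bot_iff_of_injective _ M.subtype_injective] at hK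
    have hLbot : L = ⊥ := le_bot_iff.1 (hK ▸ Cfsg.Lib.AltEightType.le_oddCore hLodd)
    have hMZ : M ≤ C.Z := fun x hx => by
      have h1 : P = ⊤ := by
        refine eq_top_of_card_eq _ ?_
        rw [← hLc, hLbot, card_bot, one_mul]
      exact (h1 ▸ mem_top (⟨x, hx⟩ : M) : (⟨x, hx⟩ : M) ∈ P)
    rw [eq_bot_iff]
    intro q hq
    obtain ⟨x, rfl⟩ := hfs q
    exact mem_bot.2 ((QuotientGroup.eq_one_iff _).2 (hMZ hq))
  have A : Cfsg.Lib.Walter.CoreFree T :=
    ⟨hab, hcore, fun L hs hna => Cfsg.Lib.Walter.walterProp L hna (hab.subgroup L),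
      Cfsg.Lib.GW.fourGroupProp⟩
  have hnocomp : ∀ L : Subgroup (G ⧸ C.Z), ¬ Cfsg.IsComponent L := by
    intro L hL
    obtain ⟨r, hrL, hrN, -, h2⟩ := Cfsg.Lib.Walter.rot_in A hL
    have h4 := Cfsg.Lib.Walter.card_inf A hL
    obtain ⟨hUL, hUsup⟩ := Cfsg.Lib.Walter.comp_split A hL
    set U := (T : Subgroup (G ⧸ C.Z)) ⊓ centralizer (L : Set (G ⧸ C.Z))
    set V := (T : Subgroup (G ⧸ C.Z)) ⊓ L
    obtain ⟨ρ, hρ⟩ := hfs r
    have hρN : ρ ∈ normalizer ((C.S : Subgroup G) : Set G) := mem_normalizer_iff.2 fun x => by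
      rw [← hTmem, ← hTmem (x := ρ * x * ρ⁻¹), map_mul, map_mul, map_inv, hρ]
      exact mem_normalizer_iff.1 hrN (f x)
    -- congruence modulo the centre
    have hf : ∀ {x y : G}, f x = f y ↔ x⁻¹ * y ∈ C.Z := QuotientGroup.eq
    have hfρ : ∀ x : G, f (ρ * x * ρ⁻¹) = r * f x * r⁻¹ := fun x => by rw [map_mul, map_mul, map_inv, hρ]
    have hfixU : ∀ u ∈ U, r * u * r⁻¹ = u := fun u hu => by
      rw [(mem_centralizer_iff.1 hu.2 r hrL), mul_inv_cancel_right]
    have hdec : ∀ q ∈ T, ∃ u ∈ U, ∃ l ∈ V, u * l = q := fun q hq => by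
      replace hq : q ∈ U ⊔ V := hUsup.symm ▸ hq
      exact (Cfsg.Lib.Coprime.mem_sup_of_le_normalizer (N := U) (H := V) (fun v hv => by
        refine mem_normalizer_iff.2 fun u => ?_
        have hc : ∀ u ∈ U, v * u * v⁻¹ = u := fun u hu => by
          rw [mem_centralizer_iff.1 hu.2 v hv.2, mul_inv_cancel_right]
        refine ⟨fun hu => by rw [hc u hu]; exact hu, fun hu => ?_⟩
        have h := hc _ hu
        rw [mul_left_inj, mul_right_inj] at h
        rwa [h] at hu)).1 hq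
    -- a rotation with a fixed class on a side fixes the side
    have hall : ∀ (D : Coord G), D.S = C.S → D.Z = C.Z → ∀ a ∈ D.A, a ∉ D.Z → f (ρ * a * ρ⁻¹) = f a →
        ∀ y ∈ D.A, f (ρ * y * ρ⁻¹) = f y := by
      intro D hS hD a ha haZ hfa y hy
      have hρD : ρ ∈ normalizer ((D.S : Subgroup G) : Set G) := hS.symm ▸ hρN
      obtain ⟨u, hu, l, hl, hul⟩ := hdec (f y) (hTmem.2 (hS ▸ D.A_le hy))
      have key : f (ρ * (ρ * y * ρ⁻¹) * ρ⁻¹) = f y := by
        have hy' := D.normalizer_S_conj_A hρD hy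
        by_cases hyZ : y ∈ D.Z
        · have h1 : f y = 1 := (QuotientGroup.eq_one_iff _).2 (hD ▸ hyZ)
          rw [hfρ, hfρ, h1]; group
        by_cases hay : a⁻¹ * y ∈ D.Z
        · have e : f a = f y := hf.2 (hD ▸ hay)
          rw [hfρ, hfρ, ← e, ← hfρ, hfa, ← hfρ, hfa]
        have hy'Z : ρ * y * ρ⁻¹ ∉ D.Z := fun h => hyZ (by
          have := D.normalizer_S_conj_Z (inv_mem hρD) h
          simpa [mul_assoc] using this)
        have hy'a : a⁻¹ * (ρ * y * ρ⁻¹) ∉ D.Z := fun h => hay (by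
          have h' := hf.2 (hD ▸ h)
          rw [← hfa, hfρ, hfρ, mul_left_inj, mul_right_inj] at h'
          exact hD.symm ▸ hf.1 h')
        rcases D.class_cases ha hy hy' haZ hyZ hay hy'Z hy'a with h | h
        · have e : f y = f (ρ * y * ρ⁻¹) := hf.2 (hD ▸ h)
          rw [hfρ, ← e, ← hfρ, ← e]
        · have e : f (a * y) = f (ρ * y * ρ⁻¹) := hf.2 (hD ▸ h)
          have ha1 : f a * f a = 1 := by rw [← map_mul, D.A_sq ha, map_one]
          rw [hfρ, ← e, map_mul, show r * (f a * f y) * r⁻¹ = (r * f a * r⁻¹) * (r * f y * r⁻¹) by group,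
            ← hfρ, ← hfρ, hfa, ← e, map_mul, ← mul_assoc, ha1, one_mul]
      rw [hfρ, hfρ, ← hul] at key
      have hl2 : r ^ 2 * l * (r ^ 2)⁻¹ = l := by
        have : r * (r * (u * l) * r⁻¹) * r⁻¹ = (r * (r * u * r⁻¹) * r⁻¹) * (r ^ 2 * l * (r ^ 2)⁻¹) := by group
        rw [this, hfixU u hu, hfixU u hu] at key
        exact mul_left_cancel key
      have hl1 : l = 1 := h2 2 (fun h => by have := Nat.le_of_dvd two_pos h; omega) l hl hl2
      rw [hfρ, ← hul, hl1, mul_one]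
      exact hfixU u hu
    -- nondegeneracy
    have hother : ∀ (D : Coord G), D.S = C.S → D.Z = C.Z → (∀ y ∈ D.A, f (ρ * y * ρ⁻¹) = f y) →
        ∀ b ∈ D.B, f (ρ * b * ρ⁻¹) = f b := by
      intro D hS hD hA b hb
      have hρD : ρ ∈ normalizer ((D.S : Subgroup G) : Set G) := hS.symm ▸ hρN
      obtain ⟨a, ha, haZ⟩ := D.exists_not_mem_Z_A
      obtain ⟨k, hk, hkab⟩ := D.commutator_mem_Z (D.A_le ha) (D.B_le hb)
      set b' := ρ * b * ρ⁻¹ with hb'
      have hb'B := D.normalizer_S_conj_B hρD hb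
      have hkc : ∀ g, Commute k g := hZc k (hD ▸ hk)
      obtain ⟨w, hw, hwa⟩ : ∃ w ∈ D.Z, ρ * a * ρ⁻¹ = a * w := ⟨a⁻¹ * (ρ * a * ρ⁻¹),
        hD.symm ▸ hf.1 (hA a ha).symm, by group⟩
      have hwc : ∀ g, Commute w g := hZc w (hD ▸ hw)
      have h1 : a * b' = b' * a * k := by
        have h := congrArg (fun v => ρ * v * ρ⁻¹) hkab
        replace h : ρ * (a * b) * ρ⁻¹ = ρ * (b * a * k) * ρ⁻¹ := h
        rw [show ρ * (a * b) * ρ⁻¹ = (ρ * a * ρ⁻¹) * b' by rw [hb']; group,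
          show ρ * (b * a * k) * ρ⁻¹ = b' * (ρ * a * ρ⁻¹) * (ρ * k * ρ⁻¹) by rw [hb']; group, hwa,
          (hkc ρ).symm.eq, mul_inv_cancel_right] at h
        apply mul_right_cancel (b := w)
        calc a * b' * w = a * w * b' := by rw [mul_assoc, (hwc b').symm.eq, mul_assoc]
          _ = b' * (a * w) * k := h
          _ = b' * a * k * w := by rw [← mul_assoc, mul_assoc _ w k, (hwc k).eq, ← mul_assoc]
      have hc : Commute a (b * b') := by
        show a * (b * b') = b * b' * a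
        have hkk : k * k = 1 := D.A_sq (D.Z_le_A hk)
        calc a * (b * b') = a * b * b' := (mul_assoc _ _ _).symm
          _ = b * a * (k * b') := by rw [hkab, mul_assoc]
          _ = b * (a * b') * k := by rw [(hkc b').eq]; simp only [mul_assoc]
          _ = b * b' * a * (k * k) := by rw [h1]; simp only [mul_assoc]
          _ = b * b' * a := by rw [hkk, mul_one]
      have hmem : b * b' ∈ D.Z := ⟨D.mem_A_of_commute ha haZ (D.B_le (mul_mem hb hb'B)) hc, mul_mem hb hb'B⟩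
      show f b' = f b
      refine (hf.2 ?_).symm
      rw [inv_eq_of_mul_eq_one_right (D.B_sq hb)]
      exact hD ▸ hmem
    have hfix : ∀ q ∈ T, r * q * r⁻¹ = q := by
      intro q hq
      obtain ⟨x, hx, rfl⟩ : ∃ x ∈ (C.S : Subgroup G), f x = q := hq
      by_cases hU : U = ⊥
      · exfalso
        have hTV : (T : Subgroup (G ⧸ C.Z)) = V := by rw [← hUsup, hU, bot_sup_eq]
        obtain ⟨a, ha, haZ⟩ := C.exists_not_mem_Z_A
        have hfa : f a ∈ V := hTV ▸ hTmem.2 (C.A_le ha)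
        have hcardT : Nat.card (T : Subgroup (G ⧸ C.Z)) = 16 := by
          have hc := card_eq_card_quotient_mul_card_subgroup (C.Z.subgroupOf (C.S : Subgroup G))
          rw [Nat.card_congr (subgroupOfEquivOfLe C.Z_le).toEquiv, C.card_S, C.card_Z] at hc
          have hk : (f.comp (C.S : Subgroup G).subtype).ker = C.Z.subgroupOf (C.S : Subgroup G) := by
            ext y; exact QuotientGroup.eq_one_iff _
          have hr : (f.comp (C.S : Subgroup G).subtype).range = (T : Subgroup (G ⧸ C.Z)) := by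
            rw [MonoidHom.range_comp, range_subtype]; rfl
          rw [← hr, ← Nat.card_congr (QuotientGroup.quotientKerEquivRange _).toEquiv, hk]
          omega
        have h6 : r ^ 6 * f a * (r ^ 6)⁻¹ = f a := by
          rw [← hρ, ← map_pow, ← map_inv, ← map_mul, ← map_mul]
          exact hf.2 (C.class_period hρN ha haZ)
        have := h2 6 (fun h => by
          have h15 : Nat.card V = 16 := hTV ▸ hcardT
          rw [h15] at h
          exact absurd h (by norm_num)) (f a) hfa h6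
        exact haZ ((QuotientGroup.eq_one_iff _).1 this)
      obtain ⟨u, hu, hu1⟩ := (bot_or_exists_ne_one U).resolve_left hU
      obtain ⟨v, hv, hvu⟩ : ∃ v ∈ (C.S : Subgroup G), f v = u := hu.1
      obtain ⟨a, ha, b, hb, hab'⟩ := C.exists_split hv
      have hSC : C.swap.S = C.S := rfl
      have hvfix : f (ρ * a * ρ⁻¹) = f a ∧ f (ρ * b * ρ⁻¹) = f b := by
        have h := hfixU u hu
        rw [← hvu, ← hfρ, hf, ← hab',
          show (ρ * (a * b) * ρ⁻¹)⁻¹ * (a * b) = (ρ * b * ρ⁻¹)⁻¹ * ((ρ * a * ρ⁻¹)⁻¹ * a) * b by group] at h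
        have hZ1 : (ρ * a * ρ⁻¹)⁻¹ * a ∈ C.Z := by
          refine mem_inf.2 ⟨mul_mem (inv_mem (C.normalizer_S_conj_A hρN ha)) ha, ?_⟩
          have := mul_mem (mul_mem (C.normalizer_S_conj_B hρN hb) (C.Z_le_B h)) (inv_mem hb)
          simpa [mul_assoc] using this
        refine ⟨hf.2 hZ1, hf.2 ?_⟩
        rw [mul_assoc, (hZc _ hZ1 b).eq, ← mul_assoc] at h
        exact (mul_mem_cancel_right hZ1).1 h
      have hside : (∀ y ∈ C.A, f (ρ * y * ρ⁻¹) = f y) ∧ (∀ y ∈ C.B, f (ρ * y * ρ⁻¹) = f y) := by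
        by_cases haZ : a ∈ C.Z
        · have hbZ : b ∉ C.Z := fun h => hu1 (by
            rw [← hvu, ← hab']
            exact (QuotientGroup.eq_one_iff _).2 (mul_mem haZ h))
          have hB := hall C.swap hSC C.swap_Z b (C.swap_A.symm ▸ hb) (C.swap_Z.symm ▸ hbZ) hvfix.2
          exact ⟨fun y hy => hother C.swap hSC C.swap_Z hB y (C.swap_B.symm ▸ hy),
            fun y hy => hB y (C.swap_A.symm ▸ hy)⟩
        · have hA := hall C rfl rfl a ha haZ hvfix.1
          exact ⟨hA, hother C rfl rfl hA⟩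
      obtain ⟨a', ha', b', hb', rfl⟩ := C.exists_split hx
      rw [← hfρ, map_mul f a' b', show ρ * (a' * b') * ρ⁻¹ = (ρ * a' * ρ⁻¹) * (ρ * b' * ρ⁻¹) by group, map_mul,
        hside.1 a' ha', hside.2 b' hb']
    obtain ⟨l, hl, hl1⟩ := (bot_or_exists_ne_one V).resolve_left (fun h => by rw [h, card_bot] at h4; omega)
    exact hl1 (h2 1 (fun h => by have := Nat.le_of_dvd one_pos h; omega) l hl (by rw [pow_one]; exact hfix l hl.1))
  have hl : Cfsg.layer (G ⧸ C.Z) = ⊥ := eq_bot_iff.2 (sSup_le fun L hL => absurd hL (hnocomp L))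
  have hTP : (T : Subgroup (G ⧸ C.Z)) = Cfsg.pCore 2 (G ⧸ C.Z) :=
    le_antisymm (by simpa [hl] using Cfsg.Lib.Walter.sylow_le_genFit A) (Cfsg.Lib.Walter.pCore_le A)
  haveI : (T : Subgroup (G ⧸ C.Z)).Normal := hTP ▸ (Cfsg.Lib.Components.pCore_normal_and_isPGroup 2).1
  exact ⟨fun x hx g => hTmem.1 (by
    rw [map_mul, map_mul, map_inv]
    exact (inferInstance : (T : Subgroup (G ⧸ C.Z)).Normal).conj_mem _ (hTmem.2 hx) _)⟩

end Coord

end Cfsg.Lib.LFourType
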