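import Cfsg.Agent.LFourType.Central

/-!
When neither side is moved, no proper subgroup contains `N(S)`, the centralizers of the central involutions
and large parts of the other involution centralizers.
-/

set_option autoImplicit false
set_option linter.unusedSectionVars false
set_option linter.style.haveILetI false

namespace Cfsg.Lib.LFourType

open Subgroup

universe u

variable {G : Type u} [Group G] [Finite G]

/-- the involution of `⟨x y⟩` -/
noncomputable def mid (x y : G) : G := (x * y) ^ (orderOf (x * y) / 2)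

omit [Finite G] in
theorem Coord.swap_swap (C : Coord G) : C.swap.swap = C := by
  obtain ⟨S, e, h1, h2, h3⟩ := C
  simp only [Coord.swap, Coord.mk.injEq, true_and]
  funext x
  simp only [Function.comp_apply, tau_tau]

omit [Finite G] in
theorem mid_conj (g x y : G) : mid (g * x * g⁻¹) (g * y * g⁻¹) = g * mid x y * g⁻¹ := by
  rw [mid, mid, show g * x * g⁻¹ * (g * y * g⁻¹) = MulAut.conj g (x * y) by simp [MulAut.conj_apply, mul_assoc],
    MulEquiv.orderOf_eq, ← map_pow, MulAut.conj_apply]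

theorem mid_spec {x y : G} (hx : x * x = 1) (hy : y * y = 1) (hne : ¬ IsConj x y) :
    orderOf (mid x y) = 2 ∧ Commute x (mid x y) ∧ Commute y (mid x y) := by
  set d := x * y with hd
  have hinv : x * d * x = d⁻¹ := by
    rw [hd, mul_inv_rev, inv_eq_of_mul_eq_one_right hx, inv_eq_of_mul_eq_one_right hy]
    rw [← mul_assoc x x y, hx, one_mul]
  have hpow : ∀ k : ℕ, x * d ^ k * x = (d ^ k)⁻¹ := fun k => by
    induction k with
    | zero => simp [hx]
    | succ k ih =>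
      calc x * d ^ (k + 1) * x = (x * d ^ k * x) * (x * d * x) := by
            rw [pow_succ]; simp only [mul_assoc]; rw [← mul_assoc x x, hx, one_mul]
        _ = (d ^ (k + 1))⁻¹ := by rw [ih, hinv, ← mul_inv_rev, ← pow_succ']
  have hn := orderOf_pos d
  rcases Nat.even_or_odd (orderOf d) with he | ho
  · obtain ⟨m, hm⟩ := he
    have hm' : orderOf d / 2 = m := by omega
    have ho2 : orderOf (d ^ m) = 2 := by
      rw [orderOf_pow_of_dvd (by omega) ⟨2, by omega⟩, hm, ← two_mul, Nat.mul_div_cancel _ (by omega)]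
    have hcc : (d ^ m)⁻¹ = d ^ m := inv_eq_of_mul_eq_one_right (by
      rw [← pow_two, ← ho2, pow_orderOf_eq_one])
    have hcx : Commute x (d ^ m) := by
      show x * d ^ m = d ^ m * x
      have := hpow m
      rw [hcc] at this
      calc x * d ^ m = x * d ^ m * x * x := by rw [mul_assoc (x * d ^ m) x x, hx, mul_one]
        _ = d ^ m * x := by rw [this]
    refine ⟨by rw [mid, ← hd, hm', ho2], by rw [mid, ← hd, hm']; exact hcx, ?_⟩
    rw [mid, ← hd, hm']
    have hy' : y = x⁻¹ * d := by rw [hd]; group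
    rw [hy']
    exact (hcx.inv_left).mul_left ((Commute.refl d).pow_right m)
  · exfalso
    apply hne
    obtain ⟨k, hk⟩ := ho
    refine isConj_iff.2 ⟨d ^ k, ?_⟩
    have h1 : x * (d ^ k)⁻¹ = d ^ k * x := by
      rw [← hpow k, ← mul_assoc, ← mul_assoc, hx, one_mul]
    calc d ^ k * x * (d ^ k)⁻¹ = d ^ k * (x * (d ^ k)⁻¹) := mul_assoc _ _ _
      _ = d ^ (k + k) * x := by rw [h1, ← mul_assoc, ← pow_add]
      _ = y := by
        have hy' : d ^ (k + k) = d⁻¹ := by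
          refine (inv_eq_of_mul_eq_one_right ?_).symm
          rw [← pow_succ', show k + k + 1 = orderOf d by omega, pow_orderOf_eq_one]
        rw [hy', hd, mul_inv_rev, inv_eq_of_mul_eq_one_right hx, inv_eq_of_mul_eq_one_right hy, mul_assoc, hx,
          mul_one]

namespace Coord

variable (C : Coord G)

/-- conjugate to an element of `A` outside the centre -/
def IsA (x : G) : Prop := ∃ g a, a ∈ C.A ∧ a ∉ C.Z ∧ g * a * g⁻¹ = x

/-- conjugate to a nontrivial element of the centre -/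
def IsZ (x : G) : Prop := ∃ g z, z ∈ C.Z ∧ z ≠ 1 ∧ g * z * g⁻¹ = x

theorem IsA.sq {x : G} (h : C.IsA x) : x * x = 1 := by
  obtain ⟨g, a, ha, -, rfl⟩ := h
  rw [show g * a * g⁻¹ * (g * a * g⁻¹) = g * (a * a) * g⁻¹ by group, C.A_sq ha]; group

theorem IsA.conj {x : G} (h : C.IsA x) (g : G) : C.IsA (g * x * g⁻¹) := by
  obtain ⟨k, a, ha, hz, rfl⟩ := h
  exact ⟨g * k, a, ha, hz, by group⟩

variable (hA : ¬ C.Moved) (hB : ¬ C.swap.Moved)

include hA in
theorem IsA.not_isZ {x : G} (h : C.IsA x) : ¬ C.IsZ x := by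
  obtain ⟨g, a, ha, haZ, rfl⟩ := h
  rintro ⟨k, z, hz, -, e⟩
  refine C.unfused_A hA ha haZ (k⁻¹ * g) ?_
  rw [show k⁻¹ * g * a * (k⁻¹ * g)⁻¹ = k⁻¹ * (g * a * g⁻¹) * k by group, ← e]
  simpa [mul_assoc] using hz

include hA in
theorem IsA.not_isB {x : G} (h : C.IsA x) : ¬ C.swap.IsA x := by
  obtain ⟨g, a, ha, haZ, rfl⟩ := h
  rintro ⟨k, b, hb, hbZ, e⟩
  rw [C.swap_A] at hb
  rw [C.swap_Z] at hbZ
  have h := C.conj_into_A ha haZ (C.unfused_A hA ha haZ) (g := k⁻¹ * g) (by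
    rw [show k⁻¹ * g * a * (k⁻¹ * g)⁻¹ = k⁻¹ * (g * a * g⁻¹) * k by group, ← e]
    simpa [mul_assoc] using C.B_le hb)
  refine hbZ ⟨?_, hb⟩
  have h1 := h.1
  rw [show k⁻¹ * g * a * (k⁻¹ * g)⁻¹ = k⁻¹ * (g * a * g⁻¹) * k by group, ← e] at h1
  simpa [mul_assoc] using h1

include hA in
/-- an involution commuting with an element of the class of `A` -/
theorem IsA.commute_cases {x c : G} (h : C.IsA x) (hc : Commute x c) (hc2 : orderOf c = 2) :
    C.IsA c ∨ C.IsZ c := by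
  haveI : Fact (Nat.Prime 2) := ⟨Nat.prime_two⟩
  obtain ⟨g, a, ha, haZ, rfl⟩ := h
  set K := centralizer ({a} : Set G)
  set c' := g⁻¹ * c * g with hc'
  have hc'K : c' ∈ K := mem_centralizer_singleton_iff.2 (by
    have := commute_conj (g := g⁻¹) hc
    rw [show g⁻¹ * (g * a * g⁻¹) * g⁻¹⁻¹ = a by group, inv_inv, ← hc'] at this
    exact this.symm.eq)
  have hco : orderOf c' = 2 := by
    rw [hc', show g⁻¹ * c * g = MulAut.conj g⁻¹ c by simp [MulAut.conj_apply], MulEquiv.orderOf_eq, hc2]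
  have hp : IsPGroup 2 ↥(zpowers (⟨c', hc'K⟩ : K)) := IsPGroup.of_card (n := 1) (by
    rw [Nat.card_zpowers, orderOf_mk, hco, pow_one])
  obtain ⟨P, hP⟩ := hp.exists_le_sylow
  obtain ⟨P', hP'⟩ := ((C.isPGroup_of_le_S C.A_le).comap_subtype (K := K)).exists_le_sylow
  have hA' : (P' : Subgroup K).map K.subtype = C.A :=
    C.le_A_of_unfused ha haZ (C.unfused_A hA ha haZ) (P'.2.map _)
      (by rintro _ ⟨y, -, rfl⟩; exact (mem_centralizer_singleton_iff.1 y.2).symm)
      (fun y hy => ⟨⟨y, mem_centralizer_singleton_iff.2 (C.A_comm hy ha).eq⟩, hP' hy, rfl⟩)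
  obtain ⟨k, hk⟩ := MulAction.exists_smul_eq K P P'
  have hm : (k : G) * c' * (k : G)⁻¹ ∈ C.A := by
    rw [← hA']
    refine ⟨k * ⟨c', hc'K⟩ * k⁻¹, ?_, rfl⟩
    rw [← hk, Sylow.coe_subgroup_smul]
    exact ⟨⟨c', hc'K⟩, hP (mem_zpowers _), rfl⟩
  have e : g * (k : G)⁻¹ * ((k : G) * c' * (k : G)⁻¹) * (g * (k : G)⁻¹)⁻¹ = c := by rw [hc']; group
  by_cases hz : (k : G) * c' * (k : G)⁻¹ ∈ C.Z
  · refine Or.inr ⟨_, _, hz, fun h1 => ?_, e⟩
    rw [h1] at e
    rw [← e] at hc2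
    simp at hc2
  · exact Or.inl ⟨_, _, hm, hz, e⟩

include hA hB in
theorem isZ_mid {x y : G} (hx : C.IsA x) (hy : C.swap.IsA y) :
    C.IsZ (mid x y) ∧ Commute x (mid x y) ∧ Commute y (mid x y) := by
  have hne : ¬ IsConj x y := fun h => by
    obtain ⟨g, hg⟩ := isConj_iff.1 h
    exact IsA.not_isB C hA (hg ▸ IsA.conj C hx g) hy
  obtain ⟨ho, hcx, hcy⟩ := mid_spec (IsA.sq C hx) (IsA.sq C.swap hy) hne
  refine ⟨?_, hcx, hcy⟩
  rcases IsA.commute_cases C hA hx hcx ho with h | h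
  · rcases IsA.commute_cases C.swap hB hy hcy ho with h' | h'
    · exact absurd h' (IsA.not_isB C hA h)
    · obtain ⟨g, z, hz, hz1, e⟩ := h'
      exact ⟨g, z, C.swap_Z ▸ hz, hz1, e⟩
  · exact h

variable (M : Subgroup G)

theorem card_fixed_le {x : G} (hN : normalizer ((C.S : Subgroup G) : Set G) ≤ M)
    (hNA : normalizer (C.A : Set G) ≤ M) (hA : ¬ C.Moved) (hx : C.IsA x) {m : ℕ}
    (hm : ∀ a ∈ C.A, a ∉ C.Z → M.relIndex (centralizer ({a} : Set G)) ≤ m) :
    Nat.card {q : G ⧸ M // q.out⁻¹ * x * q.out ∈ M} ≤ m := by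
  classical
  haveI : Fact (Nat.Prime 2) := ⟨Nat.prime_two⟩
  obtain ⟨h, a, ha, haZ, rfl⟩ := hx
  set K := centralizer ({a} : Set G)
  refine le_trans ?_ (hm a ha haZ)
  let φ : K ⧸ M.subgroupOf K → G ⧸ M :=
    Quotient.lift (fun k : K => (QuotientGroup.mk (h * k) : G ⧸ M)) fun k k' hkk => by
      have hkk' := QuotientGroup.leftRel_apply.1 hkk
      refine QuotientGroup.eq.2 ?_
      rw [show (h * (k : G))⁻¹ * (h * k') = (k : G)⁻¹ * k' by group]
      exact hkk'
  show Nat.card {q : G ⧸ M // q.out⁻¹ * (h * a * h⁻¹) * q.out ∈ M} ≤ (M.subgroupOf K).index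
  rw [index_eq_card]
  refine Nat.card_le_card_of_surjective (α := K ⧸ M.subgroupOf K)
    (fun p => if hp : (φ p).out⁻¹ * (h * a * h⁻¹) * (φ p).out ∈ M then ⟨φ p, hp⟩ else
      ⟨QuotientGroup.mk h, by
        obtain ⟨m', hm'⟩ := QuotientGroup.mk_out_eq_mul M h
        rw [hm', show (h * (m' : G))⁻¹ * (h * a * h⁻¹) * (h * m') = (m' : G)⁻¹ * a * m' by group]
        exact mul_mem (mul_mem (inv_mem m'.2) (hN (le_normalizer (C.A_le ha)))) m'.2⟩) ?_
  rintro ⟨q, hq⟩
  set w := q.out⁻¹ * (h * a * h⁻¹) * q.out with hw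
  have hwo : w * w = 1 := by
    rw [hw, show q.out⁻¹ * (h * a * h⁻¹) * q.out * (q.out⁻¹ * (h * a * h⁻¹) * q.out) =
      q.out⁻¹ * h * (a * a) * (q.out⁻¹ * h)⁻¹ by group, C.A_sq ha]; group
  have hp : IsPGroup 2 ↥(zpowers (⟨w, hq⟩ : M)) := fun u => ⟨1, by
    obtain ⟨_, j, rfl⟩ := u
    refine Subtype.ext ?_
    show ((⟨w, hq⟩ : M) ^ j) ^ (2 ^ 1) = 1
    rw [pow_one, pow_two, ← (Commute.refl _).mul_zpow, show (⟨w, hq⟩ : M) * ⟨w, hq⟩ = 1 from Subtype.ext hwo,
      one_zpow]⟩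
  obtain ⟨P, hP⟩ := hp.exists_le_sylow
  have hSM : (C.S : Subgroup G) ≤ M := le_normalizer.trans hN
  obtain ⟨c, hc⟩ := MulAction.exists_smul_eq M P (C.S.subtype hSM)
  have hcw : (c : G) * w * (c : G)⁻¹ ∈ (C.S : Subgroup G) := by
    have : c * ⟨w, hq⟩ * c⁻¹ ∈ ((C.S.subtype hSM : Sylow 2 M) : Subgroup M) := by
      rw [← hc, Sylow.coe_subgroup_smul]
      exact ⟨⟨w, hq⟩, hP (mem_zpowers _), rfl⟩
    exact this
  set g := (c : G) * q.out⁻¹ * h with hg
  obtain ⟨-, n, hn, hne⟩ := C.conj_into_A ha haZ (C.unfused_A hA ha haZ) (g := g) (by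
    rwa [hg, show (c : G) * q.out⁻¹ * h * a * ((c : G) * q.out⁻¹ * h)⁻¹ = (c : G) * w * (c : G)⁻¹ by
      rw [hw]; group])
  have hk : g⁻¹ * n ∈ K := mem_centralizer_singleton_iff.2 (by
    calc g⁻¹ * n * a = g⁻¹ * (n * a * n⁻¹) * n := by group
      _ = a * (g⁻¹ * n) := by rw [hne]; group)
  have hq' : φ (QuotientGroup.mk ⟨g⁻¹ * n, hk⟩) = q := by
    show (QuotientGroup.mk (h * (g⁻¹ * n)) : G ⧸ M) = q
    rw [← QuotientGroup.out_eq' q, QuotientGroup.eq]
    rw [show (h * (g⁻¹ * n))⁻¹ * q.out = n⁻¹ * (c : G) by rw [hg]; group]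
    exact mul_mem (inv_mem (hNA hn)) c.2
  refine ⟨QuotientGroup.mk ⟨g⁻¹ * n, hk⟩, ?_⟩
  simp only [hq']
  rw [dif_pos hq]

variable (hN : normalizer ((C.S : Subgroup G) : Set G) ≤ M)
  (hNA : normalizer (C.A : Set G) ≤ M) (hNB : normalizer (C.B : Set G) ≤ M)
  (hZ : ∀ z ∈ C.Z, z ≠ 1 → centralizer ({z} : Set G) ≤ M)

include hN hZ in
/-- a central involution fixes only one coset -/
theorem mem_of_Z_conj {z g : G} (hz : z ∈ C.Z) (hz1 : z ≠ 1) (hA : ¬ C.Moved) (hB : ¬ C.swap.Moved)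
    (hg : g⁻¹ * z * g ∈ M) : g ∈ M := by
  haveI : Fact (Nat.Prime 2) := ⟨Nat.prime_two⟩
  set w := g⁻¹ * z * g with hw
  have hwo : orderOf w = 2 := by
    rw [hw, show g⁻¹ * z * g = MulAut.conj g⁻¹ z by simp [MulAut.conj_apply], MulEquiv.orderOf_eq]
    exact orderOf_eq_prime (by rw [pow_two]; exact C.A_sq (C.Z_le_A hz)) hz1
  have hp : IsPGroup 2 ↥(zpowers (⟨w, hg⟩ : M)) := IsPGroup.of_card (n := 1) (by
    rw [Nat.card_zpowers, orderOf_mk, hwo, pow_one])
  obtain ⟨P, hP⟩ := hp.exists_le_sylow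
  have hSM : (C.S : Subgroup G) ≤ M := le_normalizer.trans hN
  obtain ⟨c, hc⟩ := MulAction.exists_smul_eq M P (C.S.subtype hSM)
  have hcw : (c : G) * w * (c : G)⁻¹ ∈ (C.S : Subgroup G) := by
    have : c * ⟨w, hg⟩ * c⁻¹ ∈ ((C.S.subtype hSM : Sylow 2 M) : Subgroup M) := by
      rw [← hc, Sylow.coe_subgroup_smul]
      exact ⟨⟨w, hg⟩, hP (mem_zpowers _), rfl⟩
    exact this
  set k := (c : G) * g⁻¹ with hk
  have hkz : k * z * k⁻¹ = (c : G) * w * (c : G)⁻¹ := by rw [hk, hw]; group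
  have hkA : k * z * k⁻¹ ∈ C.Z := by
    have h1 := C.A_closed hB (C.Z_le_A hz) (g := k) (hkz ▸ hcw)
    have h2 : k * z * k⁻¹ ∈ C.B := by
      rw [← C.swap_A]
      exact C.swap.A_closed (by rwa [C.swap_swap]) (by rw [C.swap_A]; exact C.Z_le_B hz) (g := k) (hkz ▸ hcw)
    exact mem_inf.2 ⟨h1, h2⟩
  obtain ⟨n, hn, hne⟩ := C.exists_normalizer_S hz hkA
  have hnk : n⁻¹ * k ∈ centralizer ({z} : Set G) := mem_centralizer_singleton_iff.2 (by
    calc n⁻¹ * k * z = n⁻¹ * (k * z * k⁻¹) * k := by group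
      _ = z * (n⁻¹ * k) := by rw [← hne]; group)
  have h1 := mul_mem (hN hn) (hZ z hz hz1 hnk)
  rw [mul_inv_cancel_left, hk] at h1
  have := mul_mem (inv_mem c.2) h1
  rw [inv_mul_cancel_left] at this
  simpa using this

include hA hB hN hNA hNB hZ in
theorem index_le {mA mB : ℕ}
    (hmA : ∀ a ∈ C.A, a ∉ C.Z → M.relIndex (centralizer ({a} : Set G)) ≤ mA)
    (hmB : ∀ b ∈ C.B, b ∉ C.Z → M.relIndex (centralizer ({b} : Set G)) ≤ mB) : M.index ≤ mA * mB := by
  classical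
  haveI : Fact (Nat.Prime 2) := ⟨Nat.prime_two⟩
  let AH := {x : G // C.IsA x}
  let BH := {x : G // C.swap.IsA x}
  let AM := {x : G // C.IsA x ∧ x ∈ M}
  let BM := {x : G // C.swap.IsA x ∧ x ∈ M}
  -- every pair is a translate of a pair inside `M`
  have hkey : ∀ p : AH × BH, ∃ q : G ⧸ M, q.out⁻¹ * p.1.1 * q.out ∈ M ∧ q.out⁻¹ * p.2.1 * q.out ∈ M := by
    intro p
    obtain ⟨⟨g, z, hz, hz1, e⟩, hcx, hcy⟩ := C.isZ_mid hA hB p.1.2 p.2.2
    refine ⟨QuotientGroup.mk g, ?_⟩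
    obtain ⟨m, hm⟩ := QuotientGroup.mk_out_eq_mul M g
    rw [hm]
    have key : ∀ v : G, Commute v (mid p.1.1 p.2.1) → (g * (m : G))⁻¹ * v * (g * m) ∈ M := fun v hv => by
      rw [show (g * (m : G))⁻¹ * v * (g * m) = (m : G)⁻¹ * (g⁻¹ * v * g) * m by group]
      refine mul_mem (mul_mem (inv_mem m.2) (hZ z hz hz1 (mem_centralizer_singleton_iff.2 ?_))) m.2
      have := commute_conj (g := g⁻¹) hv
      rw [← e, show g⁻¹ * (g * z * g⁻¹) * g⁻¹⁻¹ = z by group, inv_inv] at this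
      exact this.eq
    exact ⟨key _ hcx, key _ hcy⟩
  choose q hqA hqB using hkey
  have hle1 : Nat.card AH * Nat.card BH ≤ M.index * (Nat.card AM * Nat.card BM) := by
    rw [index_eq_card, ← Nat.card_prod, ← Nat.card_prod, ← Nat.card_prod]
    refine Nat.card_le_card_of_injective (fun p => (q p,
      ((⟨(q p).out⁻¹ * p.1.1 * (q p).out, by
        have := IsA.conj C p.1.2 (q p).out⁻¹
        rwa [inv_inv] at this, hqA p⟩ : AM),
      (⟨(q p).out⁻¹ * p.2.1 * (q p).out, by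
        have := IsA.conj C.swap p.2.2 (q p).out⁻¹
        rwa [inv_inv] at this, hqB p⟩ : BM)))) ?_
    intro p p' h
    simp only [Prod.mk.injEq, Subtype.mk.injEq] at h
    obtain ⟨h1, h2', h3'⟩ := h
    have h2 := congrArg Subtype.val h2'
    have h3 := congrArg Subtype.val h3'
    simp only [h1] at h2 h3
    exact Prod.ext (Subtype.ext (mul_left_cancel (mul_right_cancel h2)))
      (Subtype.ext (mul_left_cancel (mul_right_cancel h3)))
  -- incidences
  have hinc : ∀ (D : Coord G), D.S = C.S → ¬ D.Moved → normalizer (D.A : Set G) ≤ M → ∀ m : ℕ,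
      (∀ a ∈ D.A, a ∉ D.Z → M.relIndex (centralizer ({a} : Set G)) ≤ m) →
      M.index * Nat.card {x : G // D.IsA x ∧ x ∈ M} ≤ Nat.card {x : G // D.IsA x} * m := by
    intro D hS hD hDA m hm
    rw [index_eq_card, ← Nat.card_prod]
    haveI := Fintype.ofFinite {x : G // D.IsA x}
    let T := Σ x : {x : G // D.IsA x}, {q : G ⧸ M // q.out⁻¹ * x.1 * q.out ∈ M}
    have h1 : Nat.card ((G ⧸ M) × {x : G // D.IsA x ∧ x ∈ M}) ≤ Nat.card T := by
      refine Nat.card_le_card_of_injective (fun v => (⟨⟨v.1.out * v.2.1 * v.1.out⁻¹, IsA.conj D v.2.2.1 _⟩,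
        ⟨v.1, by
          show v.1.out⁻¹ * (v.1.out * v.2.1 * v.1.out⁻¹) * v.1.out ∈ M
          simpa [mul_assoc] using v.2.2.2⟩⟩ : T)) ?_
      intro v v' h
      have h2 : v.1 = v'.1 := congrArg (fun t : T => t.2.1) h
      have h3 : v.1.out * v.2.1 * v.1.out⁻¹ = v'.1.out * v'.2.1 * v'.1.out⁻¹ := congrArg (fun t : T => t.1.1) h
      rw [h2] at h3
      exact Prod.ext h2 (Subtype.ext (mul_left_cancel (mul_right_cancel h3)))
    refine h1.trans ?_
    rw [Nat.card_sigma, Nat.card_eq_fintype_card, ← smul_eq_mul, ← Finset.card_univ, ← Finset.sum_const]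
    exact Finset.sum_le_sum fun x _ => D.card_fixed_le M (hS.symm ▸ hN) hDA hD x.2 hm
  have hA2 := hinc C rfl hA hNA mA hmA
  have hB2 := hinc C.swap rfl hB (by rw [C.swap_A]; exact hNB) mB (by rwa [C.swap_A, C.swap_Z])
  have hpos : 0 < Nat.card AM * Nat.card BM := by
    refine Nat.mul_pos ?_ ?_
    · obtain ⟨a, ha, haZ⟩ := C.exists_not_mem_Z_A
      haveI : Nonempty AM := ⟨⟨a, ⟨1, a, ha, haZ, by simp⟩, hN (le_normalizer (C.A_le ha))⟩⟩
      exact Nat.card_pos
    · obtain ⟨a, ha, haZ⟩ := C.swap.exists_not_mem_Z_A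
      haveI : Nonempty BM := ⟨⟨a, ⟨1, a, ha, haZ, by simp⟩, hN (le_normalizer (C.swap.A_le ha))⟩⟩
      exact Nat.card_pos
  have hn : 0 < M.index := Nat.pos_of_ne_zero index_ne_zero_of_finite
  have h := Nat.mul_le_mul hA2 hB2
  have h' := Nat.mul_le_mul_right (mA * mB) hle1
  have h3 : M.index * (M.index * (Nat.card AM * Nat.card BM)) ≤ (mA * mB) * (M.index * (Nat.card AM * Nat.card BM)) := by
    calc _ = M.index * Nat.card AM * (M.index * Nat.card BM) := by ring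
      _ ≤ Nat.card AH * mA * (Nat.card BH * mB) := h
      _ = Nat.card AH * Nat.card BH * (mA * mB) := by ring
      _ ≤ _ := h'.trans (by rw [mul_comm (mA * mB)])
  exact Nat.le_of_mul_le_mul_right h3 (Nat.mul_pos hn hpos)

/-- the stabiliser in the Sylow subgroup of a coset -/
def stabS (g : G) : Subgroup G := (C.S : Subgroup G) ⊓ conjS g M

include hA hB hN hZ in
theorem stabS_inf_Z {g : G} (hg : g ∉ M) {s : G} (hs : s ∈ C.stabS M g) (hsZ : s ∈ C.Z) : s = 1 := by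
  by_contra h1
  exact hg (C.mem_of_Z_conj M hN hZ hsZ h1 hA hB (mem_conjS.1 hs.2))

include hA hB hN hZ in
theorem card_stabS_le {g : G} (hg : g ∉ M) : Nat.card (C.stabS M g) ≤ 4 ∧
    (C.stabS M g ≤ C.A ∨ C.stabS M g ≤ C.B) := by
  have hel : ∀ s ∈ C.stabS M g, s * s = 1 := fun s hs =>
    C.stabS_inf_Z hA hB M hN hZ hg (mul_mem hs hs) (C.sq_mem_Z hs.1)
  have hcases := C.le_A_or_B inf_le_left hel
  refine ⟨?_, hcases⟩
  have key : ∀ D : Coord G, D.Z = C.Z → C.stabS M g ≤ D.A → Nat.card (C.stabS M g) ≤ 4 := by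
    intro D hD hle
    choose x hx hxe using fun s : C.stabS M g => hle s.2
    refine (Nat.card_le_card_of_injective (fun s => (x s).1) fun s t h => ?_).trans_eq (by
      rw [Nat.card_eq_fintype_card, Fintype.card_fin])
    have h1 : (s : G)⁻¹ * t ∈ C.Z := by
      rw [← hD, ← hxe s, ← hxe t]
      exact (D.mem_Z_mul (hx s) (hx t)).2 h
    exact Subtype.ext (inv_mul_eq_one.1 (C.stabS_inf_Z hA hB M hN hZ hg (mul_mem (inv_mem s.2) t.2) h1))
  rcases hcases with h | h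
  · exact key C rfl h
  · exact key C.swap C.swap_Z (by rwa [C.swap_A])

include hA hB hN hNA hNB hZ in
/-- **no proper subgroup** -/
theorem eq_top_of_contains
    (hmA : ∀ a ∈ C.A, a ∉ C.Z → M.relIndex (centralizer ({a} : Set G)) ≤ 5)
    (hmB : ∀ b ∈ C.B, b ∉ C.Z → M.relIndex (centralizer ({b} : Set G)) ≤ 5) : M = ⊤ := by
  classical
  -- orbits
  have horbit : ∀ g : G, g ∉ M →
      16 ≤ Nat.card {q : G ⧸ M // ∃ s ∈ (C.S : Subgroup G), q = QuotientGroup.mk (s * g)} := by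
    intro g hg
    have h4 := (C.card_stabS_le hA hB M hN hZ hg).1
    have h1 := ((C.stabS M g).subgroupOf (C.S : Subgroup G)).card_mul_index
    rw [Nat.card_congr (subgroupOfEquivOfLe (show C.stabS M g ≤ (C.S : Subgroup G) from inf_le_left)).toEquiv, C.card_S] at h1
    have h2 : 16 ≤ ((C.stabS M g).subgroupOf (C.S : Subgroup G)).index := by nlinarith
    refine h2.trans ?_
    rw [index_eq_card]
    refine Nat.card_le_card_of_injective
      (Quotient.lift (fun s : (C.S : Subgroup G) =>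
        (⟨QuotientGroup.mk ((s : G) * g), s, s.2, rfl⟩ : {q : G ⧸ M // ∃ s ∈ (C.S : Subgroup G),
          q = QuotientGroup.mk (s * g)})) fun s t hst => ?_) ?_
    · have hst' := QuotientGroup.leftRel_apply.1 hst
      refine Subtype.ext (QuotientGroup.eq.2 ?_)
      have h := mem_conjS.1 (show (s : G)⁻¹ * t ∈ conjS g M from hst'.2)
      rwa [show g⁻¹ * ((s : G)⁻¹ * t) * g = ((s : G) * g)⁻¹ * ((t : G) * g) by group] at h
    · intro p p'
      refine Quotient.inductionOn₂ p p' fun s t h => Quotient.sound (QuotientGroup.leftRel_apply.2 ?_)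
      have h := QuotientGroup.eq.1 (congrArg Subtype.val h)
      refine mem_inf.2 ⟨mul_mem (inv_mem s.2) t.2, mem_conjS.2 ?_⟩
      show g⁻¹ * ((s : G)⁻¹ * t) * g ∈ M
      rwa [show g⁻¹ * ((s : G)⁻¹ * t) * g = ((s : G) * g)⁻¹ * ((t : G) * g) by group]
  -- a bad element gives a coset fixed by it
  have hbad : ∀ a : G, a ∈ (C.S : Subgroup G) → ¬ centralizer ({a} : Set G) ≤ M →
      ∃ g, g ∉ M ∧ a ∈ C.stabS M g := by
    intro a ha hc
    obtain ⟨g, hg, hgM⟩ := SetLike.not_le_iff_exists.1 hc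
    refine ⟨g, hgM, ha, mem_conjS.2 ?_⟩
    rw [mul_assoc, ← mem_centralizer_singleton_iff.1 hg, inv_mul_cancel_left]
    exact hN (le_normalizer ha)
  have hsub : ∀ g : G, g ∉ M →
      Nat.card {q : G ⧸ M // ∃ s ∈ (C.S : Subgroup G), q = QuotientGroup.mk (s * g)} + 1 ≤ M.index := by
    intro g hg
    rw [index_eq_card, ← Finite.card_option]
    refine Nat.card_le_card_of_injective (fun o => o.elim (QuotientGroup.mk 1 : G ⧸ M) (fun q => q.1)) ?_
    rintro (_ | ⟨q, s, hs, rfl⟩) (_ | ⟨q', s', hs', rfl⟩) h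
    · rfl
    · exfalso
      have h' := QuotientGroup.eq.1 h
      rw [inv_one, one_mul] at h'
      exact hg ((mul_mem_cancel_left (hN (le_normalizer hs'))).1 h')
    · exfalso
      have h' := QuotientGroup.eq.1 h.symm
      rw [inv_one, one_mul] at h'
      exact hg ((mul_mem_cancel_left (hN (le_normalizer hs))).1 h')
    · exact congrArg some (Subtype.ext h)
  have hone : ∀ X : Subgroup G, X ≤ M → M.relIndex X ≤ 1 := fun X h => (relIndex_eq_one.2 h).le
  have hidx : ∀ {mA mB : ℕ}, (∀ a ∈ C.A, a ∉ C.Z → M.relIndex (centralizer ({a} : Set G)) ≤ mA) →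
      (∀ b ∈ C.B, b ∉ C.Z → M.relIndex (centralizer ({b} : Set G)) ≤ mB) → M.index ≤ mA * mB := fun h h' =>
    C.index_le hA hB M hN hNA hNB hZ h h'
  by_cases hgA : ∃ a ∈ C.A, a ∉ C.Z ∧ ¬ centralizer ({a} : Set G) ≤ M
  · obtain ⟨a, ha, haZ, hac⟩ := hgA
    obtain ⟨g, hg, hga⟩ := hbad a (C.A_le ha) hac
    by_cases hgB : ∃ b ∈ C.B, b ∉ C.Z ∧ ¬ centralizer ({b} : Set G) ≤ M
    · obtain ⟨b, hb, hbZ, hbc⟩ := hgB
      obtain ⟨g', hg', hgb⟩ := hbad b (C.B_le hb) hbc
      exfalso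
      let O := fun g => {q : G ⧸ M // ∃ s ∈ (C.S : Subgroup G), q = QuotientGroup.mk (s * g)}
      have hcard : Nat.card (O g) + Nat.card (O g') ≤ M.index := by
        rw [index_eq_card, ← Nat.card_sum]
        refine Nat.card_le_card_of_injective (Sum.elim (fun q => q.1) (fun q => q.1)) ?_
        refine Function.Injective.sumElim Subtype.val_injective Subtype.val_injective ?_
        rintro ⟨q, s, hs, rfl⟩ ⟨q', s', hs', rfl⟩ h
        have hm := QuotientGroup.eq.1 h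
        set m := (s * g)⁻¹ * (s' * g') with hmd
        set t := s'⁻¹ * s with ht
        have htS : t ∈ (C.S : Subgroup G) := mul_mem (inv_mem hs') hs
        have hg'e : g' = t * g * m := by rw [ht, hmd]; group
        have hab : t * a * t⁻¹ ∈ C.stabS M g' := by
          refine mem_inf.2 ⟨mul_mem (mul_mem htS hga.1) (inv_mem htS), mem_conjS.2 ?_⟩
          rw [hg'e, show (t * g * m)⁻¹ * (t * a * t⁻¹) * (t * g * m) = m⁻¹ * (g⁻¹ * a * g) * m by group]
          exact mul_mem (mul_mem (inv_mem hm) (mem_conjS.1 hga.2)) hm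
        have htA : t * a * t⁻¹ ∈ C.A := cj_mem (C.S_le_normalizer_A htS) ha
        have htaZ : t * a * t⁻¹ ∉ C.Z := C.unfused_A hA ha haZ t
        rcases (C.card_stabS_le hA hB M hN hZ hg').2 with h' | h'
        · exact hbZ (mem_inf.2 ⟨h' hgb, hb⟩)
        · exact htaZ (mem_inf.2 ⟨htA, h' hab⟩)
      have := hidx hmA hmB
      have := horbit g hg
      have := horbit g' hg'
      simp only [O] at hcard
      omega
    · push Not at hgB
      exfalso
      have := hidx hmA (fun b hb hbZ => hone _ (hgB b hb hbZ))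
      have := horbit g hg
      have := hsub g hg
      omega
  · push Not at hgA
    by_cases hgB : ∃ b ∈ C.B, b ∉ C.Z ∧ ¬ centralizer ({b} : Set G) ≤ M
    · obtain ⟨b, hb, hbZ, hbc⟩ := hgB
      obtain ⟨g', hg', -⟩ := hbad b (C.B_le hb) hbc
      exfalso
      have := hidx (fun a ha haZ => hone _ (hgA a ha haZ)) hmB
      have := horbit g' hg'
      have := hsub g' hg'
      omega
    · push Not at hgB
      have := hidx (fun a ha haZ => hone _ (hgA a ha haZ)) (fun b hb hbZ => hone _ (hgB b hb hbZ))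
      exact index_eq_one.1 (le_antisymm this (Nat.pos_of_ne_zero index_ne_zero_of_finite))

end Coord

end Cfsg.Lib.LFourType
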