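import Cfsg.Agent.LFourType.Moved
import Cfsg.Agent.LFourType.Count
import Cfsg.Agent.OddChar.PF.OddOrder
import Cfsg.Agent.S0217

/-!
The closure of the cores when a side is moved; normalizers of an unmoved side.
-/

set_option autoImplicit false
set_option linter.unusedSectionVars false
set_option linter.style.haveILetI false

namespace Cfsg.Lib.LFourType.Coord

open Subgroup
open Cfsg.Lib.Walter (Oc)

universe u

variable {G : Type u} [Group G] [Finite G] (C : Coord G)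

theorem mem_A_not_Z_swap {b : G} (hb : b ∈ C.B) (hbZ : b ∉ C.Z) : b ∈ C.swap.A ∧ b ∉ C.swap.Z := by
  rw [C.swap_A, C.swap_Z]; exact ⟨hb, hbZ⟩

theorem A_le_normalizer_Oc {a : G} (ha : a ∈ C.A) : C.A ≤ normalizer (Oc a : Set G) :=
  fun _ hy => Oc_normalized (C.A_le_cent ha hy)

/-- **`O(C(x)) ∩ C(z) ≤ O(C(z))`** -/
theorem le_Oc_Z {z : G} (hz : z ∈ C.Z) (hz1 : z ≠ 1) {Y : Subgroup G} (hY : Y ≤ centralizer ({z} : Set G))
    (ho : Odd (Nat.card Y)) (hn : C.A ≤ normalizer (Y : Set G)) : Y ≤ Oc z := fun y hy => by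
  obtain ⟨n, hn', f, hf, rfl⟩ := (C.triv_Z hz hz1 hY ho hn).decomp hY ho hn (C.Z_le_A hz) hy
  exact mul_mem (C.FA_le_Oc hz hz1 (mem_inf.1 hf).2) (mem_inf.1 hn').2

theorem inf_cent_normalized {X : Subgroup G} (hn : C.A ≤ normalizer (X : Set G)) {z : G} (hz : z ∈ C.A) :
    C.A ≤ normalizer ((X ⊓ centralizer ({z} : Set G) : Subgroup G) : Set G) := fun y hy =>
  ZStarApps.mem_normalizer_of_maps fun v hv => mem_inf.2 ⟨cj_mem (hn hy) (mem_inf.1 hv).1,
    mul_mem (mul_mem (C.A_le_cent hz hy) (mem_inf.1 hv).2) (inv_mem (C.A_le_cent hz hy))⟩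

/-- the cores of the side lie in those of the centre -/
theorem Oc_inf_cent_le {a z : G} (ha : a ∈ C.A) (hz : z ∈ C.Z) (hz1 : z ≠ 1) :
    Oc a ⊓ centralizer ({z} : Set G) ≤ Oc z :=
  C.le_Oc_Z hz hz1 inf_le_right ((odd_Oc a).of_dvd_nat (card_dvd_of_le inf_le_left))
    (C.inf_cent_normalized (C.A_le_normalizer_Oc ha) (C.Z_le_A hz))

theorem normalizer_le_of_cent (h : ¬ C.Moved) {M : Subgroup G}
    (hN : normalizer ((C.S : Subgroup G) : Set G) ≤ M)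
    (hZ : ∀ z ∈ C.Z, z ≠ 1 → centralizer ({z} : Set G) ≤ M) : normalizer (C.A : Set G) ≤ M := by
  intro n hn
  obtain ⟨f, hf, m, hm, rfl⟩ := C.normalizer_decomp h hn
  obtain ⟨z, hz, hz1⟩ := C.exists_Z_ne_one
  exact mul_mem (hZ z hz hz1 (Oc_le z (C.FA_le_Oc hz hz1 hf))) (hN hm)

theorem normalizer_B_le_of_cent (h : ¬ C.swap.Moved) {M : Subgroup G}
    (hN : normalizer ((C.S : Subgroup G) : Set G) ≤ M)
    (hZ : ∀ z ∈ C.Z, z ≠ 1 → centralizer ({z} : Set G) ≤ M) : normalizer (C.B : Set G) ≤ M := by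
  rw [← C.swap_A]
  exact C.swap.normalizer_le_of_cent h hN (by rwa [C.swap_Z])

/-- the subgroup generated by the cores of the side -/
def W : Subgroup G := ⨆ a : {a : G // a ∈ C.A ∧ a ≠ 1}, Oc (a : G)

theorem Oc_le_W {a : G} (ha : a ∈ C.A) (ha1 : a ≠ 1) : Oc a ≤ C.W :=
  le_iSup (fun a : {a : G // a ∈ C.A ∧ a ≠ 1} => Oc (a : G)) ⟨a, ha, ha1⟩

theorem W_normalized {n : G} (hn : n ∈ normalizer (C.A : Set G)) : n ∈ normalizer (C.W : Set G) := by
  refine ZStarApps.mem_normalizer_of_maps fun x hx => ?_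
  have hle : C.W ≤ C.W.comap (MulAut.conj n).toMonoidHom := iSup_le fun a x hx =>
    C.Oc_le_W (cj_mem hn a.2.1) (fun e => a.2.2 (conj_eq_one_iff.1 e)) (conj_Oc n a hx)
  exact hle hx

/-- **a moved side has a balanced functor** -/
theorem core_closure (hM : C.Moved) :
    Odd (Nat.card C.W) ∧ ∀ a ∈ C.A, a ≠ 1 → C.W ⊓ centralizer ({a} : Set G) = Oc a := by
  haveI : Fact (Nat.Prime 2) := ⟨Nat.prime_two⟩
  have hbal : ∀ a ∈ C.A, a ≠ 1 → ∀ b ∈ C.A, b ≠ 1 → Oc a ⊓ centralizer ({b} : Set G) ≤ Oc b := by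
    intro a ha ha1 b hb hb1 x hx
    obtain ⟨n, hn, hz⟩ := C.fused_of_moved hM hb
    have hz1 : n * b * n⁻¹ ≠ 1 := fun e => hb1 (conj_eq_one_iff.1 e)
    have h1 := C.Oc_inf_cent_le (cj_mem hn ha) hz hz1 (mem_inf.2 ⟨conj_Oc n a (mem_inf.1 hx).1,
      mem_centralizer_singleton_iff.2
        (commute_conj (g := n) (show Commute x b from mem_centralizer_singleton_iff.1 (mem_inf.1 hx).2)).eq⟩)
    have h2 := conj_Oc n⁻¹ _ h1
    rwa [show n⁻¹ * (n * b * n⁻¹) * n⁻¹⁻¹ = b by group, show n⁻¹ * (n * x * n⁻¹) * n⁻¹⁻¹ = x by group] at h2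
  obtain ⟨h1, h2⟩ := Cfsg.Agent.S0217.result C.A (fun a ha b hb => (C.A_comm ha hb).eq)
    (fun a ha => by rw [pow_two]; exact C.A_sq ha) (by rw [C.card_A]; norm_num) (fun a => Oc a)
    (fun a _ _ => Oc_le a) (fun a _ _ h => (Nat.not_even_iff_odd.2 (odd_Oc a)) (even_iff_two_dvd.2 h))
    (fun a ha _ b hb x hx => cj_mem (C.A_le_normalizer_Oc ha hb) hx)
    (fun a _ _ => Cfsg.Agent.PF.isSolvable_of_odd _ (odd_Oc a)) hbal
  exact ⟨Nat.not_even_iff_odd.1 fun h => h1 (even_iff_two_dvd.1 h), h2⟩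

theorem exists_conj_into_S {M : Subgroup G} (hS : (C.S : Subgroup G) ≤ M) {x : G} (hx : x ∈ M) (h : x * x = 1) :
    ∃ m ∈ M, m * x * m⁻¹ ∈ (C.S : Subgroup G) := by
  haveI : Fact (Nat.Prime 2) := ⟨Nat.prime_two⟩
  obtain ⟨P, hP⟩ := (isPGroup_zpowers_sq (x := (⟨x, hx⟩ : M)) (Subtype.ext h)).exists_le_sylow
  obtain ⟨c, hc⟩ := MulAction.exists_smul_eq M P (C.S.subtype hS)
  refine ⟨c, c.2, ?_⟩
  have : c * ⟨x, hx⟩ * c⁻¹ ∈ ((C.S.subtype hS : Sylow 2 M) : Subgroup M) := by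
    rw [← hc, Sylow.coe_subgroup_smul]
    exact ⟨⟨x, hx⟩, hP (mem_zpowers _), rfl⟩
  exact this

theorem cent_le_of_conj {M : Subgroup G} {x m : G} (hm : m ∈ M)
    (h : centralizer ({m * x * m⁻¹} : Set G) ≤ M) : centralizer ({x} : Set G) ≤ M := fun c hc => by
  have h1 := h (mem_centralizer_singleton_iff.2
    (commute_conj (g := m) (show Commute c x from mem_centralizer_singleton_iff.1 hc)).eq)
  have := mul_mem (mul_mem (inv_mem hm) h1) hm
  rwa [show m⁻¹ * (m * c * m⁻¹) * m = c by group] at this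

/-- with a moved side no proper subgroup contains all these centralizers -/
theorem eq_top_moved (hM : C.Moved) (hB : ¬ C.swap.Moved) {M : Subgroup G}
    (hNA : normalizer (C.A : Set G) ≤ M) (hZ : ∀ z ∈ C.Z, z ≠ 1 → centralizer ({z} : Set G) ≤ M)
    (hBc : ∀ b ∈ C.B, b ∉ C.Z → centralizer ({b} : Set G) ≤ M) : M = ⊤ := by
  haveI : Fact (Nat.Prime 2) := ⟨Nat.prime_two⟩
  have hS : (C.S : Subgroup G) ≤ M := C.S_le_normalizer_A.trans hNA
  have hinv : ∀ x ∈ M, x * x = 1 → x ≠ 1 → centralizer ({x} : Set G) ≤ M := by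
    intro x hx h2 h1
    obtain ⟨m, hm, hs⟩ := C.exists_conj_into_S hS hx h2
    refine cent_le_of_conj hm ?_
    set s := m * x * m⁻¹ with hsd
    have hs2 : s * s = 1 := by rw [hsd, show m * x * m⁻¹ * (m * x * m⁻¹) = m * (x * x) * m⁻¹ by group, h2]; group
    have hs1 : s ≠ 1 := fun e => h1 (conj_eq_one_iff.1 e)
    rcases C.mem_A_or_B hs hs2 with hA | hB'
    · obtain ⟨n, hn, hnz⟩ := C.fused_of_moved hM hA
      exact cent_le_of_conj (hNA hn) (hZ _ hnz fun e => hs1 (conj_eq_one_iff.1 e))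
    · by_cases hsZ : s ∈ C.Z
      · exact hZ s hsZ hs1
      · exact hBc s hB' hsZ
  obtain ⟨b, hb, hbZ⟩ := C.swap.exists_not_mem_Z_A
  rw [C.swap_A] at hb
  rw [C.swap_Z] at hbZ
  have hb1 : b ≠ 1 := fun e => hbZ (e ▸ one_mem _)
  have hall : ∀ g a : G, a ∈ C.A → g * a * g⁻¹ ∈ M := by
    intro g a ha
    by_cases ha1 : a = 1
    · simp [ha1]
    have hx2 : g * a * g⁻¹ * (g * a * g⁻¹) = 1 := by
      rw [show g * a * g⁻¹ * (g * a * g⁻¹) = g * (a * a) * g⁻¹ by group, C.A_sq ha]; group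
    have hne : ¬ IsConj (g * a * g⁻¹) b := fun h => by
      obtain ⟨c, hc⟩ := isConj_iff.1 h
      obtain ⟨n, hn, hnz⟩ := C.fused_of_moved hM ha
      refine C.unfused_B hB hb hbZ (n * (c * g)⁻¹) ?_
      rwa [← hc, show n * (c * g)⁻¹ * (c * (g * a * g⁻¹) * c⁻¹) * (n * (c * g)⁻¹)⁻¹ = n * a * n⁻¹ by group]
    obtain ⟨ho, hcx, hcb⟩ := mid_spec hx2 (C.B_sq hb) hne
    have hcM : mid (g * a * g⁻¹) b ∈ M := hBc b hb hbZ (mem_centralizer_singleton_iff.2 hcb.symm.eq)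
    have hc2 : mid (g * a * g⁻¹) b * mid (g * a * g⁻¹) b = 1 := by
      rw [← pow_two, ← ho, pow_orderOf_eq_one]
    exact hinv _ hcM hc2 (fun e => by rw [e, orderOf_one] at ho; omega)
      (mem_centralizer_singleton_iff.2 hcx.eq)
  set N := Subgroup.normalClosure (C.A : Set G) with hNd
  have hNM : N ≤ M := closure_le _ |>.2 fun x hx => by
    obtain ⟨a, ha, hc⟩ := Group.mem_conjugatesOfSet_iff.1 hx
    obtain ⟨c, hc'⟩ := isConj_iff.1 hc
    exact hc' ▸ hall c a ha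
  obtain ⟨P, hP⟩ := ((C.isPGroup_of_le_S C.A_le).comap_subtype (K := N)).exists_le_sylow
  have hF := Sylow.normalizer_sup_eq_top P
  set T := (P : Subgroup N).map N.subtype
  have hAT : C.A ≤ T := fun a ha => ⟨⟨a, Subgroup.subset_normalClosure ha⟩, hP ha, rfl⟩
  obtain ⟨g, hg⟩ := C.exists_conj_le (P.2.map N.subtype)
  have hgA : conjS g C.A = C.A := C.conjS_A_eq ((map_mono hAT).trans hg)
  rw [eq_top_iff, ← hF]
  refine sup_le (fun n hn => ?_) hNM
  have h1 : conjS (g * n) C.A = C.A := C.conjS_A_eq (by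
    rintro _ ⟨a, ha, rfl⟩
    have h2 : n * a * n⁻¹ ∈ T := cj_mem hn (hAT ha)
    have h3 := hg (conj_mem_conjS (g := g) h2)
    show g * n * a * (g * n)⁻¹ ∈ (C.S : Subgroup G)
    rwa [show g * n * a * (g * n)⁻¹ = g * (n * a * n⁻¹) * g⁻¹ by group])
  have h2 := mul_mem (inv_mem (conjS_eq_self.1 hgA)) (conjS_eq_self.1 h1)
  rw [inv_mul_cancel_left] at h2
  exact hNA h2

end Cfsg.Lib.LFourType.Coord
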