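import Cfsg.Agent.LFourType.Theta

/-!
Neither side moved and no odd core: fixed points in the core of an element of a side are inverted, and small.
-/

set_option autoImplicit false
set_option linter.unusedSectionVars false
set_option linter.style.haveILetI false
set_option maxHeartbeats 400000

namespace Cfsg.Lib.LFourType

open Subgroup
open Cfsg.Lib.Walter (Qt bar Oc)

universe u

variable {G : Type u} [Group G] [Finite G]

/-- the projection onto `C(a)/O(C(a))` -/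
local notation "qk" => Cfsg.Lib.Walter.qm

/-- a fixed-point-free involution inverts -/
theorem inverts_of_fpf {X : Subgroup G} {t : G} (ht2 : t * t = 1) (hn : t ∈ normalizer (X : Set G))
    (hfix : ∀ x ∈ X, Commute t x → x = 1) {x : G} (hx : x ∈ X) : t * x * t⁻¹ = x⁻¹ := by
  let f : X → X := fun y => ⟨(y : G)⁻¹ * (t * y * t⁻¹), mul_mem (inv_mem y.2) ((mem_normalizer_iff.1 hn _).1 y.2)⟩
  have hf : Function.Injective f := fun y y' e => by
    have e' : (y : G)⁻¹ * (t * y * t⁻¹) = (y' : G)⁻¹ * (t * y' * t⁻¹) := congrArg Subtype.val e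
    have h1 : t * ((y' : G) * (y : G)⁻¹) * t⁻¹ = (y' : G) * (y : G)⁻¹ := by
      calc t * ((y' : G) * (y : G)⁻¹) * t⁻¹ = y' * ((y' : G)⁻¹ * (t * y' * t⁻¹)) * (t * y * t⁻¹)⁻¹ := by group
        _ = (y' : G) * (y : G)⁻¹ := by rw [← e']; group
    exact (Subtype.ext (mul_inv_eq_one.1
      (hfix _ (mul_mem y'.2 (inv_mem y.2)) (mul_inv_eq_iff_eq_mul.1 h1)))).symm
  obtain ⟨y, hy⟩ := Finite.injective_iff_surjective.1 hf ⟨x, hx⟩
  have e : (y : G)⁻¹ * (t * y * t⁻¹) = x := congrArg Subtype.val hy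
  rw [← e, show t * ((y : G)⁻¹ * (t * y * t⁻¹)) * t⁻¹ = (t * y * t⁻¹)⁻¹ * ((t * t) * y * (t * t)⁻¹) by group, ht2]
  group

theorem mem_four {U : Subgroup G} (h4 : Nat.card U = 4) {u e : G} (hu : u ∈ U) (he : e ∈ U) (hsq : u * u = 1)
    (hu1 : u ≠ 1) (he1 : e ≠ 1) (hne : u ≠ e) {v : G} (hv : v ∈ U) : v = 1 ∨ v = u ∨ v = e ∨ v = u * e := by
  classical
  haveI := Fintype.ofFinite U
  by_contra hc
  push Not at hc
  obtain ⟨h1, h2, h3, h5⟩ := hc
  have hue : u * e ≠ 1 := fun h => hne (mul_left_cancel (h.trans hsq.symm)).symm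
  have e1 : u * e ≠ u := fun h => he1 (by simpa using h)
  have e2 : u * e ≠ e := fun h => hu1 (by simpa using h)
  have h5' : ({1, ⟨u, hu⟩, ⟨e, he⟩, ⟨u, hu⟩ * ⟨e, he⟩, ⟨v, hv⟩} : Finset U).card ≤ 4 := by
    rw [← h4, Nat.card_eq_fintype_card]; exact Finset.card_le_univ _
  simp [Subtype.ext_iff, hu1, hu1.symm, he1, he1.symm, hne, hue, Ne.symm hue, e1, e1.symm, e2, e2.symm, h1.symm,
    h2.symm, h3.symm, Ne.symm h5] at h5'

/-- the subgroup of two commuting involutions -/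
theorem exists_pair {u w : G} (hu : u * u = 1) (hw : w * w = 1) (hc : Commute u w) (hu1 : u ≠ 1) (hw1 : w ≠ 1)
    (hne : u ≠ w) : 4 ≤ Nat.card (zpowers u ⊔ zpowers w : Subgroup G) ∧
      ∀ v ∈ zpowers u ⊔ zpowers w, v = 1 ∨ v = u ∨ v = w ∨ v = u * w := by
  classical
  have hz : ∀ {x : G}, x * x = 1 → ∀ {p : G}, p ∈ zpowers x → p = 1 ∨ p = x := by
    intro x hx p hp
    obtain ⟨i, rfl⟩ := mem_zpowers_iff.1 hp
    rcases Int.even_or_odd i with ⟨k, rfl⟩ | ⟨k, rfl⟩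
    · left; rw [← two_mul, zpow_mul, zpow_two, hx, one_zpow]
    · right; rw [zpow_add, zpow_mul, zpow_two, hx, one_zpow, one_mul, zpow_one]
  refine ⟨?_, fun v hv => ?_⟩
  · haveI := Fintype.ofFinite (zpowers u ⊔ zpowers w : Subgroup G)
    have mu : u ∈ zpowers u ⊔ zpowers w := mem_sup_left (mem_zpowers u)
    have mw : w ∈ zpowers u ⊔ zpowers w := mem_sup_right (mem_zpowers w)
    have hue : u * w ≠ 1 := fun h => hne (mul_left_cancel (h.trans hu.symm)).symm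
    have e1 : u * w ≠ u := fun h => hw1 (by simpa using h)
    have e2 : u * w ≠ w := fun h => hu1 (by simpa using h)
    rw [Nat.card_eq_fintype_card, ← Finset.card_univ]
    refine le_trans (le_of_eq ?_) (Finset.card_le_univ
      ({1, ⟨u, mu⟩, ⟨w, mw⟩, ⟨u, mu⟩ * ⟨w, mw⟩} : Finset (zpowers u ⊔ zpowers w : Subgroup G)))
    simp [Subtype.ext_iff, hu1.symm, hw1.symm, hne, hue.symm, e1.symm, e2.symm]
  · obtain ⟨p, hp, q, hq, rfl⟩ := (Cfsg.Lib.Coprime.mem_sup_of_le_normalizer (N := zpowers u) (H := zpowers w)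
      (zpowers_le.2 (ZStarApps.mem_normalizer_of_maps fun p hp => by
        rcases hz hu hp with rfl | rfl
        · simpa using hp
        · rw [hc.symm.eq, mul_inv_cancel_right]; exact hp))).1 hv
    rcases hz hu hp with rfl | rfl <;> rcases hz hw hq with rfl | rfl <;> simp

/-- a 2-group or `p`-group normalising fixes a non-trivial element -/
theorem exists_fixed {l : ℕ} [Fact l.Prime] {W E : Subgroup G} (hW : IsPGroup l W)
    (hn : W ≤ normalizer (E : Set G)) (hl : l ∣ Nat.card E) : ∃ e ∈ E, e ≠ 1 ∧ ∀ w ∈ W, Commute w e := by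
  have hmem : ∀ w : W, ∀ e : E, (w : G) * e * (w : G)⁻¹ ∈ E :=
    fun w e => (mem_normalizer_iff.1 (hn w.2) (e : G)).1 e.2
  letI : MulAction W E :=
    { smul := fun w e => ⟨(w : G) * e * (w : G)⁻¹, hmem w e⟩
      one_smul := fun e => Subtype.ext (show ((1 : W) : G) * e * ((1 : W) : G)⁻¹ = e by simp)
      mul_smul := fun w z e => Subtype.ext (show ((w * z : W) : G) * e * ((w * z : W) : G)⁻¹ =
        (w : G) * ((z : G) * e * (z : G)⁻¹) * (w : G)⁻¹ by rw [Subgroup.coe_mul]; group) }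
  have h1 : (1 : E) ∈ MulAction.fixedPoints W E := fun w => Subtype.ext
    (show (w : G) * ((1 : E) : G) * (w : G)⁻¹ = ((1 : E) : G) by simp)
  obtain ⟨e, he, hne⟩ := hW.exists_fixed_point_of_prime_dvd_card_of_fixed_point E hl h1
  exact ⟨e, e.2, fun h => hne (Subtype.ext h.symm), fun w hw =>
    mul_inv_eq_iff_eq_mul.1 (congrArg Subtype.val (he ⟨w, hw⟩) : w * e * w⁻¹ = e)⟩

/-- a solvable subgroup contains an elementary abelian subgroup normalised by its normalizer -/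
theorem exists_elementary {K : Subgroup G} (hs : Group.IsSolvable K) (hK : K ≠ ⊥) :
    ∃ (p : ℕ) (V : Subgroup G), p.Prime ∧ V ≤ K ∧ V ≠ ⊥ ∧ (∀ x ∈ V, ∀ y ∈ V, Commute x y) ∧
      (∀ x ∈ V, x ^ p = 1) ∧ normalizer (K : Set G) ≤ normalizer (V : Set G) := by
  classical
  obtain ⟨hex⟩ := hs
  set m := Nat.find hex with hm
  have hspec : derivedSeries K m = ⊥ := Nat.find_spec hex
  obtain ⟨n, hn⟩ : ∃ n, m = n + 1 := Nat.exists_eq_add_one_of_ne_zero fun h0 => by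
    rw [h0, derivedSeries_zero] at hspec
    haveI : Nontrivial K := (nontrivial_iff_ne_bot K).2 hK
    exact top_ne_bot hspec
  have hne : derivedSeries K n ≠ ⊥ := Nat.find_min hex (by omega)
  rw [hn, derivedSeries_succ, commutator_eq_bot_iff_le_centralizer] at hspec
  set D := (derivedSeries K n).map K.subtype
  have hDne : D ≠ ⊥ := fun h => hne ((map_eq_bot_iff_of_injective _ K.subtype_injective).1 h)
  have hc : ∀ x ∈ D, ∀ y ∈ D, Commute x y := by
    rintro _ ⟨x, hx, rfl⟩ _ ⟨y, hy, rfl⟩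
    exact (show Commute y x from mem_centralizer_iff.1 (hspec hx) y hy).symm.map K.subtype
  have hcard : Nat.card D ≠ 1 := fun h => hDne (Subgroup.eq_bot_of_card_eq D h)
  obtain ⟨p, hp, hpd⟩ := Nat.exists_prime_and_dvd hcard
  haveI : Fact p.Prime := ⟨hp⟩
  let V : Subgroup G :=
    { carrier := {x | x ∈ D ∧ x ^ p = 1}
      one_mem' := ⟨one_mem _, one_pow p⟩
      mul_mem' := fun {a b} ha hb => ⟨mul_mem ha.1 hb.1, by rw [(hc a ha.1 b hb.1).mul_pow, ha.2, hb.2, one_mul]⟩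
      inv_mem' := fun {a} ha => ⟨inv_mem ha.1, by rw [inv_pow, ha.2, inv_one]⟩ }
  refine ⟨p, V, hp, fun x hx => ?_, fun hV => ?_, fun x hx y hy => hc x hx.1 y hy.1, fun x hx => hx.2,
    fun g hg => ZStarApps.mem_normalizer_of_maps fun x hx => ⟨?_, ?_⟩⟩
  · exact map_subtype_le _ hx.1
  · obtain ⟨x, hx⟩ := exists_prime_orderOf_dvd_card' p hpd
    have hxV : (x : G) ∈ V := ⟨x.2, by rw [← hx, ← SubmonoidClass.coe_pow, pow_orderOf_eq_one, OneMemClass.coe_one]⟩
    rw [hV, mem_bot] at hxV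
    rw [show x = 1 from Subtype.ext hxV, orderOf_one] at hx
    exact hp.ne_one hx.symm
  · exact (mem_normalizer_iff.1 (Cfsg.Lib.GenFittingAction.le_normalizer_map_char K (derivedSeries K n) hg) x).1 hx.1
  · rw [show g * x * g⁻¹ = MulAut.conj g x from rfl, ← map_pow, hx.2, map_one]

namespace Coord

variable (C : Coord G)

/-- the hypotheses of the case of two unmoved sides -/
structure Fixed : Prop where
  hA : ¬ C.Moved
  hB : ¬ C.swap.Moved
  hO : Cfsg.oddCore G = ⊥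

variable {C} (F : C.Fixed)
include F

theorem Fixed.FA_eq : C.swap.FA = C.FA := by
  have h1 := (C.Dl_le_FA F.hA F.hO F.hB).1 C.Z C.Z_le_A (by rw [C.card_Z])
  have h2 := (C.swap.Dl_le_FA F.hB F.hO (by rw [C.swap_swap]; exact F.hA)).1 C.Z
    (by rw [C.swap_A]; exact C.Z_le_B) (by rw [C.card_Z])
  refine le_antisymm ((le_Dl fun z hz hz1 => C.swap.FA_le_Oc (C.swap_Z.symm ▸ hz) hz1).trans h1) ?_
  exact (le_Dl fun z hz hz1 => C.FA_le_Oc hz hz1).trans h2

theorem Fixed.FA_commute_S {f s : G} (hf : f ∈ C.FA) (hs : s ∈ (C.S : Subgroup G)) : Commute s f := by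
  obtain ⟨a, ha, b, hb, rfl⟩ := C.exists_split hs
  exact (C.FA_commute hf ha).mul_left (C.swap.FA_commute (F.FA_eq.symm ▸ hf) (C.swap_A.symm ▸ hb))

theorem Fixed.FA_inf_Oc {u : G} (hu : u ∈ C.A) (huZ : u ∉ C.Z) : C.FA ⊓ Oc u = ⊥ := by
  rw [← le_bot_iff, ← (C.Dl_le_FA F.hA F.hO F.hB).2]
  refine le_Dl fun a ha ha1 f hf => ?_
  by_cases haZ : a ∈ C.Z
  · exact C.FA_le_Oc haZ ha1 hf.1
  refine C.mem_Oc_of_FA F.hA ha haZ hf.1 fun L U h => ?_
  obtain ⟨e, he, z, hz, rfl⟩ := h.sup u hu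
  have hzz := C.A_sq (C.Z_le_A hz)
  obtain ⟨b, hb, eb⟩ := C.exists_comm_eq hz hu huZ
  refine ⟨e, he, ?_⟩
  have := conj_Oc b (e * z) hf.2
  rwa [(F.FA_commute_S hf.1 (C.B_le hb)).eq, mul_inv_cancel_right, eb, mul_assoc e z z, hzz, mul_one] at this

/-- odd invariant subgroups centralising `Z` centralise the side -/
theorem Fixed.le_FA_of_cent_Z {X : Subgroup G} (hX : X ≤ centralizer (C.Z : Set G)) (ho : Odd (Nat.card X))
    (hn : C.A ≤ normalizer (X : Set G)) : X ≤ C.FA :=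
  (C.le_Dl_sup C.Z_le_A hX ho hn fun z hz hz1 =>
    C.triv_Z hz hz1 (hX.trans (centralizer_le (Set.singleton_subset_iff.2 hz))) ho hn).trans
    (sup_le (inf_le_right.trans ((C.Dl_le_FA F.hA F.hO F.hB).1 C.Z C.Z_le_A (by rw [C.card_Z]))) inf_le_right)

theorem Fixed.Oc_cent_Z {u : G} (hu : u ∈ C.A) (huZ : u ∉ C.Z) : Oc u ⊓ centralizer (C.Z : Set G) = ⊥ := by
  rw [← le_bot_iff, ← F.FA_inf_Oc hu huZ]
  exact le_inf (F.le_FA_of_cent_Z inf_le_right ((odd_Oc u).of_dvd_nat (card_dvd_of_le inf_le_left))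
    fun y hy => mem_normalizer_inf (C.A_le_normalizer_Oc hu hy) (C.A_le_normalizer_cent' C.Z_le_A hy)) inf_le_left

/-- the centre acts without fixed points on the fixed points of each central involution -/
theorem Fixed.inverted {u z w : G} (hu : u ∈ C.A) (huZ : u ∉ C.Z) (hz : z ∈ C.Z) (hz1 : z ≠ 1) (hw : w ∈ C.Z)
    (hw1 : w ≠ 1) (hne : z ≠ w) {x : G} (hx : x ∈ Oc u) (hxz : Commute x z) : w * x * w⁻¹ = x⁻¹ := by
  refine inverts_of_fpf (X := Oc u ⊓ centralizer ({z} : Set G)) (C.A_sq (C.Z_le_A hw))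
    (mem_normalizer_inf (C.A_le_normalizer_Oc hu (C.Z_le_A hw)) (C.A_le_normalizer_cent (C.Z_le_A hz) (C.Z_le_A hw)))
    (fun y hy hc => ?_) (mem_inf.2 ⟨hx, mem_centralizer_singleton_iff.2 hxz.eq⟩)
  have hyz : Commute y z := mem_centralizer_singleton_iff.1 (mem_inf.1 hy).2
  rw [← mem_bot, ← F.Oc_cent_Z hu huZ]
  refine mem_inf.2 ⟨(mem_inf.1 hy).1, mem_centralizer_iff.2 fun v hv => ?_⟩
  rcases mem_four C.card_Z hz hw (C.A_sq (C.Z_le_A hz)) hz1 hw1 hne hv with rfl | rfl | rfl | rfl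
  · simp
  · exact hyz.eq.symm
  · exact hc.eq
  · exact (hyz.mul_right hc.symm).eq.symm

theorem Fixed.exists_other {z : G} (hz : z ∈ C.Z) (hz1 : z ≠ 1) : ∃ w ∈ C.Z, w ≠ 1 ∧ z ≠ w := by
  by_contra hc
  push Not at hc
  have hle : C.Z ≤ zpowers z := fun v hv => by
    by_cases hv1 : v = 1
    · exact hv1 ▸ one_mem _
    · exact hc v hv hv1 ▸ mem_zpowers z
  have := card_le_of_le hle
  rw [C.card_Z, Nat.card_zpowers, orderOf_involution (C.A_sq (C.Z_le_A hz)) hz1] at this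
  omega

variable {u : G} {L : Subgroup (Qt u)} {U : Subgroup G}

theorem Fixed.core_U {z : G} (h : C.Split u L U) (hz : z ∈ C.Z) (hz1 : z ≠ 1) :
    Oc u ⊓ centralizer ({z} : Set G) ⊓ centralizer (U : Set G) = ⊥ := by
  set X := Oc u ⊓ centralizer ({z} : Set G) ⊓ centralizer (U : Set G)
  obtain ⟨w, hw, hw1, hne⟩ := F.exists_other hz hz1
  have hu := h.a_mem
  have ho : Odd (Nat.card X) := (odd_Oc u).of_dvd_nat (card_dvd_of_le (inf_le_left.trans inf_le_left))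
  have hn : C.A ≤ normalizer (X : Set G) := fun y hy => mem_normalizer_inf
    (mem_normalizer_inf (C.A_le_normalizer_Oc hu hy) (C.A_le_normalizer_cent (C.Z_le_A hz) hy))
    (C.A_le_normalizer_cent' h.U_le hy)
  rw [← le_bot_iff, ← F.FA_inf_Oc hu h.a_not]
  refine le_inf (le_trans (le_Dl fun e he he1 x hx => ?_) ((C.Dl_le_FA F.hA F.hO F.hB).1 U h.U_le (by rw [h.card])))
    (inf_le_left.trans inf_le_left)
  have hxC := (mem_inf.1 hx).2
  have hxu := (mem_inf.1 (mem_inf.1 hx).1).1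
  have heA := h.U_le he
  have heZ : e ∉ C.Z := fun hh => he1 (h.U_Z e he hh)
  have hxe : x ∈ centralizer ({e} : Set G) := mem_centralizer_singleton_iff.2 (mem_centralizer_iff.1 hxC e he).symm
  have hwi := F.inverted hu h.a_not hz hz1 hw hw1 hne hxu (mem_centralizer_singleton_iff.1 (mem_inf.1 (mem_inf.1 hx).1).2)
  have key : x⁻¹ * (w * x * w⁻¹) ∈ Oc e := by
    rcases C.plain_or_split F.hA heA heZ with hp | ⟨L', U', h'⟩
    · exact hp.triv heA (X := X) (inf_le_right.trans (centralizer_le (Set.singleton_subset_iff.2 he))) ho hn x hx w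
        (C.Z_le_A hw)
    · have hU := h.eq_of_mem h' he F.hA
      have h1 := h'.core_cent (hU.symm ▸ h.mem_self) hxu hxe
      refine (qm_comm_iff hxe (C.A_le_cent heA (C.Z_le_A hw))).1 ?_
      exact mem_centralizer_iff.1 h1 _ (h'.Z_mem w hw _)
  rw [hwi, ← mul_inv_rev, inv_mem_iff] at key
  exact sq_mem_imp (odd_orderOf ho hx) key

theorem Fixed.Oc_cent_U (h : C.Split u L U) : Oc u ⊓ centralizer (U : Set G) = ⊥ := by
  have hn : C.A ≤ normalizer ((Oc u ⊓ centralizer (U : Set G) : Subgroup G) : Set G) := fun y hy =>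
    mem_normalizer_inf (C.A_le_normalizer_Oc h.a_mem hy) (C.A_le_normalizer_cent' h.U_le hy)
  refine le_bot_iff.1 (le_of_four' (E := C.Z) (by rw [C.card_Z]) (fun p hp q hq => C.A_comm (C.Z_le_A hp) (C.Z_le_A hq))
    (fun p hp => C.A_sq (C.Z_le_A hp)) ((odd_Oc u).of_dvd_nat (card_dvd_of_le inf_le_left)) (C.Z_le_A.trans hn)
    fun z hz hz1 => ?_)
  rw [inf_right_comm]
  exact (F.core_U h hz hz1).le

/-- the other elements of the complementary part invert -/
theorem Fixed.inverted_U (h : C.Split u L U) {z e : G} (hz : z ∈ C.Z) (hz1 : z ≠ 1) (he : e ∈ U) (he1 : e ≠ 1)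
    (hne : u ≠ e) {x : G} (hx : x ∈ Oc u) (hxz : Commute x z) : e * x * e⁻¹ = x⁻¹ := by
  have hu1 : u ≠ 1 := fun h1 => h.a_not (h1 ▸ one_mem _)
  refine inverts_of_fpf (X := Oc u ⊓ centralizer ({z} : Set G)) (C.A_sq (h.U_le he))
    (mem_normalizer_inf (C.A_le_normalizer_Oc h.a_mem (h.U_le he)) (C.A_le_normalizer_cent (C.Z_le_A hz) (h.U_le he)))
    (fun y hy hc => ?_) (mem_inf.2 ⟨hx, mem_centralizer_singleton_iff.2 hxz.eq⟩)
  rw [← mem_bot, ← F.core_U h hz hz1]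
  refine mem_inf.2 ⟨hy, mem_centralizer_iff.2 fun v hv => ?_⟩
  have hyu : Commute y u := mem_centralizer_singleton_iff.1 (Oc_le u (mem_inf.1 hy).1)
  rcases mem_four h.card h.mem_self he (C.A_sq h.a_mem) hu1 he1 hne hv with rfl | rfl | rfl | rfl
  · simp
  · exact hyu.eq.symm
  · exact hc.eq
  · exact (hyu.mul_right hc.symm).eq.symm

theorem Fixed.core_pair {z : G} (hu : u ∈ C.A) (huZ : u ∉ C.Z) (hz : z ∈ C.Z) (hz1 : z ≠ 1) {x : G} (hx : x ∈ Oc u)
    (hxz : Commute x z) (hx' : x ∈ Oc (u * z)) : x = 1 := by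
  set E := Oc u ⊓ centralizer ({z} : Set G)
  have hxE : x ∈ E := mem_inf.2 ⟨hx, mem_centralizer_singleton_iff.2 hxz.eq⟩
  have hn : C.A ≤ normalizer (E : Set G) := fun y hy =>
    mem_normalizer_inf (C.A_le_normalizer_Oc hu hy) (C.A_le_normalizer_cent (C.Z_le_A hz) hy)
  have ho : Odd (Nat.card E) := (odd_Oc u).of_dvd_nat (card_dvd_of_le inf_le_left)
  obtain ⟨n, hn', f, hf, e⟩ := (C.triv_Z hz hz1 inf_le_right ho hn).decomp inf_le_right ho hn (C.Z_le_A hz) hxE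
  have hf1 : f = 1 := mem_bot.1 (F.FA_inf_Oc hu huZ ▸ mem_inf.2 ⟨hf.2, (mem_inf.1 hf.1).1⟩)
  rw [hf1, one_mul] at e
  subst e
  have hu1 : u ≠ 1 := fun h1 => huZ (h1 ▸ one_mem _)
  have hne : u ≠ z := fun h1 => huZ (h1 ▸ hz)
  obtain ⟨h4, hcases⟩ := exists_pair (C.A_sq hu) (C.A_sq (C.Z_le_A hz)) (C.A_comm hu (C.Z_le_A hz)) hu1 hz1 hne
  have hle : zpowers u ⊔ zpowers z ≤ C.A := sup_le (zpowers_le.2 hu) (zpowers_le.2 (C.Z_le_A hz))
  rw [← mem_bot, ← F.FA_inf_Oc hu huZ]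
  refine mem_inf.2 ⟨(C.Dl_le_FA F.hA F.hO F.hB).1 _ hle h4
    (le_Dl (X := zpowers x) (fun v hv hv1 => zpowers_le.2 ?_) (mem_zpowers x)), hx⟩
  rcases hcases v hv with rfl | rfl | rfl | rfl
  · exact absurd rfl hv1
  · exact hx
  · exact hn'.2
  · exact hx'

/-- the fixed points of a central involution form a cyclic group -/
theorem Fixed.cyclic_fixed {z : G} (hu : u ∈ C.A) (huZ : u ∉ C.Z) (hz : z ∈ C.Z) (hz1 : z ≠ 1) :
    IsCyclic (Oc u ⊓ centralizer ({z} : Set G) : Subgroup G) := by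
  set E := Oc u ⊓ centralizer ({z} : Set G)
  by_cases hE : E = ⊥
  · rw [hE]; infer_instance
  obtain ⟨w, hw, hw1, hne⟩ := F.exists_other hz hz1
  have huz : u * z ∈ C.A := mul_mem hu (C.Z_le_A hz)
  have huzZ : u * z ∉ C.Z := fun hh => huZ (by simpa using mul_mem hh (inv_mem hz))
  have ho : Odd (Nat.card E) := (odd_Oc u).of_dvd_nat (card_dvd_of_le inf_le_left)
  have hEc : E ≤ centralizer ({u * z} : Set G) := fun x hx => mem_centralizer_singleton_iff.2
    ((show Commute x u from mem_centralizer_singleton_iff.1 (Oc_le u (mem_inf.1 hx).1)).mul_right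
      (mem_centralizer_singleton_iff.1 (mem_inf.1 hx).2)).eq
  have hinv : ∀ x ∈ E, w * x * w⁻¹ = x⁻¹ := fun x hx =>
    F.inverted hu huZ hz hz1 hw hw1 hne (mem_inf.1 hx).1 (mem_centralizer_singleton_iff.1 (mem_inf.1 hx).2)
  have hker : ∀ x ∈ E, x ∈ Oc (u * z) → x = 1 := fun x hx =>
    F.core_pair hu huZ hz hz1 (mem_inf.1 hx).1 (mem_centralizer_singleton_iff.1 (mem_inf.1 hx).2)
  rcases C.plain_or_split F.hA huz huzZ with hp | ⟨L', U', h'⟩
  · refine absurd (eq_bot_iff.2 fun x hx => mem_bot.2 (hker x hx ?_)) hE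
    have := hp.triv huz hEc ho (fun y hy => mem_normalizer_inf (C.A_le_normalizer_Oc hu hy)
      (C.A_le_normalizer_cent (C.Z_le_A hz) hy)) x hx w (C.Z_le_A hw)
    rw [hinv x hx, ← mul_inv_rev, inv_mem_iff] at this
    exact sq_mem_imp (odd_orderOf ho hx) this
  · exact h'.cyclic_of_inverted hz hz1 hw hEc ho
      (fun x hx => mem_centralizer_singleton_iff.1 (mem_inf.1 hx).2) hinv hker

end Coord

end Cfsg.Lib.LFourType
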