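import Cfsg.Agent.LFourType.CaseOne
import Cfsg.Agent.LFourType.Affine
import Cfsg.Agent.LThreeFour.Parabolic

/-!
A group whose Sylow 2-subgroup is isomorphic to that of the projective special linear group of dimension three over
four elements embeds modulo its odd core in the projective general linear group.
-/

set_option autoImplicit false
set_option linter.unusedSectionVars false
set_option linter.style.haveILetI false

namespace Cfsg.Lib.LFourType

open Subgroup Matrix Cfsg.Lib.LThreeFourPar

universe u v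

/-- coordinates from a Sylow subgroup isomorphic to one of `PSL(3, 4)` -/
theorem exists_coord_of_iso {G : Type u} [Group G] [Finite G] {F : Type v} [Field F] [Fintype F]
    (hF : Fintype.card F = 4) (S : Sylow 2 G) (P : Sylow 2 (ProjectiveSpecialLinearGroup (Fin 3) F))
    (hS : Nonempty (↥(S : Subgroup G) ≃* ↥(P : Subgroup (ProjectiveSpecialLinearGroup (Fin 3) F)))) :
    Nonempty (Coord G) := by
  classical
  haveI : Fact (Nat.Prime 2) := ⟨Nat.prime_two⟩
  obtain ⟨e⟩ := hS
  obtain ⟨σ, hσ, -, -, hadd, hmul⟩ := exists_code F hF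
  set U := (upper (F := F)).map proj with hU
  have h64 : Nat.card ↥U = 64 := by
    rw [hU, Nat.card_congr (Equiv.ofBijective (fun g : ↥(upper (F := F)) => (⟨proj g.1, g.1, g.2, rfl⟩ :
      ↥((upper (F := F)).map proj))) ⟨fun a b h => Subtype.ext (proj_inj a.2 b.2 (congrArg Subtype.val h)),
      fun ⟨_, g, hg, h⟩ => ⟨⟨g, hg⟩, Subtype.ext h⟩⟩).symm, card_upper, hF]
    norm_num
  let Q : Sylow 2 (ProjectiveSpecialLinearGroup (Fin 3) F) := Sylow.ofCard U (by
    rw [h64, card_psl_four hF]
    have : (20160 : ℕ).factorization 2 = 6 := by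
      rw [show (20160 : ℕ) = 2 ^ 6 * 315 by norm_num, Nat.factorization_mul (by norm_num) (by norm_num),
        Nat.Prime.factorization_pow Nat.prime_two]
      simp [Nat.factorization_eq_zero_iff]
    rw [this]
    norm_num)
  let eQ : ↥U ≃* ↥(S : Subgroup G) := (Sylow.equiv Q P).trans e.symm
  let e₁ : Mo → ↥U := fun x => ⟨proj (uel (σ x.1) (σ x.2.2) (σ x.2.1)), _, uel_mem _ _ _, rfl⟩
  have hm : ∀ x y, e₁ (mm x y) = e₁ x * e₁ y := fun x y => Subtype.ext (by
    show proj _ = proj _ * proj _
    rw [← map_mul, uel_mul]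
    simp only [mm, hadd, hmul]
    congr 2 <;> ring)
  have hi : Function.Injective e₁ := fun x y h => by
    have h' := proj_inj (uel_mem _ _ _) (uel_mem _ _ _) (congrArg Subtype.val h)
    have a1 := congrArg (fun w : SpecialLinearGroup (Fin 3) F => w 0 1) h'
    have a2 := congrArg (fun w : SpecialLinearGroup (Fin 3) F => w 0 2) h'
    have a3 := congrArg (fun w : SpecialLinearGroup (Fin 3) F => w 1 2) h'
    simp [uel_coe] at a1 a2 a3
    exact Prod.ext (hσ a1) (Prod.ext (hσ a3) (hσ a2))
  have hb : Function.Bijective e₁ := (Nat.bijective_iff_injective_and_card e₁).2 ⟨hi, by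
    rw [h64, Nat.card_eq_fintype_card]; rfl⟩
  exact ⟨{ S := S
           e := fun x => (eQ (e₁ x) : G)
           e_mul := fun x y => by rw [hm, map_mul]; rfl
           e_inj := fun x y h => hi (eQ.injective (Subtype.ext h))
           e_range := by
             ext g
             constructor
             · rintro ⟨x, rfl⟩; exact (eQ (e₁ x)).2
             · intro hg
               obtain ⟨x, hx⟩ := hb.2 (eQ.symm ⟨g, hg⟩)
               exact ⟨x, by show (eQ (e₁ x) : G) = g; rw [hx, MulEquiv.apply_symm_apply]⟩ }⟩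

/-- the classification modulo the odd core -/
theorem embeds_of_sylow {G : Type u} [Group G] [Finite G] {F : Type v} [Field F] [Fintype F]
    (hF : Fintype.card F = 4) (S : Sylow 2 G) (P : Sylow 2 (ProjectiveSpecialLinearGroup (Fin 3) F))
    (hS : Nonempty (↥(S : Subgroup G) ≃* ↥(P : Subgroup (ProjectiveSpecialLinearGroup (Fin 3) F)))) :
    Embeds (G ⧸ Cfsg.oddCore G) F := by
  haveI : Fact (Nat.Prime 2) := ⟨Nat.prime_two⟩
  obtain ⟨C₀⟩ := exists_coord_of_iso hF S P hS
  set π := QuotientGroup.mk' (Cfsg.oddCore G)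
  have hk : Odd (Nat.card π.ker) := by
    rw [show π.ker = Cfsg.oddCore G from QuotientGroup.ker_mk' _]; exact Cfsg.Lib.AltEightType.odd_oddCore _
  let C := C₀.mapHom π (QuotientGroup.mk'_surjective _) hk
  have hO : Cfsg.oddCore (G ⧸ Cfsg.oddCore G) = ⊥ :=
    Cfsg.Lib.Coprime.pPrimeCore_quotient_eq_bot (G := G) (p := 2)
  by_cases hB : C.swap.Moved
  · by_cases hA : C.Moved
    · exact caseOneProp C hF hO hA hB
    · exact affineProp C.swap hF hO (caseTwoProp C.swap hO (by rwa [C.swap_swap]))
  · exact affineProp C hF hO (caseTwoProp C hO hB)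

end Cfsg.Lib.LFourType
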