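import Cfsg.Agent.LFourType.Model
import Cfsg.Agent.Transfer.Fusion

/-!
Fusion of involutions in a group with Sylow 2-subgroups of `PSL(3,4)` type.
-/

set_option autoImplicit false

namespace Cfsg.Lib.LFourType.Coord

open Subgroup

variable {G : Type*} [Group G] (C : Coord G)

/-- conjugation of a subgroup -/
abbrev conjS (g : G) (X : Subgroup G) : Subgroup G := X.map (MulAut.conj g).toMonoidHom

theorem mem_conjS {g x : G} {X : Subgroup G} : x ∈ conjS g X ↔ g⁻¹ * x * g ∈ X := by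
  refine ⟨?_, fun h => ⟨_, h, by simp [MulAut.conj_apply, mul_assoc]⟩⟩
  rintro ⟨y, hy, rfl⟩
  simpa [MulAut.conj_apply, mul_assoc] using hy

theorem conj_mem_conjS {g x : G} {X : Subgroup G} (h : x ∈ X) : g * x * g⁻¹ ∈ conjS g X :=
  mem_conjS.2 (by simpa [mul_assoc] using h)

theorem card_conjS (g : G) (X : Subgroup G) : Nat.card (conjS g X) = Nat.card X :=
  card_map_of_injective (MulAut.conj g).injective

theorem conjS_conjS (g h : G) (X : Subgroup G) : conjS g (conjS h X) = conjS (g * h) X := by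
  ext x
  simp only [mem_conjS, mul_inv_rev, mul_assoc]

theorem conjS_eq_self {g : G} {X : Subgroup G} : conjS g X = X ↔ g ∈ normalizer (X : Set G) := by
  rw [mem_normalizer_iff'']
  constructor
  · intro h x
    rw [← mem_conjS, h]
  · intro h
    ext x
    rw [mem_conjS]
    exact (h x).symm

theorem commute_conj {g x y : G} (h : Commute x y) : Commute (g * x * g⁻¹) (g * y * g⁻¹) :=
  h.map (MulAut.conj g).toMonoidHom

variable [Finite G]

/-- a 2-group can be moved into the Sylow subgroup -/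
theorem exists_conj_le {Q : Subgroup G} (hQ : IsPGroup 2 Q) : ∃ g, conjS g Q ≤ (C.S : Subgroup G) := by
  haveI : Fact (Nat.Prime 2) := ⟨Nat.prime_two⟩
  obtain ⟨P, hP⟩ := hQ.exists_le_sylow
  obtain ⟨g, hg⟩ := MulAction.exists_smul_eq G P C.S
  refine ⟨g, ?_⟩
  rw [← hg, Sylow.coe_subgroup_smul]
  intro x hx
  obtain ⟨y, hy, rfl⟩ := hx
  exact ⟨y, hP hy, rfl⟩

/-- a 2-subgroup containing the Sylow subgroup is equal to it -/
theorem eq_S {Q : Subgroup G} (hQ : IsPGroup 2 Q) (h : (C.S : Subgroup G) ≤ Q) : Q = C.S :=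
  C.S.3 hQ h

theorem isPGroup_of_le_S {Q : Subgroup G} (h : Q ≤ (C.S : Subgroup G)) : IsPGroup 2 Q :=
  C.S.2.to_le h

theorem not_conj_A_B (g : G) : conjS g C.A ≠ C.B := by
  haveI : Fact (Nat.Prime 2) := ⟨Nat.prime_two⟩
  intro h
  obtain ⟨n, hn, hnA⟩ := Cfsg.Lib.Transfer.burnside_fusion_set C.S (C.A : Set G) (C.B : Set G)
    C.S_le_normalizer_A C.S_le_normalizer_B g (by
      ext x
      rw [← h]
      exact ⟨fun ⟨y, hy, e⟩ => e ▸ conj_mem_conjS hy, fun hx => ⟨_, mem_conjS.1 hx, by simp [mul_assoc]⟩⟩)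
  have hAB : conjS n C.A = C.B := by
    ext x
    rw [← SetLike.mem_coe (p := C.B), ← hnA]
    exact ⟨fun hx => ⟨_, mem_conjS.1 hx, by simp [mul_assoc]⟩, fun ⟨y, hy, e⟩ => e ▸ conj_mem_conjS hy⟩
  have hnS : ∀ x, x ∈ (C.S : Subgroup G) → n * x * n⁻¹ ∈ (C.S : Subgroup G) := fun x hx =>
    (mem_normalizer_iff.1 hn x).1 hx
  -- the images of the sides are sides
  have hBA : conjS n C.B = C.A := by
    have h2 : ∀ x ∈ conjS n C.B, x * x = 1 := by
      rintro _ ⟨y, hy, rfl⟩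
      rw [← map_mul, C.B_sq hy, map_one]
    have hle : conjS n C.B ≤ (C.S : Subgroup G) := by
      rintro _ ⟨y, hy, rfl⟩
      exact hnS y (C.B_le hy)
    rcases C.le_A_or_B hle h2 with h' | h'
    · exact eq_of_le_of_card_ge h' (by rw [card_conjS, C.card_A, C.card_B])
    · have e : conjS n C.B = C.B := eq_of_le_of_card_ge h' (by rw [card_conjS])
      exact absurd (map_injective (MulAut.conj n).injective (hAB.trans e.symm)) C.A_ne_B
  obtain ⟨o, ho, hodd⟩ : ∃ o : ℕ, 0 < o ∧ (n ^ o = 1) := ⟨orderOf n, orderOf_pos n, pow_orderOf_eq_one n⟩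
  -- odd powers exchange, even powers fix
  have hpow : ∀ k : ℕ, (Even k → conjS (n ^ k) C.A = C.A) ∧ (Odd k → conjS (n ^ k) C.A = C.B) := by
    intro k
    induction k with
    | zero =>
      refine ⟨fun _ => ?_, fun h => absurd h (by decide)⟩
      rw [pow_zero]
      exact conjS_eq_self.2 (one_mem _)
    | succ k ih =>
      rw [pow_succ', ← conjS_conjS]
      refine ⟨fun h => ?_, fun h => ?_⟩
      · rw [ih.2 (Nat.not_even_iff_odd.1 (Nat.even_add_one.1 h)), hBA]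
      · rw [ih.1 (Nat.not_odd_iff_even.1 (fun hk => (Nat.not_even_iff_odd.2 h) hk.add_one)), hAB]
  obtain ⟨j, m, hm, hjm⟩ := Nat.exists_eq_pow_mul_and_not_dvd (orderOf_pos n).ne' 2 (by norm_num)
  have hm' : Odd m := Nat.odd_iff.2 (by omega)
  have hAm := (hpow m).2 hm'
  have hmem : n ^ m ∈ (C.S : Subgroup G) := by
    have hp : IsPGroup 2 ↥(zpowers (n ^ m)) := by
      refine IsPGroup.of_card (n := j) ?_
      rw [Nat.card_zpowers, orderOf_pow_of_dvd (Nat.pos_iff_ne_zero.1 hm'.pos) ⟨2 ^ j, by rw [hjm]; ring⟩, hjm,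
        Nat.mul_div_cancel _ hm'.pos]
    have hle : zpowers (n ^ m) ≤ normalizer ((C.S : Subgroup G) : Set G) := zpowers_le.2 (pow_mem hn m)
    have := C.eq_S (hp.to_sup_of_normal_right' C.S.2 hle) le_sup_right
    exact this ▸ mem_sup_left (mem_zpowers _)
  exact C.A_ne_B ((conjS_eq_self.2 (C.S_le_normalizer_A hmem)).symm.trans hAm)

theorem not_conj_B_A (g : G) : conjS g C.B ≠ C.A := fun h => C.not_conj_A_B g⁻¹ (by
  rw [← h, conjS_conjS, inv_mul_cancel]
  exact conjS_eq_self.2 (one_mem _))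

/-- an elementary subgroup of order sixteen in the Sylow subgroup conjugate to `A` is `A` -/
theorem conjS_A_eq {g : G} (h : conjS g C.A ≤ (C.S : Subgroup G)) : conjS g C.A = C.A := by
  have h2 : ∀ x ∈ conjS g C.A, x * x = 1 := by
    rintro _ ⟨y, hy, rfl⟩
    rw [← map_mul, C.A_sq hy, map_one]
  rcases C.le_A_or_B h h2 with h' | h'
  · exact eq_of_le_of_card_ge h' (by rw [card_conjS])
  · exact absurd (eq_of_le_of_card_ge h' (by rw [card_conjS, C.card_B, C.card_A])) (C.not_conj_A_B g)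

/-- a conjugate into the centre is realised in the normalizer of `A` -/
theorem exists_normalizer_A {x : G} (hx : x ∈ C.A) {g : G} (hg : g * x * g⁻¹ ∈ C.Z) :
    ∃ n ∈ normalizer (C.A : Set G), n * x * n⁻¹ = g * x * g⁻¹ := by
  haveI : Fact (Nat.Prime 2) := ⟨Nat.prime_two⟩
  set z := g * x * g⁻¹ with hz
  set K := centralizer ({z} : Set G) with hK
  have hAK : conjS g C.A ≤ K := by
    rintro _ ⟨y, hy, rfl⟩
    exact mem_centralizer_singleton_iff.2 (commute_conj (g := g) (C.A_comm hy hx)).eq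
  have hSK : (C.S : Subgroup G) ≤ K := C.S_le_centralizer hg
  have hp : IsPGroup 2 ↥((conjS g C.A).subgroupOf K) :=
    (C.isPGroup_of_le_S C.A_le).map _ |>.comap_subtype
  obtain ⟨P, hP⟩ := hp.exists_le_sylow
  obtain ⟨h, hh⟩ := MulAction.exists_smul_eq K P (C.S.subtype hSK)
  have hle : conjS ((h : G) * g) C.A ≤ (C.S : Subgroup G) := by
    rw [← conjS_conjS]
    rintro _ ⟨y, hy, rfl⟩
    have hy' : (⟨y, hAK hy⟩ : K) ∈ (P : Subgroup K) := hP hy
    have hm : h * (⟨y, hAK hy⟩ : K) * h⁻¹ ∈ ((h • P : Sylow 2 K) : Subgroup K) := by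
      rw [Sylow.coe_subgroup_smul]
      exact ⟨⟨y, hAK hy⟩, hy', rfl⟩
    rw [hh] at hm
    exact hm
  refine ⟨h * g, conjS_eq_self.1 (C.conjS_A_eq hle), ?_⟩
  have hc : Commute (h : G) z := mem_centralizer_singleton_iff.1 h.2
  calc (h : G) * g * x * ((h : G) * g)⁻¹ = (h : G) * z * (h : G)⁻¹ := by rw [hz]; group
    _ = z := by rw [hc.eq, mul_inv_cancel_right]

/-- `A` is moved: some element of `N(A)` does not fix the centre -/
def Moved : Prop := ∃ n ∈ normalizer (C.A : Set G), ∃ z ∈ C.Z, n * z * n⁻¹ ∉ C.Z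

/-- an element of a side outside the centre conjugate into the centre moves the side -/
theorem moved_of_fused {a : G} (ha : a ∈ C.A) (haZ : a ∉ C.Z) {g : G} (hg : g * a * g⁻¹ ∈ C.Z) : C.Moved := by
  obtain ⟨n, hn, e⟩ := C.exists_normalizer_A ha hg
  refine ⟨n⁻¹, inv_mem hn, _, (e ▸ hg : n * a * n⁻¹ ∈ C.Z), ?_⟩
  simpa [mul_assoc] using haZ

theorem conj_mem_Z {n z : G} (h : ¬ C.Moved) (hn : n ∈ normalizer (C.A : Set G)) (hz : z ∈ C.Z) :
    n * z * n⁻¹ ∈ C.Z := by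
  by_contra hc
  exact h ⟨n, hn, z, hz, hc⟩

/-- outside the centre, an unfused element of `A` has Sylow centralizer `A` -/
theorem le_A_of_unfused {a : G} (ha : a ∈ C.A) (haZ : a ∉ C.Z) (hu : ∀ g : G, g * a * g⁻¹ ∉ C.Z)
    {Q : Subgroup G} (hQ : IsPGroup 2 Q) (hQC : ∀ x ∈ Q, Commute a x) (hAQ : C.A ≤ Q) : Q = C.A := by
  refine le_antisymm (fun x hx => ?_) hAQ
  obtain ⟨g, hg⟩ := C.exists_conj_le hQ
  have hgA : conjS g C.A = C.A := C.conjS_A_eq ((map_mono hAQ).trans hg)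
  have h1 : g * x * g⁻¹ ∈ C.A := C.mem_A_of_commute (hgA.le (conj_mem_conjS ha)) (hu g)
    (hg (conj_mem_conjS hx)) (commute_conj (hQC x hx))
  rw [← hgA, mem_conjS] at h1
  simpa [mul_assoc] using h1

/-- an unfused element of `A` is conjugate in the Sylow subgroup only into `A`, by `N(A)` -/
theorem conj_into_A {a : G} (ha : a ∈ C.A) (haZ : a ∉ C.Z) (hu : ∀ g : G, g * a * g⁻¹ ∉ C.Z) {g : G}
    (hg : g * a * g⁻¹ ∈ (C.S : Subgroup G)) :
    g * a * g⁻¹ ∈ C.A ∧ ∃ n ∈ normalizer (C.A : Set G), n * a * n⁻¹ = g * a * g⁻¹ := by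
  haveI : Fact (Nat.Prime 2) := ⟨Nat.prime_two⟩
  set b := g * a * g⁻¹ with hb
  have hb2 : b * b = 1 := by
    rw [hb, show g * a * g⁻¹ * (g * a * g⁻¹) = g * (a * a) * g⁻¹ by group, C.A_sq ha]; group
  have hbA : b ∈ C.A := by
    refine (C.mem_A_or_B hg hb2).resolve_right fun hbB => ?_
    -- the conjugate of `B` back would be a 2-subgroup centralising `a`
    have hQ : IsPGroup 2 ↥(conjS g⁻¹ C.B) := (C.isPGroup_of_le_S C.B_le).map _
    obtain ⟨P, hP⟩ := (hQ.comap_subtype (K := centralizer ({a} : Set G))).exists_le_sylow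
    obtain ⟨P', hP'⟩ := ((C.isPGroup_of_le_S C.A_le).comap_subtype
      (K := centralizer ({a} : Set G))).exists_le_sylow
    have hAc : C.A ≤ centralizer ({a} : Set G) := fun y hy =>
      mem_centralizer_singleton_iff.2 (C.A_comm hy ha).eq
    have hBc : conjS g⁻¹ C.B ≤ centralizer ({a} : Set G) := by
      rintro _ ⟨y, hy, rfl⟩
      refine mem_centralizer_singleton_iff.2 ?_
      have := commute_conj (g := g⁻¹) (C.B_comm hy hbB)
      rw [show g⁻¹ * b * g⁻¹⁻¹ = a by rw [hb]; group] at this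
      exact this.eq
    have hA' : (P' : Subgroup (centralizer ({a} : Set G))).map (centralizer ({a} : Set G)).subtype = C.A :=
      C.le_A_of_unfused ha haZ hu (P'.2.map _)
        (by rintro _ ⟨y, -, rfl⟩; exact (mem_centralizer_singleton_iff.1 y.2).symm)
        (fun y hy => ⟨⟨y, hAc hy⟩, hP' hy, rfl⟩)
    obtain ⟨c, hc⟩ := MulAction.exists_smul_eq ↥(centralizer ({a} : Set G)) P P'
    have hle : conjS (c : G) (conjS g⁻¹ C.B) ≤ C.A := by
      rw [← hA']
      rintro _ ⟨y, hy, rfl⟩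
      refine ⟨c * ⟨y, hBc hy⟩ * c⁻¹, ?_, rfl⟩
      rw [← hc, Sylow.coe_subgroup_smul]
      exact ⟨⟨y, hBc hy⟩, hP hy, rfl⟩
    rw [conjS_conjS] at hle
    exact C.not_conj_B_A _ (eq_of_le_of_card_ge hle (by rw [card_conjS, C.card_A, C.card_B]))
  refine ⟨hbA, ?_⟩
  have hbZ : b ∉ C.Z := hu g
  have hu' : ∀ k : G, k * b * k⁻¹ ∉ C.Z := fun k h => hu (k * g) (by simpa [hb, mul_assoc] using h)
  have hAc : conjS g C.A ≤ centralizer ({b} : Set G) := by
    rintro _ ⟨y, hy, rfl⟩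
    exact mem_centralizer_singleton_iff.2 (commute_conj (g := g) (C.A_comm hy ha)).eq
  obtain ⟨P, hP⟩ := (((C.isPGroup_of_le_S C.A_le).map (MulAut.conj g).toMonoidHom).comap_subtype
    (K := centralizer ({b} : Set G))).exists_le_sylow
  have hAb : C.A ≤ centralizer ({b} : Set G) := fun y hy => mem_centralizer_singleton_iff.2 (C.A_comm hy hbA).eq
  obtain ⟨P', hP'⟩ := ((C.isPGroup_of_le_S C.A_le).comap_subtype
    (K := centralizer ({b} : Set G))).exists_le_sylow
  have hA' : (P' : Subgroup (centralizer ({b} : Set G))).map (centralizer ({b} : Set G)).subtype = C.A :=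
    C.le_A_of_unfused hbA hbZ hu' (P'.2.map _)
      (by rintro _ ⟨y, -, rfl⟩; exact (mem_centralizer_singleton_iff.1 y.2).symm)
      (fun y hy => ⟨⟨y, hAb hy⟩, hP' hy, rfl⟩)
  obtain ⟨c, hc⟩ := MulAction.exists_smul_eq ↥(centralizer ({b} : Set G)) P P'
  have hle : conjS (c : G) (conjS g C.A) ≤ C.A := by
    intro x hx
    obtain ⟨y, hy, rfl⟩ := hx
    rw [← hA']
    refine ⟨c * ⟨y, hAc hy⟩ * c⁻¹, ?_, rfl⟩
    rw [← hc, Sylow.coe_subgroup_smul]
    exact ⟨⟨y, hAc hy⟩, hP hy, rfl⟩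
  rw [conjS_conjS] at hle
  refine ⟨c * g, conjS_eq_self.1 (eq_of_le_of_card_ge hle (by rw [card_conjS])), ?_⟩
  have hcb : Commute (c : G) b := mem_centralizer_singleton_iff.1 c.2
  calc (c : G) * g * a * ((c : G) * g)⁻¹ = (c : G) * (g * a * g⁻¹) * (c : G)⁻¹ := by group
    _ = (c : G) * b * (c : G)⁻¹ := rfl
    _ = b := by rw [hcb.eq, mul_inv_cancel_right]

end Cfsg.Lib.LFourType.Coord
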