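import Cfsg.Agent.LFourType.SpreadScan

/-!
A set of additive bijections of a side, closed under composition, containing the transvections of the Sylow
subgroup and with these as a Sylow subgroup, commutes with one of the four scalar structures.
-/

set_option autoImplicit false

namespace Cfsg.Lib.LFourType.Spread

/-- addition of codes -/
def xa (a b : Fin 16) : Fin 16 := ⟨(a.val ^^^ b.val) % 16, Nat.mod_lt _ (by norm_num)⟩

theorem xa_val : ∀ a b : Fin 16, (xa a b).val = a.val ^^^ b.val := by decide +kernel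

theorem xa_split : ∀ v : Fin 16, v = xa (xa (if v.val % 2 = 1 then 1 else 0) (if v.val / 2 % 2 = 1 then 2 else 0))
    (xa (if v.val / 4 % 2 = 1 then 4 else 0) (if v.val / 8 % 2 = 1 then 8 else 0)) := by decide

theorem xa_self : ∀ v : Fin 16, xa v v = 0 := by decide
theorem xa_eq_zero : ∀ v w : Fin 16, xa v w = 0 → v = w := by decide

/-- the matrix of a map -/
def code (f : Fin 16 → Fin 16) : Mat := ((f 1).val, (f 2).val, (f 4).val, (f 8).val)

/-- additive -/
def Add' (f : Fin 16 → Fin 16) : Prop := ∀ a b, f (xa a b) = xa (f a) (f b)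

theorem Add'.zero {f : Fin 16 → Fin 16} (hf : Add' f) : f 0 = 0 := by
  have h := hf 0 0
  rwa [xa_self, xa_self] at h

theorem app_code {f : Fin 16 → Fin 16} (hf : Add' f) (v : Fin 16) : app (code f) v.val = (f v).val := by
  conv_rhs => rw [xa_split v]
  rw [hf, hf, hf, xa_val, xa_val, xa_val]
  simp only [apply_ite f, hf.zero, apply_ite Fin.val, Fin.val_zero, app, code, Nat.xor_assoc]

theorem code_comp {f : Fin 16 → Fin 16} (hf : Add' f) (g : Fin 16 → Fin 16) :
    mul (code f) (code g) = code (f ∘ g) := by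
  simp only [mul, code, Function.comp, Prod.mk.injEq]
  exact ⟨app_code hf (g 1), app_code hf (g 2), app_code hf (g 4), app_code hf (g 8)⟩

theorem code_inj {f g : Fin 16 → Fin 16} (hf : Add' f) (hg : Add' g) (h : code f = code g) : f = g :=
  funext fun v => Fin.ext (by rw [← app_code hf, ← app_code hg, h])

theorem code_id : code id = one := rfl

theorem Add'.comp {f g : Fin 16 → Fin 16} (hf : Add' f) (hg : Add' g) : Add' (f ∘ g) := fun a b => by
  show f (g (xa a b)) = _
  rw [hg a b, hf]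
  rfl

theorem meq_iff {m n : Mat} : meq m n = true ↔ m = n := by
  obtain ⟨a, b, c, d⟩ := m
  obtain ⟨a', b', c', d'⟩ := n
  simp [meq, Prod.ext_iff, and_assoc]

theorem comm_iff' {m n : Mat} : comm m n = true ↔ mul m n = mul n m := meq_iff

/-- the transvection as a map -/
def tpf (i : Fin 4) : Fin 16 → Fin 16 := fun v => ⟨app (tp i) v.val % 16, Nat.mod_lt _ (by norm_num)⟩

/-- the scalar structure as a map -/
def scf (k : Fin 4) : Fin 16 → Fin 16 := fun v => ⟨app (sc k) v.val % 16, Nat.mod_lt _ (by norm_num)⟩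

theorem tpf_add : ∀ i a b, tpf i (xa a b) = xa (tpf i a) (tpf i b) := by decide +kernel
theorem scf_add : ∀ k a b, scf k (xa a b) = xa (scf k a) (scf k b) := by decide +kernel
theorem tpf_code : ∀ i, code (tpf i) = tp i := by decide +kernel
theorem scf_code : ∀ k, code (scf k) = sc k := by decide +kernel
theorem tpf_app : ∀ i v, (tpf i v).val = app (tp i) v.val := by decide +kernel

/-- the group of a Sylow subgroup of order four -/
structure AutSet (X : (Fin 16 → Fin 16) → Prop) : Prop where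
  add : ∀ f, X f → Add' f
  inj : ∀ f, X f → Function.Injective f
  comp : ∀ f g, X f → X g → X (f ∘ g)
  tp_mem : ∀ i, X (tpf i)
  four : ∀ f, X f → f ∘ f ∘ f ∘ f = id → f ∘ f = id
  invol : ∀ f, X f → f ∘ f = id → f ∘ tpf 1 = tpf 1 ∘ f → f ∘ tpf 2 = tpf 2 ∘ f → ∃ i, f = tpf i

variable {X : (Fin 16 → Fin 16) → Prop} (h : AutSet X)
include h

theorem AutSet.not_bad {f : Fin 16 → Fin 16} (hf : X f) : bad (code f) = false := by
  rw [Bool.eq_false_iff]
  intro hb
  have haf := h.add f hf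
  have hff : Add' (f ∘ f) := haf.comp haf
  simp only [bad] at hb
  rw [code_comp haf, code_comp hff] at hb
  split_ifs at hb with h1
  · rw [meq_iff, ← code_id] at h1
    have h1' : f ∘ f = id := code_inj hff (fun _ _ => rfl) h1
    simp only [Bool.and_eq_true, Bool.not_eq_true', Bool.or_eq_false_iff, comm_iff', ← tpf_code, code_comp haf,
      code_comp (tpf_add 1), code_comp (tpf_add 2)] at hb
    obtain ⟨⟨c1, c2⟩, ⟨⟨n0, n1⟩, n2⟩, n3⟩ := hb
    have a1 : ∀ i : Fin 4, Add' (tpf i) := tpf_add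
    have e1 := code_inj (haf.comp (a1 1)) ((a1 1).comp haf) c1
    have e2 := code_inj (haf.comp (a1 2)) ((a1 2).comp haf) c2
    obtain ⟨i, hi⟩ := h.invol f hf h1' e1 e2
    have hi' : meq (code f) (code (tpf i)) = true := meq_iff.2 (by rw [hi])
    fin_cases i <;> simp_all
  · rw [meq_iff, ← code_id] at hb
    have h4 : (f ∘ f) ∘ (f ∘ f) = id := code_inj (hff.comp hff) (fun _ _ => rfl) hb
    exact h1 (meq_iff.2 (by rw [h.four f hf h4, code_id]))

theorem AutSet.eval {f : Fin 16 → Fin 16} (hf : X f) : ∀ (l : List (Fin 4)) (g : Fin 16 → Fin 16), X g →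
    ∃ g', X g' ∧ evalW (code f) (code g) l = code g'
  | [], g, hg => ⟨g, hg, rfl⟩
  | i :: l, g, hg => by
    by_cases hi : i = 0
    · obtain ⟨g', h1, h2⟩ := AutSet.eval hf l (g ∘ f) (h.comp g f hg hf)
      exact ⟨g', h1, by rw [← h2, ← code_comp (h.add g hg), evalW, if_pos hi]⟩
    · obtain ⟨g', h1, h2⟩ := AutSet.eval hf l (g ∘ tpf i) (h.comp g _ hg (h.tp_mem i))
      exact ⟨g', h1, by rw [← h2, ← code_comp (h.add g hg), evalW, if_neg hi, tpf_code]⟩

/-- a normalised member is in the lists -/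
theorem AutSet.sort {f : Fin 16 → Fin 16} (hf : X f) (h1 : (f 1).val ∈ [1, 2, 3, 4, 8, 12]) :
    linear (code f) = true ∧ (linAll (code f) = true ∨ ∃ k, code f ∈ reps k) := by
  have hs : scan (f 1).val = true := by
    simp only [List.mem_cons, List.not_mem_nil, or_false] at h1
    rcases h1 with e | e | e | e | e | e <;> rw [e]
    exacts [scan_one, scan_two, scan_three, scan_four, scan_eight, scan_twelve]
  simp only [scan, List.all_eq_true, List.mem_range] at hs
  have hok : ok (code f) = true := hs _ (f 2).isLt _ (f 4).isLt _ (f 8).isLt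
  rw [ok, Bool.or_eq_true] at hok
  rcases hok with hk | hk
  · exfalso
    simp only [Bool.and_eq_true, List.any_eq_true, List.mem_range, bne_iff_ne, beq_iff_eq] at hk
    obtain ⟨-, v, hv, hv0, he⟩ := hk
    have e : app (code f) v = (f ⟨v, hv⟩).val := app_code (h.add f hf) ⟨v, hv⟩
    rw [e] at he
    have : (⟨v, hv⟩ : Fin 16) = 0 := h.inj f hf (by rw [(h.add f hf).zero]; exact Fin.ext he)
    exact hv0 (congrArg Fin.val this)
  · split_ifs at hk with hl
    · refine ⟨hl, ?_⟩
      simp only [Bool.or_eq_true, List.any_eq_true, meq_iff] at hk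
      rcases hk with (((hk | ⟨m, hm, e⟩) | ⟨m, hm, e⟩) | ⟨m, hm, e⟩) | ⟨m, hm, e⟩
      exacts [.inl hk, .inr ⟨0, e ▸ hm⟩, .inr ⟨1, e ▸ hm⟩, .inr ⟨2, e ▸ hm⟩, .inr ⟨3, e ▸ hm⟩]
    · simp only [List.any_eq_true] at hk
      obtain ⟨w, -, hb⟩ := hk
      obtain ⟨g, hg, e⟩ := h.eval hf w f hf
      rw [e, h.not_bad hg] at hb
      exact absurd hb Bool.false_ne_true

theorem AutSet.normalise {f : Fin 16 → Fin 16} (hf : X f) :
    ∃ i, X (tpf i ∘ f) ∧ ((tpf i ∘ f) 1).val ∈ [1, 2, 3, 4, 8, 12] := by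
  obtain ⟨i, hi⟩ := exists_tp (f 1) (fun e => by
    have h0 : f 1 = f 0 := by rw [(h.add f hf).zero]; exact Fin.ext e
    exact absurd (h.inj f hf h0) (by decide))
  exact ⟨i, h.comp _ _ (h.tp_mem i) hf, by rw [Function.comp, tpf_app]; exact hi⟩

theorem AutSet.undo (k : Fin 4) {f : Fin 16 → Fin 16} (hf : X f) {i : Fin 4}
    (hc : comm (code (tpf i ∘ f)) (sc k) = true) : f ∘ scf k = scf k ∘ f := by
  have haf := h.add f hf
  have hag : Add' (tpf i ∘ f) := h.add _ (h.comp _ _ (h.tp_mem i) hf)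
  rw [comm_iff', ← scf_code, code_comp hag, code_comp (scf_add k)] at hc
  have e := code_inj (hag.comp (scf_add k)) ((Add'.comp (scf_add k) hag)) hc
  have ht : scf k ∘ tpf i = tpf i ∘ scf k := by
    refine code_inj (Add'.comp (scf_add k) (tpf_add i)) (Add'.comp (tpf_add i) (scf_add k)) ?_
    rw [← code_comp (scf_add k), ← code_comp (tpf_add i), scf_code, tpf_code]
    exact (comm_iff'.1 (tp_sc i k)).symm
  have hii : tpf i ∘ tpf i = id := code_inj (Add'.comp (tpf_add i) (tpf_add i)) (fun _ _ => rfl) (by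
    rw [← code_comp (tpf_add i), tpf_code, tp_sq, code_id])
  calc f ∘ scf k = (tpf i ∘ tpf i) ∘ f ∘ scf k := by rw [hii]; rfl
    _ = tpf i ∘ ((tpf i ∘ f) ∘ scf k) := rfl
    _ = tpf i ∘ ((scf k ∘ tpf i) ∘ f) := by rw [e]; rfl
    _ = tpf i ∘ ((tpf i ∘ scf k) ∘ f) := by rw [ht]
    _ = (tpf i ∘ tpf i) ∘ scf k ∘ f := rfl
    _ = scf k ∘ f := by rw [hii]; rfl

theorem AutSet.exists_structure : ∃ k, ∀ f, X f → f ∘ scf k = scf k ∘ f := by
  classical
  by_cases hall : ∀ f, X f → (f 1).val ∈ [1, 2, 3, 4, 8, 12] → linAll (code f) = true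
  · refine ⟨0, fun f hf => ?_⟩
    obtain ⟨i, hg, hi⟩ := h.normalise hf
    have := hall _ hg hi
    simp only [linAll, Bool.and_eq_true] at this
    exact h.undo 0 hf this.1.1.1
  push Not at hall
  obtain ⟨x, hx, hx1, hxa⟩ := hall
  obtain ⟨-, hxk⟩ := h.sort hx hx1
  obtain ⟨k, hxk⟩ := hxk.resolve_left hxa
  refine ⟨k, fun f hf => ?_⟩
  obtain ⟨i, hg, hi⟩ := h.normalise hf
  obtain ⟨-, hgl | ⟨l, hl⟩⟩ := h.sort hg hi
  · simp only [linAll, Bool.and_eq_true] at hgl
    refine h.undo k hf (i := i) ?_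
    fin_cases k
    exacts [hgl.1.1.1, hgl.1.1.2, hgl.1.2, hgl.2]
  by_cases hkl : l = k
  · subst hkl
    exact h.undo l hf (List.all_eq_true.1 (reps_lin l) _ hl)
  exfalso
  have hp : pairs k l = true := by
    fin_cases k
    exacts [pairs_zero l hkl, pairs_one l hkl, pairs_two l hkl, pairs_three l hkl]
  have hxy := h.comp _ _ hx hg
  have hxxy := h.comp _ _ hx hxy
  have hp' := List.all_eq_true.1 (List.all_eq_true.1 hp _ hxk) _ hl
  rw [code_comp (h.add x hx), code_comp (h.add x hx)] at hp'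
  have key : ∀ g, X g → linear (code g) = true := fun g hg' => by
    obtain ⟨j, hj, hj1⟩ := h.normalise hg'
    have hl' := (h.sort hj hj1).1
    simp only [linear, Bool.or_eq_true] at hl' ⊢
    have back : ∀ k, comm (code (tpf j ∘ g)) (sc k) = true → comm (code g) (sc k) = true := fun k hc => by
      rw [comm_iff', ← scf_code, code_comp (h.add g hg'), code_comp (scf_add k), h.undo k hg' hc]
    rcases hl' with ((hc | hc) | hc) | hc
    exacts [.inl (.inl (.inl (back 0 hc))), .inl (.inl (.inr (back 1 hc))), .inl (.inr (back 2 hc)), .inr (back 3 hc)]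
  simp [key _ hxy, key _ hxxy] at hp'

end Cfsg.Lib.LFourType.Spread
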