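import Cfsg.Agent.LFourType.Fusion
import Cfsg.Agent.LFourType.Spread

/-!
The action of the normalizer of a side in coordinates: after a change of coordinates it is linear over the field
with four elements.
-/

set_option autoImplicit false
set_option linter.unusedSectionVars false
set_option linter.style.haveILetI false

namespace Cfsg.Lib.LFourType

open Spread

/-- the triple of a code of a side -/
def pv (v : Fin 16) : Mo := (⟨v.val % 4, Nat.mod_lt _ (by norm_num)⟩, 0, ⟨v.val / 4, by omega⟩)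

/-- the code of a triple of a side -/
def vp (x : Mo) : Fin 16 := ⟨x.1.val + 4 * x.2.2.val, by omega⟩

theorem vp_pv : ∀ v : Fin 16, vp (pv v) = v := by decide
theorem pv_vp : ∀ x : Mo, x.2.1 = 0 → pv (vp x) = x := by decide
theorem pv_side : ∀ v : Fin 16, (pv v).2.1 = 0 := fun _ => rfl
theorem pv_xa : ∀ a b : Fin 16, pv (xa a b) = mm (pv a) (pv b) := by decide
theorem conj_tpf : ∀ (x : Mo) (v : Fin 16), mm (mm x (pv v)) (mi x) = pv (tpf x.2.1 v) := by decide +kernel

/-- the change of coordinates -/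
def shift (k l : Fin 4) (x : Mo) : Mo :=
  (x.1, x.2.1, qa x.2.2 (qa (qm k (qm x.1 x.1)) (qm l (qm x.2.1 x.2.1))))

theorem shift_parts : ∀ k l a b a' b' : Fin 4,
    qa (qm k (qm (qa a a') (qa a a'))) (qm l (qm (qa b b') (qa b b'))) =
      qa (qa (qm k (qm a a)) (qm l (qm b b))) (qa (qm k (qm a' a')) (qm l (qm b' b'))) := by decide +kernel

theorem qa_shuffle : ∀ c c' m u u' : Fin 4, qa (qa (qa c c') m) (qa u u') = qa (qa (qa c u) (qa c' u')) m := by decide +kernel

theorem shift_mm (k l : Fin 4) (x y : Mo) : shift k l (mm x y) = mm (shift k l x) (shift k l y) := by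
  simp only [shift, mm, shift_parts, qa_shuffle]

theorem shift_shift : ∀ (k l : Fin 4) (x : Mo), shift k l (shift k l x) = x := by decide +kernel

theorem tau_shift : ∀ (k l : Fin 4) (x : Mo), shift k l (tau x) = tau (shift l k x) := by decide +kernel

theorem shift_sc : ∀ (k l : Fin 4) (v : Fin 16), scf k (vp (shift k l (pv v))) = vp (shift k l (pv (scf 0 v))) := by
  decide +kernel

/-- multiplication of a code by a scalar -/
def smul (q : Fin 4) (v : Fin 16) : Fin 16 :=
  if q = 0 then 0 else if q = 1 then v else if q = 2 then scf 0 v else scf 0 (scf 0 v)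

theorem split_smul : ∀ v : Fin 16, v = xa (smul (pv v).1 1) (smul (pv v).2.2 4) := by decide +kernel

namespace Coord

open Subgroup

variable {G : Type*} [Group G] (C : Coord G)

/-- an element of a side from its code -/
def eA (v : Fin 16) : G := C.e (pv v)

theorem eA_mem (v : Fin 16) : C.eA v ∈ C.A := C.mem_A.2 (pv_side v)

theorem eA_inj : Function.Injective C.eA := fun a b h => by
  rw [← vp_pv a, ← vp_pv b, C.e_inj h]

theorem exists_eA {a : G} (ha : a ∈ C.A) : ∃ v, C.eA v = a := by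
  obtain ⟨x, hx, rfl⟩ := ha
  exact ⟨vp x, by rw [eA, pv_vp x hx]⟩

theorem eA_xa (a b : Fin 16) : C.eA (xa a b) = C.eA a * C.eA b := by rw [eA, pv_xa, C.e_mul]; rfl

theorem eA_zero : C.eA 0 = 1 := C.e_zero

/-- the codes as the side -/
noncomputable def sideEquiv : Fin 16 ≃ ↥C.A :=
  Equiv.ofBijective (fun v => ⟨C.eA v, C.eA_mem v⟩)
    ⟨fun _ _ h => C.eA_inj (congrArg Subtype.val h), fun ⟨_, ha⟩ => by
      obtain ⟨v, hv⟩ := C.exists_eA ha; exact ⟨v, Subtype.ext hv⟩⟩

/-- conjugation of a side by an element of the normalizer -/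
def conjEquiv (n : ↥(normalizer (C.A : Set G))) : ↥C.A ≃ ↥C.A where
  toFun a := ⟨(n : G) * a * (n : G)⁻¹, (mem_normalizer_iff.1 n.2 a).1 a.2⟩
  invFun a := ⟨(n : G)⁻¹ * a * (n : G), (mem_normalizer_iff.1 n.2 _).2 (by simpa [mul_assoc] using a.2)⟩
  left_inv a := Subtype.ext (by
    show (n : G)⁻¹ * ((n : G) * a * (n : G)⁻¹) * n = a
    group)
  right_inv a := Subtype.ext (by
    show (n : G) * ((n : G)⁻¹ * a * n) * (n : G)⁻¹ = a
    group)

/-- the action of the normalizer of a side on codes -/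
noncomputable def act : ↥(normalizer (C.A : Set G)) →* Equiv.Perm (Fin 16) where
  toFun n := (C.sideEquiv.trans (C.conjEquiv n)).trans C.sideEquiv.symm
  map_one' := Equiv.ext fun v => by
    refine C.sideEquiv.injective (Subtype.ext ?_)
    simp [conjEquiv]
  map_mul' m n := Equiv.ext fun v => by
    refine C.sideEquiv.injective (Subtype.ext ?_)
    simp [conjEquiv, mul_assoc]

theorem act_spec (n : ↥(normalizer (C.A : Set G))) (v : Fin 16) :
    C.eA (C.act n v) = (n : G) * C.eA v * (n : G)⁻¹ := by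
  have := congrArg Subtype.val (C.sideEquiv.apply_symm_apply (C.conjEquiv n (C.sideEquiv v)))
  exact this

theorem act_add (n : ↥(normalizer (C.A : Set G))) : Add' (C.act n) := fun a b => C.eA_inj (by
  rw [C.act_spec, C.eA_xa, C.eA_xa, C.act_spec, C.act_spec]; group)

theorem act_S {x : Mo} (h : C.e x ∈ normalizer (C.A : Set G)) : (C.act ⟨C.e x, h⟩ : Fin 16 → Fin 16) = tpf x.2.1 :=
  funext fun v => C.eA_inj (by
    rw [C.act_spec]
    show C.e x * C.e (pv v) * (C.e x)⁻¹ = C.e (pv (tpf x.2.1 v))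
    rw [C.e_inv, ← C.e_mul, ← C.e_mul, conj_tpf])

/-- linear on the side -/
def IsLin : Prop := ∀ n : ↥(normalizer (C.A : Set G)), ∀ v, C.act n (scf 0 v) = scf 0 (C.act n v)

/-- the changed coordinates -/
def twist (k l : Fin 4) : Coord G where
  S := C.S
  e := C.e ∘ shift k l
  e_mul x y := by simp only [Function.comp, shift_mm, C.e_mul]
  e_inj := C.e_inj.comp (Function.Involutive.injective (shift_shift k l))
  e_range := by rw [(Function.Involutive.surjective (shift_shift k l)).range_comp, C.e_range]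

theorem twist_A (k l : Fin 4) : (C.twist k l).A = C.A := by
  ext g
  constructor
  · rintro ⟨x, hx, rfl⟩; exact ⟨shift k l x, hx, rfl⟩
  · rintro ⟨x, hx, rfl⟩
    exact ⟨shift k l x, hx, by show C.e (shift k l (shift k l x)) = _; rw [shift_shift]⟩

theorem twist_swap (k l : Fin 4) : (C.twist k l).swap = C.swap.twist l k := by
  simp only [twist, swap, Coord.mk.injEq, true_and]
  exact funext fun x => congrArg C.e (tau_shift k l x)

theorem twist_B (k l : Fin 4) : (C.twist k l).B = C.B := by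
  rw [← swap_A, ← C.swap_A, twist_swap, twist_A]

theorem shift_vp (k l : Fin 4) (v : Fin 16) : (C.twist k l).eA v = C.eA (vp (shift k l (pv v))) := by
  rw [eA, eA, pv_vp _ (show (shift k l (pv v)).2.1 = 0 from pv_side v)]
  rfl

variable [Finite G]

theorem autSet : AutSet fun f => ∃ n : ↥(normalizer (C.A : Set G)), f = (C.act n : Fin 16 → Fin 16) := by
  classical
  haveI : Fact (Nat.Prime 2) := ⟨Nat.prime_two⟩
  set K := normalizer (C.A : Set G)
  let Rg := C.act.range
  let P : Sylow 2 Rg := (C.S.subtype C.S_le_normalizer_A).mapSurjective C.act.rangeRestrict_surjective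
  have hP : ∀ p : Rg, p ∈ (P : Subgroup Rg) → ∃ i, (p : Equiv.Perm (Fin 16)).toFun = tpf i := by
    rintro _ ⟨⟨s, hsK⟩, hs, rfl⟩
    obtain ⟨x, rfl⟩ := C.exists_coord (show s ∈ (C.S : Subgroup G) from hs)
    exact ⟨x.2.1, C.act_S hsK⟩
  have htp : ∀ i, ∃ s : ↥K, (s : G) ∈ (C.S : Subgroup G) ∧ (C.act s : Fin 16 → Fin 16) = tpf i := fun i =>
    ⟨⟨C.e (0, i, 0), C.S_le_normalizer_A (C.e_mem _)⟩, C.e_mem _, C.act_S _⟩
  refine ⟨fun f ⟨n, hn⟩ => hn ▸ C.act_add n, fun f ⟨n, hn⟩ => hn ▸ (C.act n).injective,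
    fun f g ⟨m, hm⟩ ⟨n, hn⟩ => ⟨m * n, by rw [hm, hn, map_mul]; rfl⟩, fun i => ?_, ?_, ?_⟩
  · obtain ⟨s, -, e⟩ := htp i
    exact ⟨s, e.symm⟩
  · rintro f ⟨n, rfl⟩ h4
    set p : Rg := ⟨C.act n, n, rfl⟩
    have hp4 : p ^ 4 = 1 := Subtype.ext (Equiv.ext fun v => congrFun h4 v)
    have hz : IsPGroup 2 ↥(zpowers p) := by
      intro q
      refine ⟨2, Subtype.ext ?_⟩
      obtain ⟨i, hi⟩ := q.2
      show (q : Rg) ^ (2 ^ 2) = 1
      rw [← hi, ← zpow_natCast, ← zpow_mul, mul_comm, zpow_mul, zpow_natCast, show p ^ 2 ^ 2 = 1 from hp4, one_zpow]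
    obtain ⟨P', hP'⟩ := hz.exists_le_sylow
    obtain ⟨c, hc⟩ := MulAction.exists_smul_eq Rg P P'
    have hm := hP' (mem_zpowers p)
    rw [← hc, Sylow.coe_subgroup_smul] at hm
    obtain ⟨t, ht, e⟩ := hm
    obtain ⟨i, hi⟩ := hP t ht
    have ht2 : t * t = 1 := Subtype.ext (Equiv.ext fun v => by
      show (t : Equiv.Perm (Fin 16)).toFun ((t : Equiv.Perm (Fin 16)).toFun v) = v
      rw [hi]
      exact (by decide +kernel : ∀ (i : Fin 4) (v : Fin 16), tpf i (tpf i v) = v) i v)
    have hpp : p * p = 1 := by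
      rw [← e]
      show (MulAut.conj c) t * (MulAut.conj c) t = 1
      rw [← map_mul, ht2, map_one]
    exact funext fun v => Equiv.ext_iff.1 (congrArg Subtype.val hpp) v
  · rintro f ⟨n, rfl⟩ h2 e1 e2
    set p : Rg := ⟨C.act n, n, rfl⟩
    have hp2 : p ^ 2 = 1 := Subtype.ext (Equiv.ext fun v => congrFun h2 v)
    have hz : IsPGroup 2 ↥(zpowers p) := by
      intro q
      refine ⟨1, Subtype.ext ?_⟩
      obtain ⟨i, hi⟩ := q.2
      show (q : Rg) ^ (2 ^ 1) = 1
      rw [← hi, ← zpow_natCast, ← zpow_mul, mul_comm, zpow_mul, zpow_natCast, show p ^ 2 ^ 1 = 1 from hp2, one_zpow]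
    have hall : ∀ i : Fin 4, ∀ v, C.act n (tpf i v) = tpf i (C.act n v) := by
      have h12 : ∀ v, tpf 3 v = tpf 1 (tpf 2 v) := by decide +kernel
      have h0 : ∀ v, tpf 0 v = v := by decide +kernel
      intro i v
      fin_cases i
      · show C.act n (tpf 0 v) = tpf 0 _
        rw [h0, h0]
      · exact congrFun e1 v
      · exact congrFun e2 v
      · show C.act n (tpf 3 v) = tpf 3 _
        rw [h12, h12]
        exact (congrFun e1 _).trans (congrArg (tpf 1) (congrFun e2 v))
    have hn : zpowers p ≤ normalizer ((P : Subgroup Rg) : Set Rg) := zpowers_le.2 (mem_normalizer_iff.2 fun t => by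
      have hc : ∀ t ∈ (P : Subgroup Rg), p * t = t * p := fun t ht => by
        obtain ⟨i, hi⟩ := hP t ht
        refine Subtype.ext (Equiv.ext fun v => ?_)
        show C.act n ((t : Equiv.Perm (Fin 16)).toFun v) = (t : Equiv.Perm (Fin 16)).toFun (C.act n v)
        rw [hi]
        exact hall i v
      refine ⟨fun ht => by rw [hc t ht, mul_inv_cancel_right]; exact ht, fun ht => ?_⟩
      have := hc _ ht
      rw [inv_mul_cancel_right, mul_left_cancel_iff] at this
      exact this ▸ ht)
    have hQ := hz.to_sup_of_normal_right' P.2 hn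
    have hm : p ∈ (P : Subgroup Rg) := P.3 hQ le_sup_right ▸ mem_sup_left (mem_zpowers p)
    obtain ⟨i, hi⟩ := hP p hm
    exact ⟨i, hi⟩

theorem exists_lin_side : ∃ k, ∀ l, (C.twist k l).IsLin := by
  obtain ⟨k, hk⟩ := C.autSet.exists_structure
  refine ⟨k, fun l n v => ?_⟩
  let m : ↥(normalizer (C.A : Set G)) := ⟨(n : G), (C.twist_A k l) ▸ n.2⟩
  let D := C.twist k l
  -- the action in the old coordinates
  have key : ∀ v, vp (shift k l (pv (D.act n v))) = C.act m (vp (shift k l (pv v))) := fun v => C.eA_inj (by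
    rw [← C.shift_vp, C.act_spec, ← C.shift_vp]
    exact D.act_spec n v)
  have hinj : Function.Injective fun v => vp (shift k l (pv v)) := fun a b h => D.eA_inj (by
    rw [C.shift_vp, C.shift_vp]; exact congrArg C.eA h)
  refine hinj ?_
  show vp (shift k l (pv _)) = vp (shift k l (pv _))
  rw [key, ← shift_sc, ← shift_sc, key]
  exact congrFun (hk _ ⟨m, rfl⟩) _

/-- both sides can be made linear -/
theorem exists_lin : ∃ D : Coord G, D.A = C.A ∧ D.B = C.B ∧ D.S = C.S ∧ D.IsLin ∧ D.swap.IsLin := by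
  obtain ⟨k, hk⟩ := C.exists_lin_side
  obtain ⟨l, hl⟩ := C.swap.exists_lin_side
  exact ⟨C.twist k l, C.twist_A k l, C.twist_B k l, rfl, hk l, by rw [C.twist_swap]; exact hl k⟩

theorem act_lin (h : C.IsLin) (n : ↥(normalizer (C.A : Set G))) (v : Fin 16) :
    C.act n v = xa (smul (pv v).1 (C.act n 1)) (smul (pv v).2.2 (C.act n 4)) := by
  have hs : ∀ q u, C.act n (smul q u) = smul q (C.act n u) := fun q u => by
    unfold smul
    split_ifs with h0 h1 h2
    · exact (C.act_add n).zero
    · rfl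
    · exact h n u
    · rw [h, h]
  conv_lhs => rw [split_smul v]
  rw [C.act_add n, hs, hs]

end Coord

end Cfsg.Lib.LFourType
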