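import Cfsg.Agent.LFourType.Side

/-!
Odd subgroups of the centralizer of an element of a side, and large subgroups of this centralizer.
-/

set_option autoImplicit false
set_option linter.unusedSectionVars false
set_option linter.style.haveILetI false
set_option maxHeartbeats 400000

namespace Cfsg.Lib.LFourType

open Subgroup
open Cfsg.Lib.Walter (Qt bar Oc mem_Oc odd_ker_qm)

universe u

/-- the projection onto `C(a)/O(C(a))` -/
local notation "qk" => Cfsg.Lib.Walter.qm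

variable {G : Type u} [Group G] [Finite G]

/-- the side acts trivially on `X` modulo the odd core of the centralizer of `a` -/
def Coord.Triv (C : Coord G) (a : G) (X : Subgroup G) : Prop :=
  ∀ x ∈ X, ∀ y ∈ C.A, x⁻¹ * (y * x * y⁻¹) ∈ Oc a

theorem Oc_le (a : G) : Oc a ≤ centralizer ({a} : Set G) :=
  Cfsg.Lib.Components.centralizerPPrimeCore_le_centralizer a

theorem qm_comm_iff {a x y : G} (hx : x ∈ centralizer ({a} : Set G)) (hy : y ∈ centralizer ({a} : Set G)) :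
    Commute (qk a ⟨y, hy⟩) (qk a ⟨x, hx⟩) ↔ x⁻¹ * (y * x * y⁻¹) ∈ Oc a := by
  have e : qk a ⟨x⁻¹ * (y * x * y⁻¹), mul_mem (inv_mem hx) (mul_mem (mul_mem hy hx) (inv_mem hy))⟩ =
      (qk a ⟨x, hx⟩)⁻¹ * (qk a ⟨y, hy⟩ * qk a ⟨x, hx⟩ * (qk a ⟨y, hy⟩)⁻¹) := by
    rw [← map_inv, ← map_inv, ← map_mul, ← map_mul, ← map_mul]
    rfl
  refine ⟨fun h => mem_Oc.2 ⟨_, e.trans ?_⟩, fun h => ?_⟩
  · rw [h.eq, mul_inv_cancel_right, inv_mul_cancel]
  · obtain ⟨_, h'⟩ := mem_Oc.1 h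
    rw [e, inv_mul_eq_one] at h'
    exact eq_mul_inv_iff_mul_eq.1 h' |> fun h'' => h''.symm

/-- an odd image meets a normal subgroup of exponent two trivially -/
theorem comm_of_normal {Q : Type*} [Group Q] [Finite Q] {D N : Subgroup Q} [N.Normal] (hD : Odd (Nat.card D))
    (hN : ∀ n ∈ N, n * n = 1) {x n : Q} (hx : x ∈ D) (hn : n ∈ N) (hnD : n * x * n⁻¹ ∈ D) : Commute n x := by
  have h1 : n * x * n⁻¹ * x⁻¹ ∈ D := mul_mem hnD (inv_mem hx)
  have h2 : n * x * n⁻¹ * x⁻¹ ∈ N := by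
    rw [show n * x * n⁻¹ * x⁻¹ = n * (x * n⁻¹ * x⁻¹) by group]
    exact mul_mem hn ((inferInstance : N.Normal).conj_mem _ (inv_mem hn) x)
  exact mul_inv_eq_iff_eq_mul.1 (mul_inv_eq_one.1 (Cfsg.Lib.AltEightType.eq_one_of_odd_two hD h1 (hN _ h2)))

theorem odd_bar {a : G} {X : Subgroup G} (hX : Odd (Nat.card X)) : Odd (Nat.card (bar a X)) := by
  refine hX.of_dvd_nat ((card_map_dvd _ _).trans ?_)
  rw [← inf_subgroupOf_right, Nat.card_congr (subgroupOfEquivOfLe inf_le_right).toEquiv]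
  exact card_dvd_of_le inf_le_left

theorem orderOf_involution {x : G} (h : x * x = 1) (h1 : x ≠ 1) : orderOf x = 2 :=
  orderOf_eq_prime (by rw [pow_two]; exact h) h1

theorem isPGroup_zpowers_sq {x : G} (h : x * x = 1) : IsPGroup 2 (zpowers x) := fun g => ⟨1, by
  obtain ⟨_, k, rfl⟩ := g
  refine Subtype.ext ?_
  show (x ^ k) ^ (2 ^ 1) = 1
  rw [pow_one, pow_two, ← (Commute.refl x).mul_zpow, h, one_zpow]⟩

namespace Coord

variable {C : Coord G}

theorem exists_Z_ne_one (C : Coord G) : ∃ z ∈ C.Z, z ≠ 1 := by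
  rcases C.Z.bot_or_exists_ne_one with h | ⟨z, hz, hz1⟩
  · have := C.card_Z; rw [h, card_bot] at this; omega
  · exact ⟨z, hz, hz1⟩

theorem Z_fourth (C : Coord G) {x y w : G} (hx : x ∈ C.Z) (hy : y ∈ C.Z) (hw : w ∈ C.Z) (hx1 : x ≠ 1)
    (hy1 : y ≠ 1) (hxy : x ≠ y) (hw1 : w ≠ 1) (hwx : w ≠ x) (hwy : w ≠ y) : w = x * y := by
  classical
  haveI := Fintype.ofFinite C.Z
  by_contra hne
  have hxy1 : x * y ≠ 1 := fun e => hxy (mul_right_cancel (b := y) (e.trans (C.A_sq (C.Z_le_A hy)).symm))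
  have hxyx : x * y ≠ x := fun e => hy1 (by simpa using e)
  have hxyy : x * y ≠ y := fun e => hx1 (by simpa using e)
  have h5 : ({1, ⟨x, hx⟩, ⟨y, hy⟩, ⟨x, hx⟩ * ⟨y, hy⟩, ⟨w, hw⟩} : Finset C.Z).card ≤ 4 := by
    rw [← C.card_Z, Nat.card_eq_fintype_card]
    exact Finset.card_le_univ _
  simp [Subtype.ext_iff, hx1, hy1, hw1, hxy, hwx.symm, hwy.symm, hx1.symm, hy1.symm, hw1.symm, hxy1.symm,
    hxyx.symm, hxyy.symm, Ne.symm hne] at h5

namespace Split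

variable {a : G} {L : Subgroup (Qt a)} {U : Subgroup G} (h : C.Split a L U)
include h

theorem sq_bar {q : Qt a} (hq : q ∈ bar a U) : q * q = 1 := by
  obtain ⟨x, hxK, hx, rfl⟩ := mem_bar.1 hq
  rw [← map_mul, show (⟨x, hxK⟩ : centralizer ({a} : Set G)) * ⟨x, hxK⟩ = 1 from Subtype.ext (C.A_sq (h.U_le hx)),
    map_one]

/-- the part centralising the component is the same for all its elements -/
theorem eq_of_mem {a' : G} {L' : Subgroup (Qt a')} {U' : Subgroup G} (h' : C.Split a' L' U') (hm : a' ∈ U)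
    (hA : ¬ C.Moved) : U' = U := by
  haveI := h'.normal
  obtain ⟨r, hrA, hrK, -, hrU, hrZ⟩ := h.rot
  have hra : r * a' * r⁻¹ = a' := hrU a' hm
  have hrK' : r ∈ centralizer ({a'} : Set G) := mem_centralizer_singleton_iff.2 (mul_inv_eq_iff_eq_mul.1 hra)
  refine eq_of_le_of_card_ge (fun w hw => ?_) (by rw [h.card, h'.card])
  obtain ⟨u, hu, z, hz, rfl⟩ := h.sup w (h'.U_le hw)
  have hwK := C.A_le_cent h'.a_mem (h'.U_le hw)
  have hcm : r * (u * z) * r⁻¹ ∈ U' := by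
    have hmem : qk a' ⟨r * (u * z) * r⁻¹, mul_mem (mul_mem hrK' hwK) (inv_mem hrK')⟩ ∈ bar a' U' := by
      rw [show (⟨r * (u * z) * r⁻¹, _⟩ : centralizer ({a'} : Set G)) = ⟨r, hrK'⟩ * ⟨u * z, hwK⟩ * ⟨r, hrK'⟩⁻¹
        from rfl, map_mul, map_mul, map_inv]
      exact h'.U_normal.conj_mem _ (mem_bar.2 ⟨u * z, hwK, hw, rfl⟩) _
    obtain ⟨x, hxK, hx, e⟩ := mem_bar.1 hmem
    rwa [← C.qm_inj h'.a_mem (h'.U_le hx) (cj_mem hrA (h'.U_le hw)) e]
  have e : r * (u * z) * r⁻¹ * (u * z)⁻¹ = r * z * r⁻¹ * z⁻¹ := by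
    rw [show r * (u * z) * r⁻¹ = (r * u * r⁻¹) * (r * z * r⁻¹) by group, hrU u hu, mul_inv_rev,
      show u * (r * z * r⁻¹) * (z⁻¹ * u⁻¹) = u * (r * z * r⁻¹ * z⁻¹) * u⁻¹ by group]
    rw [(C.A_comm (h.U_le hu) (mul_mem (cj_mem hrA (C.Z_le_A hz)) (inv_mem (C.Z_le_A hz)))).eq,
      mul_inv_cancel_right]
  have h1 := h'.U_Z _ (mul_mem hcm (inv_mem hw)) (e ▸ mul_mem (C.conj_mem_Z hA hrA hz) (inv_mem hz))
  rw [e, mul_inv_eq_one] at h1
  rw [hrZ z hz h1, mul_one]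
  exact hu

/-- the odd core of the centralizer of an element of `U` centralises the component -/
theorem core_cent {e : G} (he : e ∈ U) {x : G} (hx : x ∈ Oc e) (hxa : x ∈ centralizer ({a} : Set G)) :
    qk a ⟨x, hxa⟩ ∈ centralizer (L : Set (Qt a)) := by
  haveI : Fact (Nat.Prime 2) := ⟨Nat.prime_two⟩
  haveI := h.normal
  haveI := h.simple
  have heA := C.A_le_cent h.a_mem (h.U_le he)
  set R := Cfsg.centralizerPPrimeCore 2 (qk a ⟨e, heA⟩)
  have hxR : qk a ⟨x, hxa⟩ ∈ R := by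
    refine Cfsg.Lib.Components.centralizerPPrimeCore_map_le (QuotientGroup.mk'_surjective _) (odd_ker_qm a)
      (isPGroup_zpowers_sq (Subtype.ext (C.A_sq (h.U_le he)))) ⟨⟨x, hxa⟩, ?_, rfl⟩
    obtain ⟨y, hy, e'⟩ := Cfsg.Lib.Components.centralizerPPrimeCore_inf_le (p := 2)
      (centralizer ({a} : Set G)) heA (mem_inf.2 ⟨hx, hxa⟩)
    rwa [show y = ⟨x, hxa⟩ from Subtype.ext e'] at hy
  refine mem_centralizer_iff.2 fun l hl => ?_
  have hln : l ∈ normalizer (R : Set (Qt a)) :=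
    Cfsg.Lib.Components.centralizer_le_normalizer_centralizerPPrimeCore _ (mem_centralizer_singleton_iff.2
      (mem_centralizer_iff.1 (h.U_mem e he heA) l hl))
  have h1 : l * qk a ⟨x, hxa⟩ * l⁻¹ * (qk a ⟨x, hxa⟩)⁻¹ ∈ R :=
    mul_mem ((mem_normalizer_iff.1 hln _).1 hxR) (inv_mem hxR)
  have h2 : l * qk a ⟨x, hxa⟩ * l⁻¹ * (qk a ⟨x, hxa⟩)⁻¹ ∈ L := by
    rw [show l * qk a ⟨x, hxa⟩ * l⁻¹ * (qk a ⟨x, hxa⟩)⁻¹ = l * (qk a ⟨x, hxa⟩ * l⁻¹ * (qk a ⟨x, hxa⟩)⁻¹) by group]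
    exact mul_mem hl (h.normal.conj_mem _ (inv_mem hl) _)
  have hRo : Odd (Nat.card R) := Nat.coprime_two_right.1 (Cfsg.Lib.Components.centralizerPPrimeCore_card_coprime _)
  have hbot : R.subgroupOf L = ⊥ := by
    haveI : (R.subgroupOf L).Normal := normal_subgroupOf_of_le_normalizer fun m hm =>
      Cfsg.Lib.Components.centralizer_le_normalizer_centralizerPPrimeCore _ (mem_centralizer_singleton_iff.2
        (mem_centralizer_iff.1 (h.U_mem e he heA) m hm))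
    refine (IsSimpleGroup.eq_bot_or_eq_top_of_normal _ inferInstance).resolve_right fun htop => ?_
    obtain ⟨z, hz, hz1⟩ := C.exists_Z_ne_one
    have hzA := C.A_le_cent h.a_mem (C.Z_le_A hz)
    have hzR : qk a ⟨z, hzA⟩ ∈ R := mem_subgroupOf.1 (htop ▸ mem_top (⟨_, h.Z_mem z hz hzA⟩ : L))
    refine hz1 (C.qm_eq_one h.a_mem (C.Z_le_A hz) (Cfsg.Lib.AltEightType.eq_one_of_odd_two hRo hzR ?_))
    rw [← map_mul, show (⟨z, hzA⟩ : centralizer ({a} : Set G)) * ⟨z, hzA⟩ = 1 from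
      Subtype.ext (C.A_sq (C.Z_le_A hz)), map_one]
  have h3 : (⟨_, h2⟩ : L) = 1 := mem_bot.1 (hbot ▸ mem_subgroupOf.2 h1)
  exact mul_inv_eq_iff_eq_mul.1 (mul_inv_eq_one.1 (congrArg Subtype.val h3))

/-- what is centralised by the component and the part centralising it -/
theorem eq_one {D : Subgroup (Qt a)} (hD : Odd (Nat.card D)) {q : Qt a} (hq : q ∈ D)
    (hL : q ∈ centralizer (L : Set (Qt a))) (hU : ∀ u ∈ bar a U, u * q = q * u) : q = 1 :=
  Cfsg.Lib.AltEightType.eq_one_of_odd_two hD hq (h.sq_bar (h.cent ⟨hL, mem_centralizer_iff.2 hU⟩))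

/-- the torus at a central involution -/
theorem tor_comm_mem {z z' x : G} (hz : z ∈ C.Z) (hz1 : z ≠ 1) (hz' : z' ∈ C.Z)
    (hx : x ∈ centralizer ({a} : Set G)) (ho : Odd (orderOf x)) (hc : Commute x z) (hinv : z' * x * z'⁻¹ = x⁻¹) :
    ∃ hL : qk a ⟨x, hx⟩ ∈ L, (⟨_, hL⟩ : L) ∈ Cfsg.Lib.FourGW.tor (⊤ : Subgroup L)
      ⟨_, h.Z_mem z hz (C.A_le_cent h.a_mem (C.Z_le_A hz))⟩ := by
  haveI := h.normal
  set q := qk a ⟨x, hx⟩ with hq
  have hz'A := C.A_le_cent h.a_mem (C.Z_le_A hz')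
  have hqo : Odd (orderOf q) := ho.of_dvd_nat ((orderOf_map_dvd (qk a) _).trans (by rw [Subgroup.orderOf_mk]))
  have e : qk a ⟨z', hz'A⟩ * q * (qk a ⟨z', hz'A⟩)⁻¹ = q⁻¹ := by
    rw [hq, ← map_inv, ← map_inv, ← map_mul, ← map_mul]
    exact congrArg (qk a) (Subtype.ext hinv)
  have h2 : q * q ∈ L := by
    have := mul_mem (h.Z_mem z' hz' hz'A) (h.normal.conj_mem _ (inv_mem (h.Z_mem z' hz' hz'A)) q⁻¹)
    rw [show qk a ⟨z', hz'A⟩ * (q⁻¹ * (qk a ⟨z', hz'A⟩)⁻¹ * q⁻¹⁻¹) =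
      (qk a ⟨z', hz'A⟩ * q * (qk a ⟨z', hz'A⟩)⁻¹)⁻¹ * q by group, e, inv_inv] at this
    exact this
  have hL : q ∈ L := by
    obtain ⟨k, hk⟩ := hqo
    have : (q * q) ^ (k + 1) = q := by
      rw [← pow_two, ← pow_mul, show 2 * (k + 1) = orderOf q + 1 by omega, pow_succ, pow_orderOf_eq_one, one_mul]
    exact this ▸ pow_mem h2 _
  obtain ⟨F, _, _, -, K⟩ := Cfsg.Lib.Walter.exists_top h.psl
  have hzo : orderOf (⟨_, h.Z_mem z hz (C.A_le_cent h.a_mem (C.Z_le_A hz))⟩ : L) = 2 := by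
    refine orderOf_involution (Subtype.ext ?_) fun e => hz1 (C.qm_eq_one h.a_mem (C.Z_le_A hz) (congrArg Subtype.val e))
    show qk a _ * qk a _ = 1
    rw [← map_mul]
    exact (congrArg (qk a) (Subtype.ext (C.A_sq (C.Z_le_A hz)))).trans (map_one _)
  refine ⟨hL, (K.mem_tor hzo).2 ⟨mem_top _, Subtype.ext ?_, by rw [Subgroup.orderOf_mk]; exact hqo⟩⟩
  show q * qk a _ = qk a _ * q
  rw [hq, ← map_mul, ← map_mul]
  exact congrArg (qk a) (Subtype.ext hc.eq)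

/-- odd abelian subgroups of a torus type embed into a cyclic group -/
theorem cyclic_of_inverted {z z' : G} (hz : z ∈ C.Z) (hz1 : z ≠ 1) (hz' : z' ∈ C.Z) {E : Subgroup G}
    (hE : E ≤ centralizer ({a} : Set G)) (ho : Odd (Nat.card E)) (hc : ∀ x ∈ E, Commute x z)
    (hinv : ∀ x ∈ E, z' * x * z'⁻¹ = x⁻¹) (hker : ∀ x ∈ E, x ∈ Oc a → x = 1) : IsCyclic E := by
  have hmem := fun x : E => h.tor_comm_mem hz hz1 hz' (hE x.2) (ho.of_dvd_nat (orderOf_coe x ▸ orderOf_dvd_natCard x))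
    (hc x x.2) (hinv x x.2)
  obtain ⟨F, _, _, -, K⟩ := Cfsg.Lib.Walter.exists_top h.psl
  have hzo : orderOf (⟨_, h.Z_mem z hz (C.A_le_cent h.a_mem (C.Z_le_A hz))⟩ : L) = 2 := by
    refine orderOf_involution (Subtype.ext ?_) fun e => hz1 (C.qm_eq_one h.a_mem (C.Z_le_A hz) (congrArg Subtype.val e))
    show qk a _ * qk a _ = 1
    rw [← map_mul]
    exact (congrArg (qk a) (Subtype.ext (C.A_sq (C.Z_le_A hz)))).trans (map_one _)
  obtain ⟨τ, hτ, -⟩ := K.exists_gen hzo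
  haveI : IsCyclic (Cfsg.Lib.FourGW.tor (⊤ : Subgroup L)
      (⟨_, h.Z_mem z hz (C.A_le_cent h.a_mem (C.Z_le_A hz))⟩ : L)) := by rw [hτ]; infer_instance
  let f : E →* Cfsg.Lib.FourGW.tor (⊤ : Subgroup L) (⟨_, h.Z_mem z hz (C.A_le_cent h.a_mem (C.Z_le_A hz))⟩ : L) :=
    MonoidHom.mk' (fun x => ⟨⟨_, (hmem x).1⟩, (hmem x).2⟩) fun x y => Subtype.ext (Subtype.ext
      (map_mul (qk a) ⟨x, hE x.2⟩ ⟨y, hE y.2⟩))
  refine isCyclic_of_injective f ((injective_iff_map_eq_one f).2 fun x hx => ?_)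
  exact Subtype.ext (hker x x.2 (mem_Oc.2 ⟨hE x.2, congrArg Subtype.val (congrArg Subtype.val hx)⟩))

end Split

variable (hA : ¬ C.Moved) {a : G} (ha : a ∈ C.A) (haZ : a ∉ C.Z)

theorem Plain.triv (h : C.Plain a) (ha : a ∈ C.A) {X : Subgroup G} (hXC : X ≤ centralizer ({a} : Set G))
    (ho : Odd (Nat.card X)) (hn : C.A ≤ normalizer (X : Set G)) : C.Triv a X := fun x hx y hy => by
  haveI := h.normal
  refine (qm_comm_iff (hXC hx) (C.A_le_cent ha hy)).1 (comm_of_normal (N := bar a C.A) (odd_bar ho) ?_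
    (mem_bar.2 ⟨x, _, hx, rfl⟩) (mem_bar.2 ⟨y, _, hy, rfl⟩) ?_)
  · intro n hn'
    obtain ⟨v, hv, hvA, rfl⟩ := mem_bar.1 hn'
    rw [← map_mul, show (⟨v, hv⟩ : centralizer ({a} : Set G)) * ⟨v, hv⟩ = 1 from Subtype.ext (C.A_sq hvA), map_one]
  · refine mem_bar.2 ⟨y * x * y⁻¹, mul_mem (mul_mem (C.A_le_cent ha hy) (hXC hx)) (inv_mem (C.A_le_cent ha hy)),
      cj_mem (hn hy) hx, ?_⟩
    rw [← map_inv, ← map_mul, ← map_mul]
    rfl

/-- on a split centralizer it suffices to commute with the centre -/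
theorem Split.triv_of {L : Subgroup (Qt a)} {U : Subgroup G} (h : C.Split a L U) {X : Subgroup G}
    (hXC : X ≤ centralizer ({a} : Set G)) (ho : Odd (Nat.card X)) (hn : C.A ≤ normalizer (X : Set G))
    (hZ : ∀ x ∈ X, ∀ z ∈ C.Z, ∀ hx hz, Commute (qk a ⟨z, hz⟩) (qk a ⟨x, hx⟩)) : C.Triv a X := fun x hx y hy => by
  haveI := h.U_normal
  obtain ⟨u, hu, z, hz, rfl⟩ := h.sup y hy
  have huK := C.A_le_cent h.a_mem (h.U_le hu)
  have hzK := C.A_le_cent h.a_mem (C.Z_le_A hz)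
  refine (qm_comm_iff (hXC hx) (mul_mem huK hzK)).1 ?_
  rw [show (⟨u * z, _⟩ : centralizer ({a} : Set G)) = ⟨u, huK⟩ * ⟨z, hzK⟩ from rfl, map_mul]
  refine Commute.mul_left (comm_of_normal (N := bar a U) (odd_bar ho) (fun n hn' => h.sq_bar hn')
    (mem_bar.2 ⟨x, _, hx, rfl⟩) (mem_bar.2 ⟨u, _, hu, rfl⟩) ?_) (hZ x hx z hz (hXC hx) hzK)
  refine mem_bar.2 ⟨u * x * u⁻¹, mul_mem (mul_mem huK (hXC hx)) (inv_mem huK), cj_mem (hn (h.U_le hu)) hx, ?_⟩
  rw [← map_inv, ← map_mul, ← map_mul]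
  rfl

include hA ha haZ in
/-- **weak 2-balance at `a`** -/
theorem triv_of_delta {X : Subgroup G} (hXC : X ≤ centralizer ({a} : Set G)) (ho : Odd (Nat.card X))
    (hn : C.A ≤ normalizer (X : Set G)) {B : Subgroup G} (hB : B ≤ C.A) (hB4 : Nat.card B = 4)
    (hXB : ∀ b ∈ B, b ≠ 1 → X ≤ Oc b) : C.Triv a X := by
  rcases C.plain_or_split hA ha haZ with h | ⟨L, U, h⟩
  · exact h.triv ha hXC ho hn
  refine h.triv_of hXC ho hn fun x hx z hz hxK hzK => ?_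
  by_cases he : ∃ e ∈ B, e ≠ 1 ∧ e ∈ U
  · obtain ⟨e, heB, he1, heU⟩ := he
    exact mem_centralizer_iff.1 (h.core_cent heU (hXB e heB he1 hx) hxK) _ (h.Z_mem z hz hzK)
  push Not at he
  choose u hu v hv huv using fun b : B => h.sup b (hB b.2)
  have hinj : Function.Injective (fun b : B => (⟨v b, hv b⟩ : C.Z)) := by
    intro b b' e
    have e' : v b = v b' := congrArg Subtype.val e
    refine Subtype.ext (inv_mul_eq_one.1 ?_)
    by_contra hne
    refine he _ (mul_mem (inv_mem b.2) b'.2) hne ?_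
    rw [huv b, huv b', e', mul_inv_rev, show (v b')⁻¹ * (u b)⁻¹ * (u b' * v b') = (v b')⁻¹ * ((u b)⁻¹ * u b') * v b'
      by group]
    rw [(C.A_comm (inv_mem (C.Z_le_A (hv b'))) (h.U_le (mul_mem (inv_mem (hu b)) (hu b')))).eq, inv_mul_cancel_right]
    exact mul_mem (inv_mem (hu b)) (hu b')
  obtain ⟨b, hb⟩ := (Nat.bijective_iff_injective_and_card _).2 ⟨hinj, by rw [hB4, C.card_Z]⟩ |>.2 ⟨z, hz⟩
  have hz' : v b = z := congrArg Subtype.val hb
  haveI := h.U_normal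
  have hbK := C.A_le_cent ha (hB b.2)
  have huK := C.A_le_cent ha (h.U_le (hu b))
  have h1 : Commute (qk a ⟨b, hbK⟩) (qk a ⟨x, hxK⟩) := by
    refine (Commute.map ?_ (qk a))
    refine Subtype.ext ?_
    show (b : G) * x = x * b
    by_cases hb1 : (b : G) = 1
    · rw [hb1, one_mul, mul_one]
    · exact (mem_centralizer_singleton_iff.1 (Oc_le _ (hXB b b.2 hb1 hx))).symm
  have h2 : Commute (qk a ⟨u b, huK⟩) (qk a ⟨x, hxK⟩) := by
    refine comm_of_normal (N := bar a U) (odd_bar ho) (fun n hn' => h.sq_bar hn')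
      (mem_bar.2 ⟨x, _, hx, rfl⟩) (mem_bar.2 ⟨u b, _, hu b, rfl⟩) ?_
    refine mem_bar.2 ⟨u b * x * (u b)⁻¹, mul_mem (mul_mem huK hxK) (inv_mem huK), cj_mem (hn (h.U_le (hu b))) hx, ?_⟩
    rw [← map_inv, ← map_mul, ← map_mul]
    rfl
  have e : (⟨z, hzK⟩ : centralizer ({a} : Set G)) = ⟨u b, huK⟩⁻¹ * ⟨b, hbK⟩ := Subtype.ext (by
    show z = (u b)⁻¹ * b
    rw [huv b, hz', inv_mul_cancel_left])
  rw [e, map_mul, map_inv]
  exact h2.inv_left.mul_left h1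

include hA ha haZ in
/-- a fixed point of the side lies in the core as soon as it lies in a core of the complementary part -/
theorem mem_Oc_of_FA {f : G} (hf : f ∈ C.FA)
    (he : ∀ L U, C.Split a L U → ∃ e ∈ U, f ∈ Oc e) : f ∈ Oc a := by
  have hfK : f ∈ centralizer ({a} : Set G) := mem_centralizer_singleton_iff.2 (C.FA_commute hf ha).symm.eq
  have hD : Odd (Nat.card (bar a C.FA)) := odd_bar C.odd_FA
  have hcomm : ∀ y ∈ bar a C.A, y * qk a ⟨f, hfK⟩ = qk a ⟨f, hfK⟩ * y := fun y hy => by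
    obtain ⟨v, hv, hvA, rfl⟩ := mem_bar.1 hy
    exact ((show Commute (⟨v, hv⟩ : centralizer ({a} : Set G)) ⟨f, hfK⟩ from
      Subtype.ext (C.FA_commute hf hvA).eq).map (qk a)).eq
  refine mem_Oc.2 ⟨hfK, ?_⟩
  rcases C.plain_or_split hA ha haZ with h | ⟨L, U, h⟩
  · obtain ⟨v, hv, hvA, e⟩ := mem_bar.1 (h.cent (mem_centralizer_iff.2 hcomm))
    refine Cfsg.Lib.AltEightType.eq_one_of_odd_two hD (mem_bar.2 ⟨f, _, hf, rfl⟩) ?_
    rw [← e, ← map_mul, show (⟨v, hv⟩ : centralizer ({a} : Set G)) * ⟨v, hv⟩ = 1 from Subtype.ext (C.A_sq hvA),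
      map_one]
  · obtain ⟨e, heU, hfe⟩ := he L U h
    exact h.eq_one hD (mem_bar.2 ⟨f, _, hf, rfl⟩) (h.core_cent heU hfe hfK) fun y hy => by
      obtain ⟨v, hv, hvU, rfl⟩ := mem_bar.1 hy
      exact hcomm _ (mem_bar.2 ⟨v, hv, h.U_le hvU, rfl⟩)

include hA ha haZ in
/-- a subgroup moved by the side modulo the core is fixed by a hyperplane containing the complementary part -/
theorem split_of_not_triv {X H : Subgroup G} (hXC : X ≤ centralizer ({a} : Set G)) (ho : Odd (Nat.card X))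
    (hn : C.A ≤ normalizer (X : Set G)) (hH : H ≤ C.A) (h8 : 8 ≤ Nat.card H)
    (hXH : ∀ x ∈ X, ∀ y ∈ H, Commute y x) (hmove : ¬ C.Triv a X) : ∃ L U, C.Split a L U ∧ U ≤ H := by
  rcases C.plain_or_split hA ha haZ with h | ⟨L, U, h⟩
  · exact absurd (h.triv ha hXC ho hn) hmove
  refine ⟨L, U, h, fun u hu => ?_⟩
  by_contra huH
  refine hmove (h.triv_of hXC ho hn fun x hx z hz hxK hzK => ?_)
  haveI := h.U_normal
  have hgen : H ⊔ U = C.A := by
    refine eq_of_le_of_card_ge (sup_le hH h.U_le) ?_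
    rw [C.card_A]
    by_contra hlt
    have hd := card_dvd_of_le (sup_le hH h.U_le)
    rw [C.card_A] at hd
    have h1 : Nat.card H < Nat.card (H ⊔ U : Subgroup G) := lt_of_le_of_ne (card_le_of_le le_sup_left) fun e =>
      huH ((eq_of_le_of_card_ge (le_sup_left : H ≤ H ⊔ U) e.ge).ge (mem_sup_right hu))
    have h2 := Nat.le_of_dvd (by norm_num) hd
    interval_cases hc : Nat.card (H ⊔ U : Subgroup G) <;> omega
  have hall : H ⊔ U ≤ ((centralizer ({qk a ⟨x, hxK⟩} : Set (Qt a))).comap (qk a)).map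
      (centralizer ({a} : Set G)).subtype := by
    refine sup_le (fun y hy => ⟨⟨y, C.A_le_cent ha (hH hy)⟩, mem_centralizer_singleton_iff.2 ?_, rfl⟩)
      (fun y hy => ⟨⟨y, C.A_le_cent ha (h.U_le hy)⟩, mem_centralizer_singleton_iff.2 ?_, rfl⟩)
    · exact ((show Commute (⟨y, C.A_le_cent ha (hH hy)⟩ : centralizer ({a} : Set G)) ⟨x, hxK⟩ from
        Subtype.ext (hXH x hx y hy).eq).map (qk a)).eq
    · refine (comm_of_normal (N := bar a U) (odd_bar ho) (fun n hn' => h.sq_bar hn')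
        (mem_bar.2 ⟨x, _, hx, rfl⟩) (mem_bar.2 ⟨y, _, hy, rfl⟩) ?_).eq
      refine mem_bar.2 ⟨y * x * y⁻¹, mul_mem (mul_mem (C.A_le_cent ha (h.U_le hy)) hxK)
        (inv_mem (C.A_le_cent ha (h.U_le hy))), cj_mem (hn (h.U_le hy)) hx, ?_⟩
      rw [← map_inv, ← map_mul, ← map_mul]
      rfl
  obtain ⟨⟨w, hwK⟩, hw, e⟩ := hall (hgen.symm ▸ C.Z_le_A hz)
  obtain rfl : w = z := e
  exact mem_centralizer_singleton_iff.1 hw

/-- an odd subgroup acted on by the centre is generated by its fixed points -/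
theorem le_iSup_cent_Z {X : Subgroup G} (ho : Odd (Nat.card X)) (hn : C.Z ≤ normalizer (X : Set G))
    {M : Subgroup G} (h : ∀ z ∈ C.Z, z ≠ 1 → X ⊓ centralizer ({z} : Set G) ≤ M) : X ≤ M := by
  haveI : Fact (Nat.Prime 2) := ⟨Nat.prime_two⟩
  have hel : Cfsg.IsElementaryAbelian 2 C.Z :=
    ⟨⟨⟨fun x y => Subtype.ext (C.A_comm (C.Z_le_A x.2) (C.Z_le_A y.2)).eq⟩⟩,
      fun x hx => by rw [pow_two]; exact C.A_sq (C.Z_le_A hx)⟩
  rw [Cfsg.Agent.S1324.result 2 C.Z X hel (by rw [C.card_Z]; norm_num)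
    (fun h2 => (Nat.not_even_iff_odd.2 ho) (even_iff_two_dvd.2 h2)) hn]
  refine iSup_le fun ⟨B, hB, hr⟩ => ?_
  obtain ⟨b, hb, hb1⟩ : ∃ b ∈ B, b ≠ 1 := by
    rcases B.bot_or_exists_ne_one with e | e
    · rw [e, relIndex_bot_left, C.card_Z] at hr; omega
    · exact e
  exact (inf_le_inf_left X (centralizer_le (Set.singleton_subset_iff.2 hb))).trans (h b (hB hb) hb1)

include hA ha haZ in
/-- a subgroup containing the normalizer of the side and the central involution centralizers -/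
theorem relIndex_le_five {M : Subgroup G} (hNA : normalizer (C.A : Set G) ≤ M)
    (hZ : ∀ z ∈ C.Z, z ≠ 1 → centralizer ({z} : Set G) ≤ M) :
    M.relIndex (centralizer ({a} : Set G)) ≤ 5 ∧
      (centralizer ({a} : Set G) ≤ M ∨
        ∀ Y : Subgroup G, Y ≤ centralizer ({a} : Set G) → Odd (Nat.card Y) → C.A ≤ normalizer (Y : Set G) →
          ∀ w ∈ C.Z, w ≠ 1 → (∀ y ∈ Y, Commute y w) → Y ≤ Oc a) := by
  haveI : Fact (Nat.Prime 2) := ⟨Nat.prime_two⟩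
  set K := centralizer ({a} : Set G)
  have hOM : Oc a ≤ M := le_iSup_cent_Z (odd_Oc a) ((C.Z_le_A.trans (C.A_le_cent ha)).trans
    (Cfsg.Lib.Components.centralizer_le_normalizer_centralizerPPrimeCore a))
    fun z hz hz1 => inf_le_right.trans (hZ z hz hz1)
  set H := (M.subgroupOf K).map (qk a)
  have hker : (qk a).ker ≤ M.subgroupOf K := fun y hy =>
    mem_subgroupOf.2 (hOM (mem_Oc.2 ⟨y.2, MonoidHom.mem_ker.1 hy⟩))
  have hindex : M.relIndex K = H.index :=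
    (index_map_eq _ (QuotientGroup.mk'_surjective _) hker).symm
  have hNH : normalizer (bar a C.A : Set (Qt a)) ≤ H := by
    intro q hq
    obtain ⟨⟨g, hgK⟩, hg, rfl⟩ := (Cfsg.Lib.Components.normalizer_map_of_coprime_ker (p := 2)
      (QuotientGroup.mk'_surjective _) (odd_ker_qm a) (P := C.A.subgroupOf K)
      ((C.isPGroup_of_le_S C.A_le).comap_subtype)).ge hq
    exact mem_map_of_mem _ (mem_subgroupOf.2 (hNA (Cfsg.Lib.ZStarApps.mem_normalizer_of_maps fun x hx =>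
      (mem_normalizer_iff.1 hg ⟨x, C.A_le_cent ha hx⟩).1 hx)))
  have hfull : H = ⊤ → M.relIndex K ≤ 5 ∧ (centralizer ({a} : Set G) ≤ M ∨
      ∀ Y : Subgroup G, Y ≤ centralizer ({a} : Set G) → Odd (Nat.card Y) → C.A ≤ normalizer (Y : Set G) →
        ∀ w ∈ C.Z, w ≠ 1 → (∀ y ∈ Y, Commute y w) → Y ≤ Oc a) := fun e => by
    have h1 : M.relIndex K = 1 := by rw [hindex, e, index_top]
    exact ⟨by omega, Or.inl (relIndex_eq_one.1 h1)⟩
  rcases C.plain_or_split hA ha haZ with h | ⟨L, U, h⟩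
  · exact hfull (eq_top_iff.2 fun q _ => hNH (by rw [normalizer_eq_top_iff.2 h.normal]; exact mem_top q))
  haveI := h.normal
  haveI := h.simple
  obtain ⟨z, hz, hz1⟩ := C.exists_Z_ne_one
  obtain ⟨r, hrA, hrK, hrL, -, hrZ⟩ := h.rot
  set z' := r * z * r⁻¹ with hz'd
  have hz' : z' ∈ C.Z := C.conj_mem_Z hA hrA hz
  have hz'1 : z' ≠ 1 := fun e => hz1 (conj_eq_one_iff.1 e)
  have hne : z' ≠ z := fun e => hz1 (hrZ z hz e)
  set w := r * z' * r⁻¹ with hwd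
  have hwne : w ≠ z := by
    intro e
    have hcl : r * (z * z') * r⁻¹ = z * z' := by
      rw [show r * (z * z') * r⁻¹ = (r * z * r⁻¹) * (r * z' * r⁻¹) by group, ← hz'd, ← hwd, e,
        (C.A_comm (C.Z_le_A hz') (C.Z_le_A hz)).eq]
    exact hne (mul_left_cancel (((hrZ _ (mul_mem hz hz') hcl)).trans (C.A_sq (C.Z_le_A hz)).symm))
  have hw : w = z * z' := C.Z_fourth hz hz' (C.conj_mem_Z hA hrA hz') hz1 hz'1 hne.symm
    (fun e => hz'1 (conj_eq_one_iff.1 e)) hwne (fun e => hz'1 (hrZ z' hz' e))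
  have hzA := C.A_le_cent ha (C.Z_le_A hz)
  have hz'A := C.A_le_cent ha (C.Z_le_A hz')
  obtain ⟨F, _, _, h5, K'⟩ := Cfsg.Lib.Walter.exists_top h.psl
  let v : L := ⟨qk a ⟨z, hzA⟩, h.Z_mem z hz hzA⟩
  let v' : L := ⟨qk a ⟨z', hz'A⟩, h.Z_mem z' hz' hz'A⟩
  let ρ : L := ⟨qk a ⟨r, hrK⟩, hrL⟩
  have hv : orderOf v = 2 := orderOf_involution (Subtype.ext (by
    show qk a _ * qk a _ = 1
    rw [← map_mul]
    exact (congrArg (qk a) (Subtype.ext (C.A_sq (C.Z_le_A hz)))).trans (map_one _)))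
    fun e => hz1 (C.qm_eq_one ha (C.Z_le_A hz) (congrArg Subtype.val e))
  have hv' : orderOf v' = 2 := orderOf_involution (Subtype.ext (by
    show qk a _ * qk a _ = 1
    rw [← map_mul]
    exact (congrArg (qk a) (Subtype.ext (C.A_sq (C.Z_le_A hz')))).trans (map_one _)))
    fun e => hz'1 (C.qm_eq_one ha (C.Z_le_A hz') (congrArg Subtype.val e))
  have F4 : Cfsg.Lib.GenDihedral.IsFour v v' (v * v') := Cfsg.Lib.GenDihedral.isFour_of_comm hv hv'
    (Subtype.ext (by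
      show qk a _ * qk a _ = qk a _ * qk a _
      rw [← map_mul, ← map_mul]
      exact congrArg (qk a) (Subtype.ext (C.A_comm (C.Z_le_A hz) (C.Z_le_A hz')).eq)))
    (fun e => hne.symm (C.qm_inj ha (C.Z_le_A hz) (C.Z_le_A hz') (congrArg Subtype.val e)))
  have hρH : qk a ⟨r, hrK⟩ ∈ H := mem_map_of_mem _ (mem_subgroupOf.2 (hNA hrA))
  have hC : centralizer ({v} : Set L) ≤ H.subgroupOf L := by
    intro l hl
    obtain ⟨⟨g, hgK⟩, hg, e⟩ := (Cfsg.Lib.Components.centralizer_map_of_coprime_ker (p := 2) (b := ⟨z, hzA⟩)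
      (QuotientGroup.mk'_surjective _) (odd_ker_qm a) (isPGroup_zpowers_sq (Subtype.ext (C.A_sq (C.Z_le_A hz))))).ge
      (show (l : Qt a) ∈ centralizer ({qk a ⟨z, hzA⟩} : Set (Qt a)) from mem_centralizer_singleton_iff.2
        (congrArg Subtype.val (mem_centralizer_singleton_iff.1 hl)))
    exact mem_subgroupOf.2 ⟨⟨g, hgK⟩, mem_subgroupOf.2 (hZ z hz hz1 (mem_centralizer_singleton_iff.2
      (congrArg Subtype.val (mem_centralizer_singleton_iff.1 hg)))), e⟩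
  have hρv : ρ * v * ρ⁻¹ = v' := Subtype.ext (by
    show qk a _ * qk a _ * (qk a _)⁻¹ = qk a _
    rw [← map_inv, ← map_mul, ← map_mul]
    rfl)
  have hρv' : (ρ * ρ) * v * (ρ * ρ)⁻¹ = v * v' := by
    rw [show ρ * ρ * v * (ρ * ρ)⁻¹ = ρ * (ρ * v * ρ⁻¹) * ρ⁻¹ by group, hρv]
    refine Subtype.ext ?_
    show qk a _ * qk a _ * (qk a _)⁻¹ = qk a _ * qk a _
    rw [← map_inv, ← map_mul, ← map_mul, ← map_mul]
    exact congrArg (qk a) (Subtype.ext hw)
  have hρmem : ρ ∈ H.subgroupOf L := mem_subgroupOf.2 hρH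
  have hidx : H.index = (H.subgroupOf L).index := by
    show H.index = H.relIndex L
    have htop : H ⊔ L = ⊤ := top_le_iff.1 (h.top.trans (sup_le le_sup_right (hNH.trans le_sup_left)))
    rw [Cfsg.Lib.Transfer.relIndex_eq_relIndex_sup_of_normal H L, htop, relIndex_top_right]
  rcases top_or_five K' F4 hC hρmem (mul_mem hρmem hρmem) hρv hρv' with e | ⟨e5, hT⟩
  · refine hfull (index_eq_one.1 ?_)
    rw [hidx, e, index_top]
  refine ⟨by rw [hindex, hidx, e5], Or.inr fun Y hYC hYo hYn w hw hw1 hYw x hxY => ?_⟩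
  have hx := hYC hxY
  have ho : Odd (orderOf x) := hYo.of_dvd_nat (Nat.card_zpowers x ▸ card_dvd_of_le (zpowers_le.2 hxY))
  haveI := h.U_normal
  have hwA := C.A_le_cent ha (C.Z_le_A hw)
  let wb : L := ⟨qk a ⟨w, hwA⟩, h.Z_mem w hw hwA⟩
  have hwb : orderOf wb = 2 := orderOf_involution (Subtype.ext (by
    show qk a _ * qk a _ = 1
    rw [← map_mul]
    exact (congrArg (qk a) (Subtype.ext (C.A_sq (C.Z_le_A hw)))).trans (map_one _)))
    fun e => hw1 (C.qm_eq_one ha (C.Z_le_A hw) (congrArg Subtype.val e))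
  have hmemZ : ∀ c : C.Z, (⟨qk a ⟨c, C.A_le_cent ha (C.Z_le_A c.2)⟩, h.Z_mem c c.2 _⟩ : L) ∈
      centralizer ({wb} : Set L) := fun c => mem_centralizer_singleton_iff.2 (Subtype.ext (by
    show qk a _ * qk a _ = qk a _ * qk a _
    rw [← map_mul, ← map_mul]
    exact congrArg (qk a) (Subtype.ext (C.A_comm (C.Z_le_A c.2) (C.Z_le_A hw)).eq)))
  have hsurjZ := (Nat.bijective_iff_injective_and_card (fun c : C.Z => (⟨_, hmemZ c⟩ :
      ↥(centralizer ({wb} : Set L))))).2 ⟨fun c c' e =>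
        Subtype.ext (C.qm_inj ha (C.Z_le_A c.2) (C.Z_le_A c'.2) (congrArg Subtype.val (congrArg Subtype.val e))), by
    rw [C.card_Z, K'.card_cent hwb, hT, index_top]⟩
  have hZcomm : ∀ c ∈ C.Z, ∀ hc, Commute (qk a ⟨c, hc⟩) (qk a ⟨x, hx⟩) := by
    intro c hc hcK
    have hcY := cj_mem (hYn (C.Z_le_A hc)) hxY
    set k := qk a ⟨c, hcK⟩ * qk a ⟨x, hx⟩ * (qk a ⟨c, hcK⟩)⁻¹ * (qk a ⟨x, hx⟩)⁻¹ with hk
    have hkL : k ∈ L := by
      rw [hk, show qk a ⟨c, hcK⟩ * qk a ⟨x, hx⟩ * (qk a ⟨c, hcK⟩)⁻¹ * (qk a ⟨x, hx⟩)⁻¹ =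
        qk a ⟨c, hcK⟩ * (qk a ⟨x, hx⟩ * (qk a ⟨c, hcK⟩)⁻¹ * (qk a ⟨x, hx⟩)⁻¹) by group]
      exact mul_mem (h.Z_mem c hc hcK) (h.normal.conj_mem _ (inv_mem (h.Z_mem c hc hcK)) _)
    have hkY : k ∈ bar a Y := mem_bar.2 ⟨c * x * c⁻¹ * x⁻¹, mul_mem (mul_mem (mul_mem hcK hx) (inv_mem hcK))
      (inv_mem hx), mul_mem hcY (inv_mem hxY), by
        rw [hk, ← map_inv, ← map_inv, ← map_mul, ← map_mul, ← map_mul]; rfl⟩
    have hkw : (⟨k, hkL⟩ : L) ∈ centralizer ({wb} : Set L) := by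
      refine mem_centralizer_singleton_iff.2 (Subtype.ext ?_)
      show k * qk a _ = qk a _ * k
      have h1 : Commute (qk a ⟨c, hcK⟩) (qk a ⟨w, hwA⟩) := (show Commute (⟨c, hcK⟩ : centralizer ({a} : Set G))
        ⟨w, hwA⟩ from Subtype.ext (C.A_comm (C.Z_le_A hc) (C.Z_le_A hw)).eq).map (qk a)
      have h2 : Commute (qk a ⟨x, hx⟩) (qk a ⟨w, hwA⟩) := (show Commute (⟨x, hx⟩ : centralizer ({a} : Set G))
        ⟨w, hwA⟩ from Subtype.ext (hYw x hxY).eq).map (qk a)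
      exact (((h1.mul_left h2).mul_left h1.inv_left).mul_left h2.inv_left).eq
    obtain ⟨c', hc'⟩ := hsurjZ.2 ⟨_, hkw⟩
    have e' : qk a ⟨c', C.A_le_cent ha (C.Z_le_A c'.2)⟩ = k := congrArg Subtype.val (congrArg Subtype.val hc')
    refine mul_inv_eq_iff_eq_mul.1 (mul_inv_eq_one.1 (hk ▸ Cfsg.Lib.AltEightType.eq_one_of_odd_two
      (odd_bar hYo) hkY ?_))
    rw [← e', ← map_mul]
    exact (congrArg (qk a) (Subtype.ext (C.A_sq (C.Z_le_A c'.2)))).trans (map_one _)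
  have hcomm : ∀ y ∈ bar a C.A, y * qk a ⟨x, hx⟩ = qk a ⟨x, hx⟩ * y := by
    intro y hy
    obtain ⟨t, htK, htA, rfl⟩ := mem_bar.1 hy
    obtain ⟨u, hu, c, hc, rfl⟩ := h.sup t htA
    have huK := C.A_le_cent ha (h.U_le hu)
    have hcK := C.A_le_cent ha (C.Z_le_A hc)
    rw [show (⟨u * c, htK⟩ : centralizer ({a} : Set G)) = ⟨u, huK⟩ * ⟨c, hcK⟩ from rfl, map_mul]
    refine (Commute.mul_left (comm_of_normal (N := bar a U) (odd_bar hYo) (fun n hn' => h.sq_bar hn')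
      (mem_bar.2 ⟨x, _, hxY, rfl⟩) (mem_bar.2 ⟨u, _, hu, rfl⟩) ?_) (hZcomm c hc hcK)).eq
    refine mem_bar.2 ⟨u * x * u⁻¹, mul_mem (mul_mem huK hx) (inv_mem huK), cj_mem (hYn (h.U_le hu)) hxY, ?_⟩
    rw [← map_inv, ← map_mul, ← map_mul]
    rfl
  set q := qk a ⟨x, hx⟩
  have hqo : Odd (orderOf q) := ho.of_dvd_nat ((orderOf_map_dvd (qk a) _).trans (by rw [Subgroup.orderOf_mk]))
  have hqn : q ∈ normalizer (L : Set (Qt a)) := by rw [normalizer_eq_top_iff.2 h.normal]; exact mem_top q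
  set e : MulAut L := Cfsg.Lib.GenDihedral.cj L q hqn
  have hen : ∀ (k : ℕ) (y : L), (((e ^ k) y : L) : Qt a) = q ^ k * y * (q ^ k)⁻¹ := by
    intro k
    induction k with
    | zero => simp
    | succ k ih =>
      intro y
      rw [pow_succ', MulAut.mul_apply, Cfsg.Lib.GenDihedral.cj_apply, ih, pow_succ']; group
  have heo : Odd (orderOf e) := hqo.of_dvd_nat (orderOf_dvd_of_pow_eq_one (MulEquiv.ext fun y => Subtype.ext (by
    rw [hen, pow_orderOf_eq_one]; simp)))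
  have hP : centralizer ({v} : Set L) = centralizer ({v} : Set L) ⊓ centralizer ({v'} : Set L) := by
    refine (eq_of_le_of_card_ge inf_le_left ?_).symm
    rw [K'.card_cent hv, hT, index_top, Cfsg.Lib.Walter.card_four K' F4]
  have hsat : ∀ y : L, y * v = v * y → y * v' = v' * y := fun y hy => by
    have : y ∈ centralizer ({v} : Set L) := mem_centralizer_singleton_iff.2 hy
    rw [hP] at this
    exact mem_centralizer_singleton_iff.1 this.2
  have he1 : e = 1 := by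
    refine Cfsg.Lib.Walter.eq_one_of_fix_cent K' hv e heo fun y hy => Subtype.ext ?_
    have hb : (y : Qt a) ∈ bar a C.A := by
      have hmem : ∀ c : C.Z, (⟨qk a ⟨c, C.A_le_cent ha (C.Z_le_A c.2)⟩, h.Z_mem c c.2 _⟩ : L) ∈
          centralizer ({v} : Set L) ⊓ centralizer ({v'} : Set L) := fun c => by
        refine mem_inf.2 ⟨mem_centralizer_singleton_iff.2 (Subtype.ext ?_),
          mem_centralizer_singleton_iff.2 (Subtype.ext ?_)⟩
        · show qk a _ * qk a _ = qk a _ * qk a _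
          rw [← map_mul, ← map_mul]
          exact congrArg (qk a) (Subtype.ext (C.A_comm (C.Z_le_A c.2) (C.Z_le_A hz)).eq)
        · show qk a _ * qk a _ = qk a _ * qk a _
          rw [← map_mul, ← map_mul]
          exact congrArg (qk a) (Subtype.ext (C.A_comm (C.Z_le_A c.2) (C.Z_le_A hz')).eq)
      have hinj : Function.Injective (fun c : C.Z => (⟨_, hmem c⟩ :
          ↥(centralizer ({v} : Set L) ⊓ centralizer ({v'} : Set L) : Subgroup L))) := fun c c' e =>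
        Subtype.ext (C.qm_inj ha (C.Z_le_A c.2) (C.Z_le_A c'.2) (congrArg Subtype.val (congrArg Subtype.val e)))
      obtain ⟨c, hc⟩ := ((Nat.bijective_iff_injective_and_card _).2 ⟨hinj, by
        rw [C.card_Z, Cfsg.Lib.Walter.card_four K' F4]⟩).2
        ⟨y, mem_inf.2 ⟨mem_centralizer_singleton_iff.2 hy, mem_centralizer_singleton_iff.2 (hsat y hy)⟩⟩
      refine mem_bar.2 ⟨c, C.A_le_cent ha (C.Z_le_A c.2), C.Z_le_A c.2, ?_⟩
      exact congrArg Subtype.val (congrArg Subtype.val hc)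
    rw [Cfsg.Lib.GenDihedral.cj_apply, ← hcomm _ hb, mul_inv_cancel_right]
  have hqc : q ∈ centralizer (L : Set (Qt a)) := mem_centralizer_iff.2 fun y hy => by
    have := congrArg Subtype.val (MulEquiv.ext_iff.1 he1 ⟨y, hy⟩)
    rw [Cfsg.Lib.GenDihedral.cj_apply] at this
    exact (mul_inv_eq_iff_eq_mul.1 this).symm
  refine mem_Oc.2 ⟨hx, h.eq_one (D := zpowers q) (by rw [Nat.card_zpowers]; exact hqo) (mem_zpowers q) hqc
    fun y hy => ?_⟩
  obtain ⟨u, hu, huU, rfl⟩ := mem_bar.1 hy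
  exact hcomm _ (mem_bar.2 ⟨u, hu, h.U_le huU, rfl⟩)

end Coord

end Cfsg.Lib.LFourType
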