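import Mathlib

/-!
The Sylow 2-subgroup of `PSL(3,4)` as triples over the field of four elements, and groups with such a
Sylow 2-subgroup.
-/

set_option autoImplicit false

namespace Cfsg.Lib.LFourType

/-- the field with four elements as codes -/
abbrev Q := Fin 4

/-- addition -/
def qa : Q → Q → Q := fun x y => ⟨(x.val ^^^ y.val) % 4, Nat.mod_lt _ (by norm_num)⟩

/-- multiplication -/
def qm : Q → Q → Q := fun x y => ![![0, 0, 0, 0], ![0, 1, 2, 3], ![0, 2, 3, 1], ![0, 3, 1, 2]] x y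

/-- the triples -/
abbrev Mo := Q × Q × Q

/-- the product -/
def mm (x y : Mo) : Mo := (qa x.1 y.1, qa x.2.1 y.2.1, qa (qa x.2.2 y.2.2) (qm x.1 y.2.1))

/-- the exchange of the two elementary subgroups -/
def tau (x : Mo) : Mo := (x.2.1, x.1, qa x.2.2 (qm x.1 x.2.1))

/-- the inverse -/
def mi (x : Mo) : Mo := (x.1, x.2.1, qa x.2.2 (qm x.1 x.2.1))

theorem qa_zero : ∀ x : Q, qa x 0 = x ∧ qa 0 x = x ∧ qa x x = 0 ∧ qm x 0 = 0 ∧ qm 0 x = 0 := by decide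
theorem qm_eq_zero : ∀ x y : Q, qm x y = 0 ↔ x = 0 ∨ y = 0 := by decide

theorem mm_self : ∀ x : Mo, mm x x = (0, 0, qm x.1 x.2.1) := by decide
theorem mm_mi : ∀ x : Mo, mm (mi x) x = 0 := by decide
theorem tau_tau : ∀ x : Mo, tau (tau x) = x := by decide
theorem tau_mm : ∀ x y : Mo, tau (mm x y) = mm (tau x) (tau y) := by decide +kernel

theorem comm_iff : ∀ x y : Mo, mm x y = mm y x ↔ qm x.1 y.2.1 = qm y.1 x.2.1 := by decide +kernel

/-- the commutator coordinate -/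
def com (x y : Mo) : Q := qa (qm x.1 y.2.1) (qm y.1 x.2.1)

theorem mm_com : ∀ x y : Mo, mm x y = mm (mm y x) (0, 0, com x y) := by decide +kernel

theorem mm_central : ∀ (x : Mo) (c : Q), mm x (0, 0, c) = mm (0, 0, c) x := by decide

theorem comm_side : ∀ a b a' b' : Q, a ≠ 0 → b = 0 → (qm a b' = qm a' b ↔ b' = 0) := by decide

/-- the centralizer of two non-commuting elements is the centre -/
theorem comm_two : ∀ a b a' b' a'' b'' : Q, qm a b' ≠ qm a' b → qm a b'' = qm a'' b → qm a' b'' = qm a'' b' →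
    a'' = 0 ∧ b'' = 0 := by decide +kernel

/-- given the commutator, the partner is unique -/
theorem com_solve : ∀ a c : Q, a ≠ 0 → ∃ b : Q, qm a b = c ∧ ∀ b' : Q, qm a b' = c → b' = b := by decide

/-- A group with a Sylow 2-subgroup given by coordinates. -/
structure Coord (G : Type*) [Group G] where
  /-- the Sylow subgroup -/
  S : Sylow 2 G
  /-- the coordinates -/
  e : Mo → G
  e_mul : ∀ x y, e (mm x y) = e x * e y
  e_inj : Function.Injective e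
  e_range : Set.range e = (S : Set G)

namespace Coord

variable {G : Type*} [Group G] (C : Coord G)

theorem e_zero : C.e 0 = 1 := by
  have h : C.e 0 * C.e 0 = C.e 0 := by rw [← C.e_mul]; rfl
  exact mul_eq_left.1 h

theorem e_mem (x : Mo) : C.e x ∈ (C.S : Subgroup G) := by
  show C.e x ∈ (C.S : Set G)
  rw [← C.e_range]; exact ⟨x, rfl⟩

theorem exists_coord {g : G} (h : g ∈ (C.S : Subgroup G)) : ∃ x, C.e x = g := by
  have h' : g ∈ (C.S : Set G) := h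
  rwa [← C.e_range] at h'

theorem e_eq_one {x : Mo} : C.e x = 1 ↔ x = 0 := by rw [← C.e_zero, C.e_inj.eq_iff]

theorem e_inv (x : Mo) : (C.e x)⁻¹ = C.e (mi x) := by
  exact inv_eq_of_mul_eq_one_left (by rw [← C.e_mul, mm_mi, C.e_zero])

theorem card_S : Nat.card (C.S : Subgroup G) = 64 := by
  have h : Nat.card (Set.range C.e) = 64 := by
    rw [Nat.card_range_of_injective C.e_inj, Nat.card_eq_fintype_card]; rfl
  rw [C.e_range] at h
  exact h

theorem e_commute {x y : Mo} : Commute (C.e x) (C.e y) ↔ qm x.1 y.2.1 = qm y.1 x.2.1 := by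
  rw [← comm_iff, Commute, SemiconjBy, ← C.e_mul, ← C.e_mul, C.e_inj.eq_iff]

theorem e_sq {x : Mo} : C.e x * C.e x = 1 ↔ x.1 = 0 ∨ x.2.1 = 0 := by
  rw [← C.e_mul, C.e_eq_one, mm_self, ← qm_eq_zero, Prod.ext_iff, Prod.ext_iff]
  simp

/-- the side with vanishing second coordinate -/
def A : Subgroup G where
  carrier := C.e '' {x | x.2.1 = 0}
  one_mem' := ⟨0, rfl, C.e_zero⟩
  mul_mem' := by
    rintro _ _ ⟨x, hx, rfl⟩ ⟨y, hy, rfl⟩
    refine ⟨mm x y, ?_, C.e_mul x y⟩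
    show qa x.2.1 y.2.1 = 0
    rw [hx, hy]; rfl
  inv_mem' := by
    rintro _ ⟨x, hx, rfl⟩
    exact ⟨mi x, hx, (C.e_inv x).symm⟩

/-- the side with vanishing first coordinate -/
def B : Subgroup G where
  carrier := C.e '' {x | x.1 = 0}
  one_mem' := ⟨0, rfl, C.e_zero⟩
  mul_mem' := by
    rintro _ _ ⟨x, hx, rfl⟩ ⟨y, hy, rfl⟩
    refine ⟨mm x y, ?_, C.e_mul x y⟩
    show qa x.1 y.1 = 0
    rw [hx, hy]; rfl
  inv_mem' := by
    rintro _ ⟨x, hx, rfl⟩
    exact ⟨mi x, hx, (C.e_inv x).symm⟩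

/-- the centre -/
def Z : Subgroup G := C.A ⊓ C.B

theorem mem_A {x : Mo} : C.e x ∈ C.A ↔ x.2.1 = 0 :=
  ⟨fun ⟨_, hy, h⟩ => C.e_inj h ▸ hy, fun h => ⟨x, h, rfl⟩⟩

theorem mem_B {x : Mo} : C.e x ∈ C.B ↔ x.1 = 0 :=
  ⟨fun ⟨_, hy, h⟩ => C.e_inj h ▸ hy, fun h => ⟨x, h, rfl⟩⟩

theorem mem_Z {x : Mo} : C.e x ∈ C.Z ↔ x.1 = 0 ∧ x.2.1 = 0 := by
  rw [Z, Subgroup.mem_inf, C.mem_A, C.mem_B, and_comm]

theorem A_le : C.A ≤ (C.S : Subgroup G) := by rintro _ ⟨x, -, rfl⟩; exact C.e_mem x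
theorem B_le : C.B ≤ (C.S : Subgroup G) := by rintro _ ⟨x, -, rfl⟩; exact C.e_mem x
theorem Z_le_A : C.Z ≤ C.A := inf_le_left
theorem Z_le_B : C.Z ≤ C.B := inf_le_right
theorem Z_le : C.Z ≤ (C.S : Subgroup G) := C.Z_le_A.trans C.A_le

theorem A_sq {a : G} (h : a ∈ C.A) : a * a = 1 := by
  obtain ⟨x, hx, rfl⟩ := h; exact C.e_sq.2 (Or.inr hx)

theorem B_sq {a : G} (h : a ∈ C.B) : a * a = 1 := by
  obtain ⟨x, hx, rfl⟩ := h; exact C.e_sq.2 (Or.inl hx)

theorem A_comm {a b : G} (ha : a ∈ C.A) (hb : b ∈ C.A) : Commute a b := by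
  obtain ⟨x, hx, rfl⟩ := ha; obtain ⟨y, hy, rfl⟩ := hb
  rw [C.e_commute, show x.2.1 = 0 from hx, show y.2.1 = 0 from hy, (qa_zero _).2.2.2.1, (qa_zero _).2.2.2.1]

/-- the coordinates with the two sides exchanged -/
def swap : Coord G where
  S := C.S
  e := C.e ∘ tau
  e_mul x y := by simp only [Function.comp, tau_mm, C.e_mul]
  e_inj := C.e_inj.comp (Function.Involutive.injective tau_tau)
  e_range := by rw [(Function.Involutive.surjective tau_tau).range_comp, C.e_range]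

theorem swap_A : C.swap.A = C.B := by
  ext g
  constructor
  · rintro ⟨x, hx, rfl⟩; exact ⟨tau x, hx, rfl⟩
  · rintro ⟨x, hx, rfl⟩
    exact ⟨tau x, hx, by show C.e (tau (tau x)) = _; rw [tau_tau]⟩

theorem swap_B : C.swap.B = C.A := by
  ext g
  constructor
  · rintro ⟨x, hx, rfl⟩; exact ⟨tau x, hx, rfl⟩
  · rintro ⟨x, hx, rfl⟩
    exact ⟨tau x, hx, by show C.e (tau (tau x)) = _; rw [tau_tau]⟩

theorem swap_Z : C.swap.Z = C.Z := by rw [Z, swap_A, swap_B, inf_comm]; rfl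

theorem B_comm {a b : G} (ha : a ∈ C.B) (hb : b ∈ C.B) : Commute a b := by
  rw [← C.swap_A] at ha hb
  exact C.swap.A_comm ha hb

/-- the equivalence of coordinates with a side -/
noncomputable def equivA : {x : Mo // x.2.1 = 0} ≃ C.A :=
  Equiv.ofBijective (fun x => ⟨C.e x.1, x.1, x.2, rfl⟩)
    ⟨fun x y h => Subtype.ext (C.e_inj (congrArg Subtype.val h)),
      fun ⟨g, x, hx, h⟩ => ⟨⟨x, hx⟩, Subtype.ext h⟩⟩

theorem card_A : Nat.card C.A = 16 := by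
  rw [← Nat.card_congr C.equivA, Nat.card_eq_fintype_card]; rfl

theorem card_B : Nat.card C.B = 16 := by rw [← C.swap_A]; exact C.swap.card_A

theorem card_Z : Nat.card C.Z = 4 := by
  rw [← Nat.card_congr (Equiv.ofBijective
    (fun c : Q => (⟨C.e (0, 0, c), C.mem_Z.2 ⟨rfl, rfl⟩⟩ : C.Z))
    ⟨fun c d h => congrArg (fun x : Mo => x.2.2) (C.e_inj (congrArg Subtype.val h)), fun ⟨g, hg⟩ => by
      obtain ⟨⟨a, b, c⟩, rfl⟩ := C.exists_coord (C.Z_le hg)
      obtain ⟨h1, h2⟩ := C.mem_Z.1 hg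
      cases h1; cases h2
      exact ⟨c, rfl⟩⟩), Nat.card_eq_fintype_card]
  rfl

theorem Z_central {z s : G} (hz : z ∈ C.Z) (hs : s ∈ (C.S : Subgroup G)) : Commute z s := by
  obtain ⟨x, rfl⟩ := C.exists_coord (C.Z_le hz)
  obtain ⟨y, rfl⟩ := C.exists_coord hs
  obtain ⟨h1, h2⟩ := C.mem_Z.1 hz
  rw [C.e_commute, h1, h2, (qa_zero _).2.2.2.2, (qa_zero _).2.2.2.1]

theorem mem_A_or_B {g : G} (hg : g ∈ (C.S : Subgroup G)) (h : g * g = 1) : g ∈ C.A ∨ g ∈ C.B := by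
  obtain ⟨x, rfl⟩ := C.exists_coord hg
  rw [C.mem_A, C.mem_B, or_comm]
  exact C.e_sq.1 h

theorem sq_mem_Z {g : G} (hg : g ∈ (C.S : Subgroup G)) : g * g ∈ C.Z := by
  obtain ⟨x, rfl⟩ := C.exists_coord hg
  rw [← C.e_mul, mm_self, C.mem_Z]
  exact ⟨rfl, rfl⟩

/-- outside the centre an element of a side centralises only that side -/
theorem mem_A_of_commute {a s : G} (ha : a ∈ C.A) (haZ : a ∉ C.Z) (hs : s ∈ (C.S : Subgroup G))
    (h : Commute a s) : s ∈ C.A := by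
  obtain ⟨x, hx, rfl⟩ := ha
  obtain ⟨y, rfl⟩ := C.exists_coord hs
  exact C.mem_A.2 ((comm_side x.1 x.2.1 y.1 y.2.1 (fun h0 => haZ (C.mem_Z.2 ⟨h0, hx⟩)) hx).1 (C.e_commute.1 h))

theorem commutator_mem_Z {s t : G} (hs : s ∈ (C.S : Subgroup G)) (ht : t ∈ (C.S : Subgroup G)) :
    ∃ z ∈ C.Z, s * t = t * s * z := by
  obtain ⟨x, rfl⟩ := C.exists_coord hs
  obtain ⟨y, rfl⟩ := C.exists_coord ht
  exact ⟨C.e (0, 0, com x y), C.mem_Z.2 ⟨rfl, rfl⟩, by rw [← C.e_mul, ← C.e_mul, ← C.e_mul, ← mm_com]⟩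

/-- two non-commuting elements have no common centraliser outside the centre -/
theorem mem_Z_of_commute {x y s : G} (hx : x ∈ (C.S : Subgroup G)) (hy : y ∈ (C.S : Subgroup G))
    (hs : s ∈ (C.S : Subgroup G)) (hne : ¬ Commute x y) (h1 : Commute x s) (h2 : Commute y s) : s ∈ C.Z := by
  obtain ⟨x, rfl⟩ := C.exists_coord hx
  obtain ⟨y, rfl⟩ := C.exists_coord hy
  obtain ⟨s, rfl⟩ := C.exists_coord hs
  rw [C.e_commute] at h1 h2 hne
  exact C.mem_Z.2 (comm_two _ _ _ _ _ _ hne h1 h2)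

/-- a commutative subgroup of exponent two lies in one of the sides -/
theorem le_A_or_B {E : Subgroup G} (hE : E ≤ (C.S : Subgroup G)) (h2 : ∀ x ∈ E, x * x = 1) :
    E ≤ C.A ∨ E ≤ C.B := by
  by_contra hc
  rw [not_or, SetLike.not_le_iff_exists, SetLike.not_le_iff_exists] at hc
  obtain ⟨⟨x, hx, hxA⟩, y, hy, hyB⟩ := hc
  have hxB := (C.mem_A_or_B (hE hx) (h2 x hx)).resolve_left hxA
  have hyA := (C.mem_A_or_B (hE hy) (h2 y hy)).resolve_right hyB
  rcases C.mem_A_or_B (hE (mul_mem hx hy)) (h2 _ (mul_mem hx hy)) with h | h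
  · exact hxA ((Subgroup.mul_mem_cancel_right _ hyA).1 h)
  · exact hyB ((Subgroup.mul_mem_cancel_left _ hxB).1 h)

theorem S_le_normalizer_A : (C.S : Subgroup G) ≤ Subgroup.normalizer (C.A : Set G) := by
  intro s hs
  refine Subgroup.mem_normalizer_iff.2 fun a => ?_
  have key : ∀ t ∈ (C.S : Subgroup G), ∀ b ∈ C.A, t * b * t⁻¹ ∈ C.A := fun t ht b hb => by
    obtain ⟨z, hz, e⟩ := C.commutator_mem_Z ht (C.A_le hb)
    rw [e, mul_assoc b t z, (C.Z_central hz ht).symm.eq, ← mul_assoc b z t, mul_inv_cancel_right]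
    exact mul_mem hb (C.Z_le_A hz)
  refine ⟨key s hs a, fun h => ?_⟩
  have := key s⁻¹ (inv_mem hs) _ h
  simpa [mul_assoc] using this

theorem S_le_normalizer_B : (C.S : Subgroup G) ≤ Subgroup.normalizer (C.B : Set G) := by
  rw [← C.swap_A]; exact C.swap.S_le_normalizer_A

theorem exists_not_mem_Z_A : ∃ a ∈ C.A, a ∉ C.Z :=
  ⟨C.e (1, 0, 0), C.mem_A.2 rfl, fun h => absurd (C.mem_Z.1 h).1 (by decide)⟩

theorem A_ne_B : C.A ≠ C.B := fun h => by
  obtain ⟨a, ha, hz⟩ := C.exists_not_mem_Z_A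
  exact hz ⟨ha, h ▸ ha⟩

theorem S_le_centralizer {z : G} (hz : z ∈ C.Z) : (C.S : Subgroup G) ≤ Subgroup.centralizer ({z} : Set G) :=
  fun _ hs => Subgroup.mem_centralizer_singleton_iff.2 (C.Z_central hz hs).symm.eq

end Coord

end Cfsg.Lib.LFourType
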