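import Cfsg.Agent.Walter.AutPSL

/-!
Subgroups of `PSL(2, q)`, `q ≡ 3, 5 (mod 8)`, containing an involution centraliser and the rotations of a four-group.
-/

set_option autoImplicit false
set_option linter.unusedSectionVars false
set_option linter.style.haveILetI false

namespace Cfsg.Lib.LFourType

open Subgroup Cfsg.Lib.GenDihedral Cfsg.Lib.FourGW Cfsg.Lib.Walter

universe u

variable {L : Type u} [Group L] [Finite L] {F : Type} [Field F] [Fintype F] (K : Top F (⊤ : Subgroup L))
include K

/-- A proper subgroup containing an involution centraliser and two rotations has index five, and the torus is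
trivial. -/
theorem top_or_five {v u : L} (F4 : IsFour v u (v * u)) {H : Subgroup L}
    (hC : centralizer ({v} : Set L) ≤ H) {lu lw : L} (hlu : lu ∈ H) (hlw : lw ∈ H)
    (hlu' : lu * v * lu⁻¹ = u) (hlw' : lw * v * lw⁻¹ = v * u) :
    H = ⊤ ∨ (H.index = 5 ∧ torT (Fintype.card F) = 1) := by
  haveI : Fact (Nat.Prime 2) := ⟨Nat.prime_two⟩
  have hv := F4.z2
  have hk := count K F4 hC hlu hlw hlu' hlw'
  set P := (centralizer ({v} : Set L) ⊓ centralizer ({u} : Set L) : Subgroup L) with hP
  have hPH : P ≤ H := inf_le_left.trans hC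
  -- the involutions of `C(v)` are conjugate to `v` in `H`
  have hconj : ∀ t, orderOf t = 2 → t * v = v * t → ∃ h ∈ H, h * v * h⁻¹ = t := by
    intro t ht htv
    by_cases htv' : t = v
    · exact ⟨1, one_mem H, by simp [htv']⟩
    obtain ⟨c, hc, h⟩ := K.exists_tor_move F4 ht htv' htv
    have hcH : c ∈ H := hC (GenDihedral.mem_cent.2 ((K.mem_tor hv).1 hc).2.1)
    rcases h with h | h
    · exact ⟨c * lu, mul_mem hcH hlu, by
        calc c * lu * v * (c * lu)⁻¹ = c * (lu * v * lu⁻¹) * c⁻¹ := by group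
          _ = t := by rw [hlu', ← h]; group⟩
    · exact ⟨c * lw, mul_mem hcH hlw, by
        calc c * lw * v * (c * lw)⁻¹ = c * (lw * v * lw⁻¹) * c⁻¹ := by group
          _ = t := by rw [hlw', ← h]; group⟩
  -- `H` is strongly embedded at `P`
  have hfree : ∀ g, ∀ p ∈ P, g⁻¹ * p * g ∈ H → p ≠ 1 → g ∈ H := by
    intro g p hp hpg hp1
    obtain ⟨t, ht, htP, htg⟩ : ∃ t, orderOf t = 2 ∧ t ∈ P ∧ g⁻¹ * t * g ∈ H := by
      rcases two_or_one (x := p * p) (by
        have := pow_four K F4 hp
        rwa [show 4 = 2 + 2 from rfl, pow_add, pow_two] at this) with h | h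
      · exact ⟨p, (two_or_one h).resolve_left hp1, hp, hpg⟩
      · exact ⟨p * p, h, mul_mem hp hp, by
          rw [show g⁻¹ * (p * p) * g = g⁻¹ * p * g * (g⁻¹ * p * g) by group]; exact mul_mem hpg hpg⟩
    set s := g⁻¹ * t * g with hs
    have hso : orderOf s = 2 := by
      have := MulEquiv.orderOf_eq (MulAut.conj g⁻¹) t
      simpa [hs, ht] using this
    have hidx : ¬ 2 ∣ (P.subgroupOf H).index := by
      intro h2
      have h := (h2.trans (relIndex_dvd_index_of_le hPH))
      have h4 := P.card_mul_index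
      rw [card_four K F4, ← Subgroup.card_top, K.card_L, mul_assoc] at h4
      rw [Nat.eq_of_mul_eq_mul_left (by norm_num : 0 < 4) h4] at h
      exact (Nat.not_even_iff_odd.2 ((torT_spec K.hq).1.mul (odd_spreadQ K.hq))) (even_iff_two_dvd.2 h)
    have hPg : IsPGroup 2 (P.subgroupOf H) := IsPGroup.of_card (n := 2) (by
      rw [Nat.card_congr (subgroupOfEquivOfLe hPH).toEquiv, card_four K F4]; rfl)
    set R : Sylow 2 H := hPg.toSylow hidx
    have hsg : IsPGroup 2 (zpowers (⟨s, htg⟩ : H)) := IsPGroup.of_card (n := 1) (by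
      rw [Nat.card_zpowers, Subgroup.orderOf_mk, hso, pow_one])
    obtain ⟨R', hR'⟩ := hsg.exists_le_sylow
    obtain ⟨h, hh⟩ := MulAction.exists_smul_eq H R R'
    have hmem : (⟨s, htg⟩ : H) ∈ ((h • R : Sylow 2 H) : Subgroup H) := hh ▸ hR' (mem_zpowers _)
    rw [Sylow.coe_subgroup_smul, mem_pointwise_smul_iff_inv_smul_mem] at hmem
    have hmem' : (h : L)⁻¹ * s * h ∈ P := by
      have := mem_subgroupOf.1 hmem
      simpa using this
    obtain ⟨k, hkH, hk⟩ := hconj _ (by
      have := MulEquiv.orderOf_eq (MulAut.conj (h : L)⁻¹) s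
      simpa [hso] using this) (GenDihedral.mem_cent.1 hmem'.1)
    obtain ⟨k', hk'H, hk'⟩ := hconj t ht (GenDihedral.mem_cent.1 htP.1)
    have hc : k'⁻¹ * g * ((h : L) * k) ∈ H := hC (GenDihedral.mem_cent.2 (by
      calc k'⁻¹ * g * (↑h * k) * v = k'⁻¹ * g * (↑h * (k * v * k⁻¹) * (↑h)⁻¹) * (↑h * k) := by group
        _ = k'⁻¹ * g * s * (↑h * k) := by rw [hk]; group
        _ = k'⁻¹ * t * g * (↑h * k) := by rw [hs]; group
        _ = v * (k'⁻¹ * g * (↑h * k)) := by rw [← hk']; group))
    have := mul_mem (mul_mem hk'H hc) (inv_mem (mul_mem h.2 hkH))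
    rwa [show k' * (k'⁻¹ * g * ((h : L) * k)) * ((h : L) * k)⁻¹ = g by group] at this
  by_cases hHtop : H = ⊤
  · exact Or.inl hHtop
  obtain ⟨g₀, hg₀⟩ : ∃ g, g ∉ H := by
    by_contra h; push Not at h; exact hHtop (eq_top_iff.2 fun x _ => h x)
  classical
  let ι : ∀ g : L, g ∉ H → Option P → L ⧸ H := fun g _ o => o.elim (1 : L) fun p => ((p : L) * g : L)
  have hι : ∀ g hg, Function.Injective (ι g hg) := by
    rintro g hg (_ | p) (_ | p') h <;> simp only [ι, Option.elim] at h
    · rfl
    · have h' := QuotientGroup.eq.1 h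
      rw [inv_one, one_mul] at h'
      exact absurd ((Subgroup.mul_mem_cancel_left H (hPH p'.2)).1 h') hg
    · have h' := QuotientGroup.eq.1 h.symm
      rw [inv_one, one_mul] at h'
      exact absurd ((Subgroup.mul_mem_cancel_left H (hPH p.2)).1 h') hg
    · have h' := QuotientGroup.eq.1 h
      by_contra hne'
      refine hg (hfree g ((p : L)⁻¹ * p') (mul_mem (inv_mem p.2) p'.2) ?_ fun e => hne' ?_)
      · rwa [show g⁻¹ * ((p : L)⁻¹ * p') * g = ((p : L) * g)⁻¹ * (p' * g) by group]
      · rw [Subtype.ext (inv_mul_eq_one.1 e)]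
  have hcard : Nat.card (Option P) = 5 := by rw [Finite.card_option, card_four K F4]
  have h5 : H.index = 5 ∧ torT (Fintype.card F) = 1 := by
    have h := relIndex_mul_index hC
    rw [K.index_cent hv] at h
    have hj : 5 ≤ H.index := by
      rw [index_eq_card, ← hcard]
      exact Nat.card_le_card_of_injective _ (hι g₀ hg₀)
    have hQ : spreadQ (Fintype.card F) ≤
        (4 * torT (Fintype.card F) + 1) * (2 * torT (Fintype.card F) + 1) := by
      unfold spreadQ
      obtain ⟨hm, hq⟩ | ⟨hm, hq⟩ := (torT_spec K.hq).2 <;> split_ifs <;>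
        exact Nat.mul_le_mul (by omega) (by omega)
    obtain ⟨m, hm⟩ := (torT_spec K.hq).1
    set j := H.index
    set T := torT (Fintype.card F)
    have hT1 : m = 0 := by
      by_contra hm0
      have : 1 ≤ m := Nat.pos_of_ne_zero hm0
      have := Nat.mul_le_mul hk hj
      nlinarith
    rw [hT1] at hm
    rw [hm] at hk hQ
    have := Nat.mul_le_mul hk (le_refl j)
    exact ⟨by nlinarith, by omega⟩
  exact Or.inr h5

/-- A subgroup containing an involution centraliser and two rotations has index at most five. -/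
theorem index_le_five {v u : L} (F4 : IsFour v u (v * u)) {H : Subgroup L}
    (hC : centralizer ({v} : Set L) ≤ H) {lu lw : L} (hlu : lu ∈ H) (hlw : lw ∈ H)
    (hlu' : lu * v * lu⁻¹ = u) (hlw' : lw * v * lw⁻¹ = v * u) : H.index ≤ 5 := by
  rcases top_or_five K F4 hC hlu hlw hlu' hlw' with h | h
  · rw [h, index_top]; norm_num
  · exact h.1.le

end Cfsg.Lib.LFourType
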