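import Cfsg.Agent.LFourType.CentZ
import Cfsg.Agent.LFourType.PSLFacts
import Cfsg.Agent.Walter.LocalQuot

/-!
The centralizer of an element of a side which is not conjugate into the centre, modulo its odd core: the side
is normal, or there is a single component whose Sylow subgroup is the centre.
-/

set_option autoImplicit false
set_option linter.unusedSectionVars false
set_option linter.style.haveILetI false
set_option maxHeartbeats 400000

namespace Cfsg.Lib.LFourType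

open Subgroup
open Cfsg.Lib.Walter (Qt bar Oc mem_Oc odd_ker_qm CoreFree)

universe u

/-- the projection onto `C(a)/O(C(a))` -/
local notation "qk" => Cfsg.Lib.Walter.qm

variable {G : Type u} [Group G] [Finite G]

theorem odd_Oc (a : G) : Odd (Nat.card (Oc a)) :=
  Nat.coprime_two_right.1 (Cfsg.Lib.Components.centralizerPPrimeCore_card_coprime a)

theorem eq_one_of_odd {x : G} {a : G} (hx : x ∈ Oc a) (h2 : x * x = 1) : x = 1 :=
  Cfsg.Lib.AltEightType.eq_one_of_odd_two (odd_Oc a) hx h2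

theorem mem_bar {a : G} {X : Subgroup G} {q : Qt a} :
    q ∈ bar a X ↔ ∃ x, ∃ h : x ∈ centralizer ({a} : Set G), x ∈ X ∧ qk a ⟨x, h⟩ = q := by
  constructor
  · rintro ⟨⟨x, h⟩, hx, rfl⟩
    exact ⟨x, h, hx, rfl⟩
  · rintro ⟨x, h, hx, rfl⟩
    exact ⟨⟨x, h⟩, hx, rfl⟩

namespace Coord

variable (C : Coord G)

theorem A_le_cent {a : G} (ha : a ∈ C.A) : C.A ≤ centralizer ({a} : Set G) :=
  fun _ hx => mem_centralizer_singleton_iff.2 (C.A_comm hx ha).eq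

/-- the quotient map is injective on the side -/
theorem qm_inj {a x y : G} (ha : a ∈ C.A) (hx : x ∈ C.A) (hy : y ∈ C.A)
    (h : qk a ⟨x, C.A_le_cent ha hx⟩ = qk a ⟨y, C.A_le_cent ha hy⟩) : x = y := by
  have h1 : x⁻¹ * y ∈ Oc a := mem_Oc.2 ⟨C.A_le_cent ha (mul_mem (inv_mem hx) hy), by
    rw [show (⟨x⁻¹ * y, _⟩ : centralizer ({a} : Set G)) = ⟨x, C.A_le_cent ha hx⟩⁻¹ * ⟨y, C.A_le_cent ha hy⟩ from rfl,
      map_mul, map_inv, h, inv_mul_cancel]⟩
  exact inv_mul_eq_one.1 (eq_one_of_odd h1 (C.A_sq (mul_mem (inv_mem hx) hy)))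

theorem qm_eq_one {a x : G} (ha : a ∈ C.A) (hx : x ∈ C.A) (h : qk a ⟨x, C.A_le_cent ha hx⟩ = 1) : x = 1 :=
  C.qm_inj ha hx (one_mem _) (h.trans (map_one (qk a)).symm)

theorem qm_self_comm {a : G} (q : Qt a) : Commute (qk a ⟨a, mem_centralizer_singleton_iff.2 rfl⟩) q := by
  obtain ⟨y, rfl⟩ := QuotientGroup.mk'_surjective _ q
  exact (show Commute (⟨a, mem_centralizer_singleton_iff.2 rfl⟩ : centralizer ({a} : Set G)) y from
    Subtype.ext (mem_centralizer_singleton_iff.1 y.2).symm).map (qk a)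

variable (hA : ¬ C.Moved)

include hA in
theorem exists_sylow_bar {a : G} (ha : a ∈ C.A) (haZ : a ∉ C.Z) :
    ∃ T : Sylow 2 (Qt a), (T : Subgroup (Qt a)) = bar a C.A ∧ CoreFree T := by
  haveI : Fact (Nat.Prime 2) := ⟨Nat.prime_two⟩
  set K := centralizer ({a} : Set G)
  obtain ⟨P, hP⟩ := ((C.isPGroup_of_le_S C.A_le).comap_subtype (K := K)).exists_le_sylow
  have hPA : (P : Subgroup K).map K.subtype = C.A :=
    C.le_A_of_unfused ha haZ (C.unfused_A hA ha haZ) (P.2.map _)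
      (by rintro _ ⟨y, -, rfl⟩; exact (mem_centralizer_singleton_iff.1 y.2).symm)
      (fun y hy => ⟨⟨y, C.A_le_cent ha hy⟩, hP hy, rfl⟩)
  set T := P.mapSurjective (f := qk a) (QuotientGroup.mk'_surjective _)
  have hT : (T : Subgroup (Qt a)) = bar a C.A := by
    show (P : Subgroup K).map (qk a) = (C.A.subgroupOf K).map (qk a)
    rw [← hPA, subgroupOf, comap_map_eq_self_of_injective K.subtype_injective]
  have hab : Cfsg.Lib.Walter.AbTwo (Qt a) := fun R x hx y hy => by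
    obtain ⟨g, hg⟩ := MulAction.exists_smul_eq (Qt a) R T
    have key : ∀ x ∈ R, ∃ v, ∃ h : v ∈ K, v ∈ C.A ∧ qk a ⟨v, h⟩ = g * x * g⁻¹ := fun x hx => by
      have : g * x * g⁻¹ ∈ (T : Subgroup (Qt a)) := by rw [← hg]; exact ⟨x, hx, rfl⟩
      rw [hT] at this
      exact mem_bar.1 this
    obtain ⟨v, hv, hvA, ev⟩ := key x hx
    obtain ⟨w, hw, hwA, ew⟩ := key y hy
    have h : (⟨v, hv⟩ : K) * ⟨w, hw⟩ = ⟨w, hw⟩ * ⟨v, hv⟩ := Subtype.ext (C.A_comm hvA hwA).eq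
    have h' := congrArg (qk a) h
    rw [map_mul, map_mul, ev, ew] at h'
    have := congrArg (fun u => g⁻¹ * u * g) h'
    simpa [mul_assoc] using this
  exact ⟨T, hT, hab, Cfsg.Lib.Coprime.pPrimeCore_quotient_eq_bot (G := K) (p := 2),
    fun L hs hna => Cfsg.Lib.Walter.walterProp L hna (hab.subgroup L), Cfsg.Lib.GW.fourGroupProp⟩

/-- one component, with Sylow subgroup the centre; `U` is the part centralising it -/
structure Split (a : G) (L : Subgroup (Qt a)) (U : Subgroup G) : Prop where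
  a_mem : a ∈ C.A
  a_not : a ∉ C.Z
  U_le : U ≤ C.A
  mem_self : a ∈ U
  card : Nat.card U = 4
  U_Z : ∀ u ∈ U, u ∈ C.Z → u = 1
  sup : ∀ x ∈ C.A, ∃ u ∈ U, ∃ z ∈ C.Z, x = u * z
  normal : L.Normal
  simple : IsSimpleGroup L
  psl : Cfsg.Lib.GWFour.IsSmallSylowPSL L
  Z_mem : ∀ z ∈ C.Z, ∀ h, qk a ⟨z, h⟩ ∈ L
  U_mem : ∀ u ∈ U, ∀ h, qk a ⟨u, h⟩ ∈ centralizer (L : Set (Qt a))
  U_normal : (bar a U).Normal
  cent : centralizer (L : Set (Qt a)) ⊓ centralizer (bar a U : Set (Qt a)) ≤ bar a U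
  top : (⊤ : Subgroup (Qt a)) ≤ L ⊔ normalizer (bar a C.A : Set (Qt a))
  rot : ∃ r ∈ normalizer (C.A : Set G), ∃ hr : r ∈ centralizer ({a} : Set G), qk a ⟨r, hr⟩ ∈ L ∧
    (∀ u ∈ U, r * u * r⁻¹ = u) ∧ ∀ z ∈ C.Z, r * z * r⁻¹ = z → z = 1

/-- the side is normal -/
structure Plain (a : G) : Prop where
  normal : (bar a C.A).Normal
  cent : centralizer (bar a C.A : Set (Qt a)) ≤ bar a C.A

include hA in
theorem plain_or_split {a : G} (ha : a ∈ C.A) (haZ : a ∉ C.Z) : C.Plain a ∨ ∃ L U, C.Split a L U := by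
  classical
  haveI : Fact (Nat.Prime 2) := ⟨Nat.prime_two⟩
  obtain ⟨T, hT, hCF⟩ := C.exists_sylow_bar hA ha haZ
  haveI : (Cfsg.pCore 2 (Qt a)).Normal := (Cfsg.Lib.Components.pCore_normal_and_isPGroup 2).1
  by_cases hno : ∀ L : Subgroup (Qt a), ¬ Cfsg.IsComponent L
  · left
    have hl : Cfsg.layer (Qt a) = ⊥ := eq_bot_iff.2 (sSup_le fun L hL => absurd hL (hno L))
    have hTP : (T : Subgroup (Qt a)) = Cfsg.pCore 2 (Qt a) :=
      le_antisymm (by simpa [hl] using Cfsg.Lib.Walter.sylow_le_genFit hCF) (Cfsg.Lib.Walter.pCore_le hCF)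
    refine ⟨by rw [← hT, hTP]; infer_instance, fun x hx => ?_⟩
    rw [← hT, hTP] at hx ⊢
    have := (Cfsg.Lib.Walter.mem_of_centralizes hCF hx fun L hL => absurd hL (hno L)).1
    rwa [hl, bot_sup_eq] at this
  right
  push Not at hno
  set K := centralizer ({a} : Set G)
  have hAK := C.A_le_cent ha
  -- facts for every component
  have main : ∀ L : Subgroup (Qt a), Cfsg.IsComponent L → ∃ U : Subgroup G, U ≤ C.A ∧ a ∈ U ∧ Nat.card U = 4 ∧
      (∀ u ∈ U, u ∈ C.Z → u = 1) ∧ (∀ x ∈ C.A, ∃ u ∈ U, ∃ z ∈ C.Z, x = u * z) ∧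
      (∀ z ∈ C.Z, ∀ h, qk a ⟨z, h⟩ ∈ L) ∧ (∀ x, x ∈ U ↔ x ∈ C.A ∧ ∃ h, qk a ⟨x, h⟩ ∈ centralizer (L : Set (Qt a))) ∧
      Nat.card ↥((T : Subgroup (Qt a)) ⊓ L) = 4 ∧
      ∃ r ∈ normalizer (C.A : Set G), ∃ hr : r ∈ K, qk a ⟨r, hr⟩ ∈ L ∧ (∀ u ∈ U, r * u * r⁻¹ = u) ∧
        ∀ z ∈ C.Z, r * z * r⁻¹ = z → z = 1 := by
    intro L hL
    let U : Subgroup G := C.A ⊓ ((centralizer (L : Set (Qt a))).comap (qk a)).map K.subtype
    let V : Subgroup G := C.A ⊓ (L.comap (qk a)).map K.subtype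
    have hU : ∀ x, x ∈ U ↔ x ∈ C.A ∧ ∃ h, qk a ⟨x, h⟩ ∈ centralizer (L : Set (Qt a)) := fun x =>
      ⟨fun ⟨hx, ⟨y, hy⟩, hc, e⟩ => ⟨hx, by subst e; exact ⟨hy, hc⟩⟩, fun ⟨hx, h, hc⟩ => ⟨hx, ⟨x, h⟩, hc, rfl⟩⟩
    have hV : ∀ x, x ∈ V ↔ x ∈ C.A ∧ ∃ h, qk a ⟨x, h⟩ ∈ L := fun x =>
      ⟨fun ⟨hx, ⟨y, hy⟩, hc, e⟩ => ⟨hx, by subst e; exact ⟨hy, hc⟩⟩, fun ⟨hx, h, hc⟩ => ⟨hx, ⟨x, h⟩, hc, rfl⟩⟩
    obtain ⟨hdis, hsup⟩ := Cfsg.Lib.Walter.comp_split hCF hL
    have hUV : ∀ x ∈ U, x ∈ V → x = 1 := fun x hx hx' => by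
      obtain ⟨hxA, h, hc⟩ := (hU x).1 hx
      obtain ⟨_, _, hl⟩ := (hV x).1 hx'
      exact C.qm_eq_one ha hxA (mem_bot.1 ((Cfsg.Lib.Walter.comp_center hCF hL).le ⟨hl, hc⟩))
    have hdec : ∀ x ∈ C.A, ∃ u ∈ U, ∃ v ∈ V, x = u * v := by
      intro x hx
      have hxT : qk a ⟨x, hAK hx⟩ ∈ (T : Subgroup (Qt a)) := by rw [hT]; exact mem_bar.2 ⟨x, _, hx, rfl⟩
      rw [← hsup] at hxT
      obtain ⟨p, hp, q, hq, e⟩ := (Cfsg.Lib.Coprime.mem_sup_of_le_normalizer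
        (N := (T : Subgroup (Qt a)) ⊓ centralizer (L : Set (Qt a))) (H := (T : Subgroup (Qt a)) ⊓ L)
        (fun q hq => by
          refine Cfsg.Lib.ZStarApps.mem_normalizer_of_maps fun p hp => ?_
          rw [hCF.ab T q hq.1 p hp.1, mul_inv_cancel_right]
          exact hp)).1 hxT
      obtain ⟨u, hu, huA, eu⟩ := mem_bar.1 (hT ▸ hp.1 : p ∈ bar a C.A)
      obtain ⟨v, hv, hvA, ev⟩ := mem_bar.1 (hT ▸ hq.1 : q ∈ bar a C.A)
      refine ⟨u, (hU u).2 ⟨huA, hu, eu.symm ▸ hp.2⟩, v, (hV v).2 ⟨hvA, hv, ev.symm ▸ hq.2⟩, ?_⟩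
      refine C.qm_inj ha hx (mul_mem huA hvA) ?_
      rw [← e, ← eu, ← ev, ← map_mul]
      rfl
    have hmul : Nat.card U * Nat.card V = 16 := by
      rw [← C.card_A, ← Nat.card_prod]
      refine Nat.card_eq_of_bijective (fun p => (⟨(p.1 : G) * p.2, mul_mem p.1.2.1 p.2.2.1⟩ : C.A))
        ⟨fun p q e => ?_, fun x => ?_⟩
      · have e' : (p.1 : G) * p.2 = q.1 * q.2 := congrArg Subtype.val e
        have h1 : (q.1 : G)⁻¹ * p.1 = q.2 * (p.2 : G)⁻¹ := by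
          rw [eq_mul_inv_iff_mul_eq, mul_assoc, e', inv_mul_cancel_left]
        have h2 := hUV _ (mul_mem (inv_mem q.1.2) p.1.2) (h1 ▸ mul_mem q.2.2 (inv_mem p.2.2))
        have h3 : q.1 = p.1 := Subtype.ext (inv_mul_eq_one.1 h2)
        refine Prod.ext h3.symm (Subtype.ext ?_)
        rw [h3] at e'
        exact mul_left_cancel e'
      · obtain ⟨u, hu, v, hv, e⟩ := hdec x x.2
        exact ⟨(⟨u, hu⟩, ⟨v, hv⟩), Subtype.ext e.symm⟩
    have hVT : Nat.card V = Nat.card ↥((T : Subgroup (Qt a)) ⊓ L) := by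
      refine Nat.card_eq_of_bijective
        (fun v => (⟨qk a ⟨v, hAK v.2.1⟩, by rw [hT]; exact mem_bar.2 ⟨v, _, v.2.1, rfl⟩,
          ((hV v).1 v.2).2.2⟩ : ↥((T : Subgroup (Qt a)) ⊓ L)))
        ⟨fun v w e => Subtype.ext (C.qm_inj ha v.2.1 w.2.1 (congrArg Subtype.val e)), fun q => ?_⟩
      obtain ⟨v, hv, hvA, ev⟩ := mem_bar.1 (hT ▸ q.2.1 : (q : Qt a) ∈ bar a C.A)
      exact ⟨⟨v, (hV v).2 ⟨hvA, hv, ev.symm ▸ q.2.2⟩⟩, Subtype.ext ev⟩
    have haU : a ∈ U := (hU a).2 ⟨ha, mem_centralizer_singleton_iff.2 rfl,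
      mem_centralizer_iff.2 fun q _ => ((qm_self_comm q).eq).symm⟩
    have h4 : 4 ≤ Nat.card V := hVT ▸ Cfsg.Lib.Walter.card_inf hCF hL
    obtain ⟨rb, hrL, hrN, hrp, hrf⟩ := Cfsg.Lib.Walter.rot_in hCF hL
    rw [← hVT] at hrp hrf
    obtain ⟨⟨r, hrK⟩, hrn, hre⟩ : rb ∈ (normalizer ((C.A.subgroupOf K : Subgroup K) : Set K)).map (qk a) :=
      (Cfsg.Lib.Components.normalizer_map_of_coprime_ker (p := 2) (QuotientGroup.mk'_surjective _)
        (odd_ker_qm a) (P := C.A.subgroupOf K) ((C.isPGroup_of_le_S C.A_le).comap_subtype)).ge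
        (show rb ∈ normalizer (bar a C.A : Set (Qt a)) by rw [← hT]; exact hrN)
    have hrA : r ∈ normalizer (C.A : Set G) := Cfsg.Lib.ZStarApps.mem_normalizer_of_maps fun x hx =>
      (mem_normalizer_iff.1 hrn ⟨x, hAK hx⟩).1 hx
    have hqm : ∀ (k : ℕ) (x : G) (hx : x ∈ C.A), qk a ⟨r ^ k * x * (r ^ k)⁻¹, hAK (cj_mem (pow_mem hrA k) hx)⟩ =
        rb ^ k * qk a ⟨x, hAK hx⟩ * (rb ^ k)⁻¹ := fun k x hx => by
      rw [← hre, ← map_pow, ← map_inv, ← map_mul, ← map_mul]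
      rfl
    have hfixU : ∀ (k : ℕ), ∀ u ∈ U, r ^ k * u * (r ^ k)⁻¹ = u := fun k u hu => by
      obtain ⟨huA, _, hc⟩ := (hU u).1 hu
      refine C.qm_inj ha (cj_mem (pow_mem hrA k) huA) huA ?_
      rw [hqm k u huA, mem_centralizer_iff.1 hc _ (pow_mem hrL k), mul_inv_cancel_right]
    have hfree : ∀ k, ¬ Nat.card V - 1 ∣ k → ∀ v ∈ V, r ^ k * v * (r ^ k)⁻¹ = v → v = 1 := by
      intro k hk v hv e
      obtain ⟨hvA, h, hl⟩ := (hV v).1 hv
      refine C.qm_eq_one ha hvA (hrf k hk _ ⟨by rw [hT]; exact mem_bar.2 ⟨v, _, hvA, rfl⟩, hl⟩ ?_)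
      rw [← hqm k v hvA]
      exact congrArg (qk a) (Subtype.ext e)
    have hrV : ∀ k, ∀ v ∈ V, r ^ k * v * (r ^ k)⁻¹ ∈ V := fun k v hv => by
      obtain ⟨hvA, h, hl⟩ := (hV v).1 hv
      refine (hV _).2 ⟨cj_mem (pow_mem hrA k) hvA, hAK (cj_mem (pow_mem hrA k) hvA), ?_⟩
      rw [hqm k v hvA]
      exact mul_mem (mul_mem (pow_mem hrL k) hl) (inv_mem (pow_mem hrL k))
    have hrZ : ∀ k, ∀ z ∈ C.Z, r ^ k * z * (r ^ k)⁻¹ ∈ C.Z := fun k z hz => C.conj_mem_Z hA (pow_mem hrA k) hz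
    -- the centre meets the component
    obtain ⟨v1, hv1V, hv1Z, hv1⟩ : ∃ v ∈ V, v ∈ C.Z ∧ v ≠ 1 := by
      by_contra hcon
      push Not at hcon
      have hsub : C.Z ≤ U := fun z hz => by
        obtain ⟨u, hu, v, hv, e⟩ := hdec z (C.Z_le_A hz)
        have hc : r * v * r⁻¹ * v⁻¹ = r * z * r⁻¹ * z⁻¹ := by
          have := hfixU 1 u hu
          rw [pow_one] at this
          rw [e, show r * (u * v) * r⁻¹ = (r * u * r⁻¹) * (r * v * r⁻¹) by group, this, mul_inv_rev,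
            show u * (r * v * r⁻¹) * (v⁻¹ * u⁻¹) = u * (r * v * r⁻¹ * v⁻¹) * u⁻¹ by group]
          have h1 : Commute u (r * v * r⁻¹ * v⁻¹) := C.A_comm hu.1
            (mul_mem (cj_mem hrA hv.1) (inv_mem hv.1))
          rw [h1.eq, mul_inv_cancel_right]
        have h1 := hcon (r * v * r⁻¹ * v⁻¹) (mul_mem (by simpa using hrV 1 v hv) (inv_mem hv))
          (hc ▸ mul_mem (by simpa using hrZ 1 z hz) (inv_mem hz))
        have hv1 : v = 1 := hfree 1 (fun hd => by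
          have := Nat.le_of_dvd one_pos hd
          omega) v hv (by rw [pow_one]; exact mul_inv_eq_one.1 h1)
        rw [e, hv1, mul_one]
        exact hu
      have h5 : 4 ≤ Nat.card U := C.card_Z ▸ card_le_of_le hsub
      have h6 : Nat.card U = 4 := by
        have := Nat.mul_le_mul h5 h4
        have := Nat.mul_le_mul_left (Nat.card U) h4
        nlinarith
      have hUZ : C.Z = U := eq_of_le_of_card_ge hsub (by rw [h6, C.card_Z])
      exact haZ (hUZ ▸ haU)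
    set n := Nat.card V - 1 with hn
    have hinj : Nat.card (Option (Fin n)) ≤ Nat.card ↥(C.Z ⊓ V) := by
      refine Nat.card_le_card_of_injective (fun o => o.elim 1 fun i =>
        (⟨r ^ (i : ℕ) * v1 * (r ^ (i : ℕ))⁻¹, hrZ _ _ hv1Z, hrV _ _ hv1V⟩ : ↥(C.Z ⊓ V))) ?_
      have hne : ∀ i : ℕ, r ^ i * v1 * (r ^ i)⁻¹ ≠ 1 := fun i e => hv1 (conj_eq_one_iff.1 e)
      have hlt : ∀ i j : ℕ, i < j → j < n → r ^ i * v1 * (r ^ i)⁻¹ ≠ r ^ j * v1 * (r ^ j)⁻¹ := by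
        intro i j hij hj e
        refine hv1 (hfree (j - i) (fun hd => ?_) v1 hv1V ?_)
        · have := Nat.le_of_dvd (by omega) hd
          omega
        · rw [show r ^ (j - i) = (r ^ i)⁻¹ * r ^ j by
            rw [eq_inv_mul_iff_mul_eq, ← pow_add]; congr 1; omega]
          calc (r ^ i)⁻¹ * r ^ j * v1 * ((r ^ i)⁻¹ * r ^ j)⁻¹ = (r ^ i)⁻¹ * (r ^ j * v1 * (r ^ j)⁻¹) * r ^ i := by
                group
            _ = v1 := by rw [← e]; group
      rintro (_ | i) (_ | j) h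
      · rfl
      · exact absurd (congrArg Subtype.val h).symm (hne j)
      · exact absurd (congrArg Subtype.val h) (hne i)
      · have h' : r ^ (i : ℕ) * v1 * (r ^ (i : ℕ))⁻¹ = r ^ (j : ℕ) * v1 * (r ^ (j : ℕ))⁻¹ := congrArg Subtype.val h
        rcases lt_trichotomy (i : ℕ) j with hl | hl | hl
        · exact absurd h' (hlt _ _ hl j.2)
        · exact congrArg some (Fin.ext hl)
        · exact absurd h'.symm (hlt _ _ hl i.2)
    rw [Finite.card_option, Nat.card_fin] at hinj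
    have hleZ := card_le_of_le (inf_le_left : C.Z ⊓ V ≤ C.Z)
    rw [C.card_Z] at hleZ
    have hV4 : Nat.card V = 4 := by omega
    have hZV : C.Z ≤ V := by
      rw [← eq_of_le_of_card_ge (inf_le_left : C.Z ⊓ V ≤ C.Z) (by rw [C.card_Z]; omega)]
      exact inf_le_right
    have hVZ : V = C.Z := (eq_of_le_of_card_ge hZV (by rw [hV4, C.card_Z])).symm
    refine ⟨U, inf_le_left, haU, by rw [hV4] at hmul; omega, fun u hu huZ => hUV u hu (hZV huZ),
      fun x hx => by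
        obtain ⟨u, hu, v, hv, e⟩ := hdec x hx
        exact ⟨u, hu, v, hVZ ▸ hv, e⟩,
      fun z hz h => ((hV z).1 (hZV hz)).2.2, hU, hVT ▸ hV4, r, hrA, hrK, hre.symm ▸ hrL,
      fun u hu => by simpa using hfixU 1 u hu, fun z hz e => hfree 1 (fun hd => by
        have := Nat.le_of_dvd one_pos hd
        omega) z (hZV hz) (by rwa [pow_one])⟩
  obtain ⟨L, hL⟩ := hno
  obtain ⟨U, hUA, haU, hU4, hUZ, hsup, hZL, hU, hT4, hrot⟩ := main L hL
  -- the component is unique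
  have huniq : ∀ L' : Subgroup (Qt a), Cfsg.IsComponent L' → L' = L := by
    intro L' hL'
    by_contra hne
    obtain ⟨U', -, -, -, -, -, hZL', -⟩ := main L' hL'
    obtain ⟨z, hz, hz1⟩ : ∃ z ∈ C.Z, z ≠ 1 := by
      rcases C.Z.bot_or_exists_ne_one with h | ⟨z, hz, hz1⟩
      · have := C.card_Z; rw [h, card_bot] at this; omega
      · exact ⟨z, hz, hz1⟩
    have hh := hAK (C.Z_le_A hz)
    refine hz1 (C.qm_eq_one ha (C.Z_le_A hz) (mem_bot.1 ((Cfsg.Lib.Walter.comp_center hCF hL).le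
      ⟨hZL z hz hh, ?_⟩)))
    exact commutator_eq_bot_iff_le_centralizer.1 (Cfsg.Lib.Components.comp_commute hL' hL hne) (hZL' z hz hh)
  have hnormal : L.Normal := normalizer_eq_top_iff.1 (eq_top_iff.2 fun g _ =>
    mem_normalizer_iff_map_conj_eq.2 (huniq _ (Cfsg.Lib.Components.comp_conj hL g)))
  haveI := hnormal
  have hlayer : Cfsg.layer (Qt a) ≤ L := sSup_le fun L' hL' => (huniq L' hL').le
  have htop : (⊤ : Subgroup (Qt a)) ≤ L ⊔ normalizer (bar a C.A : Set (Qt a)) := by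
    rw [← hT]
    exact (Cfsg.Lib.Walter.le_layer_sup_normalizer hCF).trans (sup_le_sup_right hlayer _)
  have hUbar : ∀ q, q ∈ bar a U ↔ q ∈ (T : Subgroup (Qt a)) ∧ q ∈ centralizer (L : Set (Qt a)) := by
    intro q
    constructor
    · intro hq
      obtain ⟨x, h, hx, rfl⟩ := mem_bar.1 hq
      exact ⟨by rw [hT]; exact mem_bar.2 ⟨x, h, hUA hx, rfl⟩, ((hU x).1 hx).2.2⟩
    · rintro ⟨hq, hc⟩
      obtain ⟨x, h, hx, rfl⟩ := mem_bar.1 (hT ▸ hq : q ∈ bar a C.A)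
      exact mem_bar.2 ⟨x, h, (hU x).2 ⟨hx, h, hc⟩, rfl⟩
  have hUn : (bar a U).Normal := normalizer_eq_top_iff.1 (top_le_iff.1 (htop.trans (sup_le
    (fun l hl => centralizer_le_normalizer _ (mem_centralizer_iff.2 fun q hq =>
      (mem_centralizer_iff.1 ((hUbar q).1 hq).2 l hl).symm))
    (fun g hg => Cfsg.Lib.ZStarApps.mem_normalizer_of_maps fun q hq => by
      obtain ⟨hqT, hqc⟩ := (hUbar q).1 hq
      refine (hUbar _).2 ⟨by rw [hT] at hqT ⊢; exact (mem_normalizer_iff.1 hg q).1 hqT, ?_⟩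
      exact (inferInstance : (centralizer (L : Set (Qt a))).Normal).conj_mem q hqc g))))
  have hsupT : (T : Subgroup (Qt a)) ≤ L ⊔ bar a U := by
    intro q hq
    obtain ⟨x, h, hx, rfl⟩ := mem_bar.1 (hT ▸ hq : q ∈ bar a C.A)
    obtain ⟨u, hu, z, hz, rfl⟩ := hsup x hx
    rw [show (⟨u * z, h⟩ : K) = ⟨u, hAK (hUA hu)⟩ * ⟨z, hAK (C.Z_le_A hz)⟩ from rfl, map_mul]
    exact mul_mem (mem_sup_right (mem_bar.2 ⟨u, _, hu, rfl⟩)) (mem_sup_left (hZL z hz _))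
  have hcent : centralizer (L : Set (Qt a)) ⊓ centralizer (bar a U : Set (Qt a)) ≤ bar a U := by
    rintro x ⟨hxL, hxU⟩
    have hxT : x ∈ centralizer (Cfsg.pCore 2 (Qt a) : Set (Qt a)) := by
      have hle : L ⊔ bar a U ≤ centralizer ({x} : Set (Qt a)) :=
        sup_le (fun y hy => mem_centralizer_singleton_iff.2 (mem_centralizer_iff.1 hxL y hy))
          (fun y hy => mem_centralizer_singleton_iff.2 (mem_centralizer_iff.1 hxU y hy))
      exact mem_centralizer_iff.2 fun y hy => mem_centralizer_singleton_iff.1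
        (hle (hsupT (Cfsg.Lib.Walter.pCore_le hCF hy)))
    have h1 := (Cfsg.Lib.Walter.mem_of_centralizes hCF hxT fun L' hL' => huniq L' hL' ▸ hxL).1
    have h2 : x ∈ L ⊔ bar a U :=
      (sup_le (hlayer.trans le_sup_left) ((Cfsg.Lib.Walter.pCore_le hCF).trans hsupT)) h1
    obtain ⟨l, hl, w, hw, e⟩ := mem_sup_of_normal_left.1 h2
    have hlc : l ∈ centralizer (L : Set (Qt a)) := by
      rw [show l = x * w⁻¹ by rw [← e, mul_inv_cancel_right]]
      exact mul_mem hxL (inv_mem ((hUbar w).1 hw).2)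
    rw [← e, mem_bot.1 ((Cfsg.Lib.Walter.comp_center hCF hL).le ⟨hl, hlc⟩), one_mul]
    exact hw
  obtain ⟨hs, hna⟩ := Cfsg.Lib.Walter.comp_simple hCF hL
  haveI := hs
  obtain ⟨P, hP⟩ := Cfsg.Lib.Walter.sylow_comp hCF hL
  have hP4 : Nat.card (P : Subgroup L) = 4 := by
    rw [hP, ← inf_subgroupOf_right, Nat.card_congr (subgroupOfEquivOfLe inf_le_right).toEquiv, hT4]
  have hPsq : ∀ x : (P : Subgroup L), x * x = 1 := fun x => Subtype.ext (Subtype.ext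
    (Cfsg.Lib.Walter.comp_sq hCF hL x.1.2 (hP.le x.2)))
  haveI : Nontrivial (P : Subgroup L) := Finite.one_lt_card_iff_nontrivial.1 (by omega)
  haveI : IsKleinFour (P : Subgroup L) := ⟨hP4, (Monoid.exponent_eq_prime_iff Nat.prime_two).2 fun x hx =>
    orderOf_eq_prime (by rw [pow_two]; exact hPsq x) hx⟩
  exact ⟨L, U, ha, haZ, hUA, haU, hU4, hUZ, hsup, hnormal, hs, hCF.four L P inferInstance, hZL,
    fun u hu h => ((hU u).1 hu).2.2, hUn, hcent, htop, hrot⟩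

end Coord

end Cfsg.Lib.LFourType
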