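import Mathlib

/-!
Matrices of the automiser of a side as four images of basis vectors (codes `a + 4 c`), and the scan: a matrix
commuting with none of the four scalar structures has a word with the Sylow subgroup of order four which is of
order four or an outside involution centralising it.
-/

set_option autoImplicit false
set_option maxRecDepth 10000

namespace Cfsg.Lib.LFourType.Spread

/-- a matrix -/
abbrev Mat := ℕ × ℕ × ℕ × ℕ

/-- application -/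
def app (m : Mat) (v : ℕ) : ℕ :=
  (if v % 2 = 1 then m.1 else 0) ^^^ (if v / 2 % 2 = 1 then m.2.1 else 0) ^^^
    (if v / 4 % 2 = 1 then m.2.2.1 else 0) ^^^ (if v / 8 % 2 = 1 then m.2.2.2 else 0)

/-- product -/
def mul (m n : Mat) : Mat := (app m n.1, app m n.2.1, app m n.2.2.1, app m n.2.2.2)

/-- the identity -/
def one : Mat := (1, 2, 4, 8)

/-- the transvections of the Sylow subgroup -/
def tp : Fin 4 → Mat := ![(1, 2, 4, 8), (1 + 4 * 1, 2 + 4 * 2, 4, 8), (1 + 4 * 2, 2 + 4 * 3, 4, 8), (1 + 4 * 3, 2 + 4 * 1, 4, 8)]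

/-- the four scalar structures: `(a, c) ↦ (w a, w c + k a²)` -/
def sc : Fin 4 → Mat := ![(2, 3, 8, 12), (2 + 4 * 1, 3 + 4 * 3, 8, 12), (2 + 4 * 2, 3 + 4 * 1, 8, 12), (2 + 4 * 3, 3 + 4 * 2, 8, 12)]

/-- equality -/
def meq (m n : Mat) : Bool := m.1 == n.1 && m.2.1 == n.2.1 && m.2.2.1 == n.2.2.1 && m.2.2.2 == n.2.2.2

/-- two matrices commute -/
def comm (m n : Mat) : Bool := meq (mul m n) (mul n m)

/-- the normalised matrices commuting with exactly one structure -/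
def reps : Fin 4 → List Mat := ![
    [(1, 2, 5, 10), (1, 2, 6, 11), (1, 2, 7, 9), (1, 2, 8, 12), (1, 2, 9, 14), (1, 2, 10, 15), (1, 2, 11, 13), (1, 2, 12, 4), (1, 2, 13, 6), (1, 2, 14, 7), (1, 2, 15, 5), (2, 3, 4, 8), (2, 3, 5, 10), (2, 3, 6, 11), (2, 3, 7, 9), (2, 3, 8, 12), (2, 3, 9, 14), (2, 3, 10, 15), (2, 3, 11, 13), (2, 3, 13, 6), (2, 3, 14, 7), (2, 3, 15, 5), (3, 1, 4, 8), (3, 1, 5, 10), (3, 1, 6, 11), (3, 1, 7, 9), (3, 1, 9, 14), (3, 1, 10, 15), (3, 1, 11, 13), (3, 1, 12, 4), (3, 1, 13, 6), (3, 1, 14, 7), (3, 1, 15, 5), (4, 8, 1, 2), (4, 8, 2, 3), (4, 8, 3, 1), (4, 8, 5, 10), (4, 8, 6, 11), (4, 8, 7, 9), (4, 8, 9, 14), (4, 8, 10, 15), (4, 8, 11, 13), (4, 8, 13, 6), (4, 8, 14, 7), (4, 8, 15, 5), (8, 12, 1, 2), (8, 12, 2, 3), (8, 12, 3, 1), (8, 12, 5, 10), (8, 12, 6, 11), (8, 12, 7, 9), (8, 12, 9, 14), (8, 12, 10, 15), (8, 12, 11, 13), (8, 12, 13, 6), (8, 12, 14, 7), (8, 12, 15, 5),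 (12, 4, 1, 2), (12, 4, 2, 3), (12, 4, 3, 1), (12, 4, 5, 10), (12, 4, 6, 11), (12, 4, 7, 9), (12, 4, 9, 14), (12, 4, 10, 15), (12, 4, 11, 13), (12, 4, 13, 6), (12, 4, 14, 7), (12, 4, 15, 5)],
    [(1, 3, 5, 14), (1, 4, 2, 15), (1, 5, 3, 9), (1, 8, 14, 11), (1, 9, 15, 13), (1, 10, 12, 4), (1, 11, 13, 2), (1, 12, 10, 3), (1, 13, 11, 5), (1, 14, 8, 12), (1, 15, 9, 10), (2, 1, 14, 11), (2, 4, 11, 5), (2, 5, 10, 3), (2, 6, 9, 10), (2, 7, 8, 12), (2, 8, 7, 1), (2, 9, 6, 7), (2, 10, 5, 14), (2, 11, 4, 8), (2, 12, 3, 9), (2, 14, 1, 6), (3, 2, 11, 5), (3, 4, 13, 2), (3, 5, 12, 4), (3, 6, 15, 13), (3, 7, 14, 11), (3, 8, 1, 6), (3, 11, 2, 15), (3, 12, 5, 14), (3, 13, 4, 8), (3, 14, 7, 1), (3, 15, 6, 7), (4, 1, 9, 10), (4, 2, 10, 3), (4, 3, 11, 5), (4, 5, 13, 2), (4, 6, 14, 11), (4, 7, 15, 13), (4, 9, 1, 6), (4, 10, 2, 15), (4, 11, 3, 9), (4, 13, 5, 14), (4, 14, 6, 7), (4, 15, 7, 1), (8, 1, 13, 2), (8,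 2, 14, 11), (8, 3, 15, 13), (8, 5, 9, 10), (8, 6, 10, 3), (8, 7, 11, 5), (8, 9, 5, 14), (8, 10, 6, 7), (8, 11, 7, 1), (8, 13, 1, 6), (8, 14, 2, 15), (8, 15, 3, 9), (12, 1, 5, 14), (12, 2, 6, 7), (12, 3, 7, 1), (12, 5, 1, 6), (12, 6, 2, 15), (12, 7, 3, 9), (12, 9, 13, 2), (12, 10, 14, 11), (12, 11, 15, 13), (12, 13, 9, 10), (12, 14, 10, 3), (12, 15, 11, 5)],
    [(1, 3, 15, 9), (1, 4, 13, 14), (1, 5, 6, 15), (1, 6, 8, 12), (1, 7, 3, 13), (1, 8, 5, 2), (1, 9, 14, 3), (1, 12, 9, 6), (1, 13, 2, 7), (1, 14, 12, 4), (1, 15, 7, 5), (2, 1, 9, 6), (2, 4, 14, 3), (2, 6, 11, 1), (2, 8, 6, 15), (2, 9, 13, 14), (2, 10, 3, 13), (2, 11, 8, 12), (2, 12, 10, 11), (2, 13, 1, 10), (2, 14, 15, 9), (2, 15, 4, 8), (3, 2, 6, 15), (3, 4, 15, 9), (3, 5, 4, 8), (3, 6, 10, 11), (3, 7, 1, 10), (3, 8, 7, 5), (3, 9, 12, 4), (3, 10, 2, 7), (3, 11, 9, 6), (3, 12, 11, 1), (3, 15, 5, 2), (4, 1, 15, 9), (4, 2, 1, 10), (4,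 3, 10, 11), (4, 5, 3, 13), (4, 6, 13, 14), (4, 7, 6, 15), (4, 9, 11, 1), (4, 10, 5, 2), (4, 11, 14, 3), (4, 13, 7, 5), (4, 14, 9, 6), (4, 15, 2, 7), (8, 1, 3, 13), (8, 2, 13, 14), (8, 3, 6, 15), (8, 5, 15, 9), (8, 6, 1, 10), (8, 7, 10, 11), (8, 9, 7, 5), (8, 10, 9, 6), (8, 11, 2, 7), (8, 13, 11, 1), (8, 14, 5, 2), (8, 15, 14, 3), (12, 1, 7, 5), (12, 2, 9, 6), (12, 3, 2, 7), (12, 5, 11, 1), (12, 6, 5, 2), (12, 7, 14, 3), (12, 9, 3, 13), (12, 10, 13, 14), (12, 11, 6, 15), (12, 13, 15, 9), (12, 14, 1, 10), (12, 15, 10, 11)],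
    [(1, 3, 10, 7), (1, 4, 7, 13), (1, 5, 9, 2), (1, 6, 12, 4), (1, 7, 2, 11), (1, 8, 3, 5), (1, 9, 13, 10), (1, 10, 8, 12), (1, 11, 6, 3), (1, 12, 11, 9), (1, 13, 5, 6), (2, 1, 7, 13), (2, 4, 1, 14), (2, 5, 15, 1), (2, 6, 10, 7), (2, 7, 4, 8), (2, 8, 5, 6), (2, 10, 14, 15), (2, 12, 13, 10), (2, 13, 3, 5), (2, 14, 6, 3), (2, 15, 8, 12), (3, 2, 13, 10), (3, 4, 14, 15), (3, 7, 11, 9), (3, 8, 10, 7), (3, 9, 4, 8), (3, 10, 1, 14), (3, 11, 15, 1), (3, 12, 2, 11), (3, 13, 12, 4), (3, 14, 9, 2), (3, 15, 7, 13), (4, 1, 2, 11), (4, 2, 7, 13), (4, 3, 9, 2), (4, 5, 10, 7), (4, 6, 15, 1), (4, 7, 1, 14), (4, 9, 14, 15), (4, 10, 11, 9), (4, 11, 5, 6), (4, 13, 6, 3), (4, 14, 3, 5), (4, 15, 13, 10), (8, 1, 10, 7), (8, 2, 15, 1), (8, 3, 1, 14), (8, 5, 2, 11), (8, 6, 7, 13), (8, 7, 9, 2), (8, 9, 6, 3), (8, 10, 3, 5), (8, 11, 13, 10), (8, 13, 14, 15), (8, 14, 11, 9), (8, 15, 5, 6), (12, 1, 6, 3), (12, 2, 3,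 5), (12, 3, 13, 10), (12, 5, 14, 15), (12, 6, 11, 9), (12, 7, 5, 6), (12, 9, 10, 7), (12, 10, 15, 1), (12, 11, 1, 14), (12, 13, 2, 11), (12, 14, 7, 13), (12, 15, 9, 2)]]

/-- commutes with all structures -/
def linAll (m : Mat) : Bool := comm m (sc 0) && comm m (sc 1) && comm m (sc 2) && comm m (sc 3)

/-- linear for one of the structures -/
def linear (m : Mat) : Bool := comm m (sc 0) || comm m (sc 1) || comm m (sc 2) || comm m (sc 3)

/-- of order four, or an involution centralising the transvections outside them -/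
def bad (m : Mat) : Bool :=
  let s := mul m m
  if meq s one then
    comm m (tp 1) && comm m (tp 2) && !(meq m (tp 0) || meq m (tp 1) || meq m (tp 2) || meq m (tp 3))
  else meq (mul s s) one

/-- the words -/
def words : List (List (Fin 4)) :=
  [[0,1,0,2], [0,1,0,3], [0,2,0,3], [1,0,2,0,3], [0,1,0,0,3], [0,0,1,0,3], [0,2,0,2], [0,0,1,0,2], [0,1,0,1], [1,0,1,0,2]]

/-- evaluation of a word after a matrix -/
def evalW (x : Mat) : Mat → List (Fin 4) → Mat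
  | m, [] => m
  | m, i :: l => evalW x (mul m (if i = 0 then x else tp i)) l

/-- the test of one matrix -/
def ok (x : Mat) : Bool :=
  app x 0 == 0 && ((List.range 16).any fun v => v != 0 && app x v == 0) ||
    (if linear x then linAll x || (reps 0).any (meq x) || (reps 1).any (meq x) || (reps 2).any (meq x) || (reps 3).any (meq x)
      else words.any fun w => bad (evalW x x w))

/-- all matrices with given first column -/
def scan (m0 : ℕ) : Bool :=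
  (List.range 16).all fun m1 => (List.range 16).all fun m2 => (List.range 16).all fun m3 => ok (m0, m1, m2, m3)

theorem scan_one : scan 1 = true := by decide +kernel
theorem scan_two : scan 2 = true := by decide +kernel
theorem scan_three : scan 3 = true := by decide +kernel
theorem scan_four : scan 4 = true := by decide +kernel
theorem scan_eight : scan 8 = true := by decide +kernel
theorem scan_twelve : scan 12 = true := by decide +kernel

/-- two matrices for different structures generate one for none -/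
def pairs (k l : Fin 4) : Bool :=
  (reps k).all fun x => (reps l).all fun y => !linear (mul x y) || !linear (mul x (mul x y))

theorem reps_lin : ∀ k : Fin 4, ((reps k).all fun x => comm x (sc k)) = true := by decide +kernel
theorem pairs_zero : ∀ l : Fin 4, l ≠ 0 → pairs 0 l = true := by decide +kernel
theorem pairs_one : ∀ l : Fin 4, l ≠ 1 → pairs 1 l = true := by decide +kernel
theorem pairs_two : ∀ l : Fin 4, l ≠ 2 → pairs 2 l = true := by decide +kernel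
theorem pairs_three : ∀ l : Fin 4, l ≠ 3 → pairs 3 l = true := by decide +kernel
theorem tp_sc : ∀ i k : Fin 4, comm (tp i) (sc k) = true := by decide +kernel
theorem tp_sq : ∀ i : Fin 4, mul (tp i) (tp i) = one := by decide +kernel

/-- the first column can be normalised -/
theorem exists_tp : ∀ v : Fin 16, v.val ≠ 0 → ∃ i : Fin 4, app (tp i) v.val ∈ [1, 2, 3, 4, 8, 12] := by decide +kernel

end Cfsg.Lib.LFourType.Spread
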