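import Cfsg.Agent.LFourType.CaseOneCent

/-!
The torus of a side: a complement of order nine in the normalizer of the Sylow subgroup with an involution
exchanging its two characters.
-/

set_option autoImplicit false
set_option linter.unusedSectionVars false
set_option linter.style.haveILetI false

namespace Cfsg.Lib.LFourType

theorem qm_assoc : ∀ a b c : Fin 4, qm a (qm b c) = qm (qm a b) c := by decide
theorem qm_one : ∀ a : Fin 4, qm 1 a = a ∧ qm a 1 = a := by decide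
theorem qm_comm : ∀ a b : Fin 4, qm a b = qm b a := by decide
theorem qm_ne_zero : ∀ a b : Fin 4, a ≠ 0 → b ≠ 0 → qm a b ≠ 0 := by decide
theorem qm_inv : ∀ a : Fin 4, a ≠ 0 → qm (qm a a) a = 1 := by decide
theorem qm_cancel : ∀ a b c : Fin 4, a ≠ 0 → qm a b = qm a c → b = c := by decide

namespace Coord

open Subgroup

variable {G : Type*} [Group G] (C : Coord G)

/-- the characters of an element on a side modulo the centre and on the centre -/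
def Ch (d : G) (α γ : Fin 4) : Prop :=
  ∀ x : Mo, x.2.1 = 0 → ∃ y : Mo, d * C.e x * d⁻¹ = C.e y ∧ y.1 = qm α x.1 ∧ y.2.1 = 0 ∧
    (x.1 = 0 → y.2.2 = qm γ x.2.2)

theorem Ch.mul {d d' : G} {α γ α' γ' : Fin 4} (h : C.Ch d α γ) (h' : C.Ch d' α' γ') :
    C.Ch (d * d') (qm α α') (qm γ γ') := by
  intro x hx
  obtain ⟨y, e, h1, h2, h3⟩ := h' x hx
  obtain ⟨w, e', g1, g2, g3⟩ := h y h2
  refine ⟨w, by rw [← e', ← e]; group, by rw [g1, h1, qm_assoc], g2, fun h0 => ?_⟩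
  rw [g3 (by rw [h1, h0, (qa_zero α').2.2.2.1]), h3 h0, qm_assoc]

theorem Ch.unique {d : G} {α γ α' γ' : Fin 4} (h : C.Ch d α γ) (h' : C.Ch d α' γ') : α = α' ∧ γ = γ' := by
  constructor
  · obtain ⟨y, e, h1, -, -⟩ := h (1, 0, 0) rfl
    obtain ⟨y', e', h1', -, -⟩ := h' (1, 0, 0) rfl
    rw [C.e_inj (e.symm.trans e'), h1'] at h1
    simpa [(qm_one _).2] using h1.symm
  · obtain ⟨y, e, -, -, h3⟩ := h (0, 0, 1) rfl
    obtain ⟨y', e', -, -, h3'⟩ := h' (0, 0, 1) rfl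
    have h3 := h3 rfl
    rw [C.e_inj (e.symm.trans e'), h3' rfl] at h3
    simpa [(qm_one _).2] using h3.symm

theorem Ch.one : C.Ch 1 1 1 := fun x hx =>
  ⟨x, by group, ((qm_one _).1).symm, hx, fun _ => ((qm_one _).1).symm⟩

theorem Ch.conj_S {d s : G} {α γ : Fin 4} (h : C.Ch d α γ) (hs : s ∈ (C.S : Subgroup G)) :
    C.Ch (s * d * s⁻¹) α γ := by
  obtain ⟨u, rfl⟩ := C.exists_coord hs
  intro x hx
  have key : ∀ v : Mo, v.2.1 = 0 → ∀ w : Mo,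
      ((mm (mm w v) (mi w)).1 = v.1 ∧ (mm (mm w v) (mi w)).2.1 = 0 ∧ (v.1 = 0 → mm (mm w v) (mi w) = v)) := by
    decide +kernel
  obtain ⟨k1, k2, k3⟩ := key x hx (mi u)
  obtain ⟨y, e, h1, h2, h3⟩ := h _ k2
  obtain ⟨l1, l2, l3⟩ := key y h2 u
  refine ⟨mm (mm u y) (mi u), ?_, by rw [l1, h1, k1], l2, fun h0 => ?_⟩
  · rw [C.e_mul, C.e_mul, ← e, C.e_mul, C.e_mul, ← C.e_inv (mi u), ← C.e_inv u, inv_inv]
    group
  · rw [l3 (by rw [h1, k1, h0, (qa_zero α).2.2.2.1]), h3 (k1.trans h0), k3 h0]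

/-- the torus of a side -/
structure Tor where
  /-- the complement -/
  D : Subgroup G
  /-- the exchanging involution -/
  s : G
  le_norm : D ≤ normalizer ((C.S : Subgroup G) : Set G)
  s_mem : s ∈ normalizer (C.A : Set G)
  s_sq : s * s = 1
  ch_ex : ∀ d ∈ D, ∃ α γ, α ≠ 0 ∧ γ ≠ 0 ∧ C.Ch d α γ
  ch_surj : ∀ α γ : Fin 4, α ≠ 0 → γ ≠ 0 → ∃ d ∈ D, C.Ch d α γ
  ch_inj : ∀ d ∈ D, C.Ch d 1 1 → d = 1
  s_swap : ∀ d ∈ D, ∀ α γ, C.Ch d α γ → s * d * s⁻¹ ∈ D ∧ C.Ch (s * d * s⁻¹) γ α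
  decomp : ∀ n ∈ normalizer ((C.S : Subgroup G) : Set G), ∃ x ∈ (C.S : Subgroup G), ∃ d ∈ D, n = x * d
  cases : ∀ n ∈ normalizer (C.A : Set G), n ∈ normalizer ((C.S : Subgroup G) : Set G) ∨
    ∃ b ∈ normalizer ((C.S : Subgroup G) : Set G), ∃ b' ∈ normalizer ((C.S : Subgroup G) : Set G), n = b * s * b'
  s_Z : ∀ z ∈ C.Z, s * z * s⁻¹ ∈ C.Z → z = 1

namespace Tor

variable {C} (T : C.Tor)

theorem D_ch_mul {d d' : G} (hd : d ∈ T.D) (hd' : d' ∈ T.D) {α γ : Fin 4} (h : C.Ch d α γ) (h' : C.Ch d' α γ) :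
    d = d' := by
  obtain ⟨α', γ', hα, hγ, hi⟩ := T.ch_ex _ (inv_mem hd')
  have h1 := Ch.mul C hi h'
  rw [inv_mul_cancel] at h1
  obtain ⟨e1, e2⟩ := Ch.unique C h1 (Ch.one C)
  have h2 := Ch.mul C hi h
  rw [e1, e2] at h2
  exact (inv_mul_eq_one.1 (T.ch_inj _ (mul_mem (inv_mem hd') hd) h2)).symm

theorem comm {d d' : G} (hd : d ∈ T.D) (hd' : d' ∈ T.D) : d * d' = d' * d := by
  obtain ⟨α, γ, -, -, h⟩ := T.ch_ex d hd
  obtain ⟨α', γ', -, -, h'⟩ := T.ch_ex d' hd'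
  have h1 := Ch.mul C h h'
  rw [qm_comm α, qm_comm γ] at h1
  exact T.D_ch_mul (mul_mem hd hd') (mul_mem hd' hd) h1 (Ch.mul C h' h)

theorem cube {d : G} (hd : d ∈ T.D) : d * (d * d) = 1 := by
  obtain ⟨α, γ, hα, hγ, h⟩ := T.ch_ex d hd
  refine T.ch_inj _ (mul_mem hd (mul_mem hd hd)) ?_
  have := Ch.mul C h (Ch.mul C h h)
  rwa [qm_comm α, qm_inv α hα, qm_comm γ, qm_inv γ hγ] at this

theorem conj_Z {d z : G} (hd : d ∈ T.D) (hz : z ∈ C.Z) : d * z * d⁻¹ ∈ C.Z := by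
  obtain ⟨α, γ, -, -, h⟩ := T.ch_ex d hd
  obtain ⟨x, rfl⟩ := C.exists_coord (C.Z_le hz)
  obtain ⟨h0, h2⟩ := C.mem_Z.1 hz
  obtain ⟨y, e, h1, h2', -⟩ := h x h2
  rw [e, C.mem_Z, h1, h0, (qa_zero α).2.2.2.1]
  exact ⟨rfl, h2'⟩

theorem eq_one_of_S {d : G} (hd : d ∈ T.D) (hS : d ∈ (C.S : Subgroup G)) : d = 1 := by
  have h4 : d * d * (d * d) = 1 := C.A_sq (C.Z_le_A (C.sq_mem_Z hS))
  have h3 := T.cube hd
  calc d = d * (d * (d * d)) := by rw [h3, mul_one]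
    _ = 1 := by rw [← h4]; group

/-- conjugation by the Sylow subgroup -/
def conj (u : G) (hu : u ∈ (C.S : Subgroup G)) : C.Tor where
  D := conjS u T.D
  s := u * T.s * u⁻¹
  le_norm := by
    rintro _ ⟨d, hd, rfl⟩
    exact mul_mem (mul_mem (le_normalizer hu) (T.le_norm hd)) (inv_mem (le_normalizer hu))
  s_mem := mul_mem (mul_mem (C.S_le_normalizer_A hu) T.s_mem) (inv_mem (C.S_le_normalizer_A hu))
  s_sq := by rw [show u * T.s * u⁻¹ * (u * T.s * u⁻¹) = u * (T.s * T.s) * u⁻¹ by group, T.s_sq]; group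
  ch_ex := by
    rintro _ ⟨d, hd, rfl⟩
    obtain ⟨α, γ, hα, hγ, h⟩ := T.ch_ex d hd
    exact ⟨α, γ, hα, hγ, Ch.conj_S C h hu⟩
  ch_surj α γ hα hγ := by
    obtain ⟨d, hd, h⟩ := T.ch_surj α γ hα hγ
    exact ⟨u * d * u⁻¹, conj_mem_conjS hd, Ch.conj_S C h hu⟩
  ch_inj := by
    rintro _ ⟨d, hd, rfl⟩ h
    have h' := Ch.conj_S C h (inv_mem hu)
    rw [show u⁻¹ * (MulAut.conj u).toMonoidHom d * u⁻¹⁻¹ = d by
      show u⁻¹ * (u * d * u⁻¹) * u⁻¹⁻¹ = d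
      group] at h'
    rw [T.ch_inj d hd h', map_one]
  s_swap := by
    rintro _ ⟨d, hd, rfl⟩ α γ h
    have h' := Ch.conj_S C h (inv_mem hu)
    rw [show u⁻¹ * (MulAut.conj u).toMonoidHom d * u⁻¹⁻¹ = d by
      show u⁻¹ * (u * d * u⁻¹) * u⁻¹⁻¹ = d
      group] at h'
    obtain ⟨h1, h2⟩ := T.s_swap d hd α γ h'
    have e : u * T.s * u⁻¹ * (MulAut.conj u).toMonoidHom d * (u * T.s * u⁻¹)⁻¹ = u * (T.s * d * T.s⁻¹) * u⁻¹ := by
      show u * T.s * u⁻¹ * (u * d * u⁻¹) * (u * T.s * u⁻¹)⁻¹ = _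
      group
    rw [e]
    exact ⟨conj_mem_conjS h1, Ch.conj_S C h2 hu⟩
  decomp n hn := by
    obtain ⟨x, hx, d, hd, e⟩ := T.decomp (u⁻¹ * n * u)
      (mul_mem (mul_mem (inv_mem (le_normalizer hu)) hn) (le_normalizer hu))
    refine ⟨u * x * u⁻¹, mul_mem (mul_mem hu hx) (inv_mem hu), u * d * u⁻¹, conj_mem_conjS hd, ?_⟩
    rw [show u * x * u⁻¹ * (u * d * u⁻¹) = u * (x * d) * u⁻¹ by group, ← e]
    group
  cases n hn := by
    have huN : u ∈ normalizer ((C.S : Subgroup G) : Set G) := le_normalizer hu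
    rcases T.cases (u⁻¹ * n * u) (mul_mem (mul_mem (inv_mem (C.S_le_normalizer_A hu)) hn) (C.S_le_normalizer_A hu))
      with h | ⟨b, hb, b', hb', e⟩
    · left
      have := mul_mem (mul_mem huN h) (inv_mem huN)
      rwa [show u * (u⁻¹ * n * u) * u⁻¹ = n by group] at this
    · refine Or.inr ⟨u * b * u⁻¹, mul_mem (mul_mem huN hb) (inv_mem huN), u * b' * u⁻¹,
        mul_mem (mul_mem huN hb') (inv_mem huN), ?_⟩
      rw [show u * b * u⁻¹ * (u * T.s * u⁻¹) * (u * b' * u⁻¹) = u * (b * T.s * b') * u⁻¹ by group, ← e]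
      group
  s_Z z hz h := by
    have h0 : u⁻¹ * z * u = z := by rw [mul_assoc, (C.Z_central hz hu).eq, inv_mul_cancel_left]
    refine T.s_Z z hz ?_
    have h1 : u * (T.s * z * T.s⁻¹) * u⁻¹ ∈ C.Z := by
      rwa [show u * (T.s * z * T.s⁻¹) * u⁻¹ = u * T.s * u⁻¹ * z * (u * T.s * u⁻¹)⁻¹ by
        conv_lhs => rw [← h0]
        group]
    have h2 : u⁻¹ * (u * (T.s * z * T.s⁻¹) * u⁻¹) * u = u * (T.s * z * T.s⁻¹) * u⁻¹ := by
      rw [mul_assoc, (C.Z_central h1 hu).eq, inv_mul_cancel_left]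
    rw [show u⁻¹ * (u * (T.s * z * T.s⁻¹) * u⁻¹) * u = T.s * z * T.s⁻¹ by group] at h2
    rwa [← h2] at h1

/-- the elements of the normalizer of the Sylow subgroup as products -/
noncomputable def prodEquiv : ↥(C.S : Subgroup G) × ↥T.D ≃ ↥(normalizer ((C.S : Subgroup G) : Set G)) :=
  Equiv.ofBijective (fun p => ⟨(p.1 : G) * p.2, mul_mem (le_normalizer p.1.2) (T.le_norm p.2.2)⟩) ⟨fun p q e => by
    have e' : (p.1 : G) * p.2 = q.1 * q.2 := congrArg Subtype.val e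
    have h1 : (q.1 : G)⁻¹ * p.1 = q.2 * (p.2 : G)⁻¹ := by
      rw [← mul_inv_eq_iff_eq_mul.2 e'.symm]
      group
    have h2 := T.eq_one_of_S (mul_mem q.2.2 (inv_mem p.2.2)) (h1 ▸ mul_mem (inv_mem q.1.2) p.1.2)
    rw [h2] at h1
    exact Prod.ext (Subtype.ext (inv_mul_eq_one.1 h1).symm) (Subtype.ext (mul_inv_eq_one.1 h2).symm),
    fun ⟨n, hn⟩ => by
      obtain ⟨x, hx, d, hd, e⟩ := T.decomp n hn
      exact ⟨(⟨x, hx⟩, ⟨d, hd⟩), Subtype.ext e.symm⟩⟩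

theorem card_D [Finite G] : Nat.card T.D = 9 := by
  classical
  choose f hf using fun p : {q : Fin 4 // q ≠ 0} × {q : Fin 4 // q ≠ 0} => T.ch_surj p.1.1 p.2.1 p.1.2 p.2.2
  refine ((Nat.card_congr (Equiv.ofBijective (fun p => (⟨f p, (hf p).1⟩ : T.D)) ⟨fun p q e => ?_, ?_⟩)).symm).trans ?_
  · have h := (hf q).2
    rw [← show f p = f q from congrArg Subtype.val e] at h
    obtain ⟨e1, e2⟩ := Ch.unique C (hf p).2 h
    exact Prod.ext (Subtype.ext e1) (Subtype.ext e2)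
  · rintro ⟨d, hd⟩
    obtain ⟨α, γ, hα, hγ, h⟩ := T.ch_ex d hd
    exact ⟨(⟨α, hα⟩, ⟨γ, hγ⟩), Subtype.ext (T.D_ch_mul (hf _).1 hd (hf _).2 h)⟩
  · rw [Nat.card_eq_fintype_card]
    rfl

include T in
theorem card_norm [Finite G] : Nat.card ↥(normalizer ((C.S : Subgroup G) : Set G)) = 576 := by
  rw [← Nat.card_congr T.prodEquiv, Nat.card_prod, C.card_S, T.card_D]

end Tor

end Coord

end Cfsg.Lib.LFourType
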