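import Cfsg.Agent.LFourType.CoreLines

/-!
Neither side moved and no odd core: no split element of a side has a non-trivial core. A core would carry an
elementary abelian group with three lines, one for each central involution, on which three conjugate elements
of the tori shear; two elements of one torus would then fail to commute.
-/

set_option autoImplicit false
set_option linter.unusedSectionVars false
set_option linter.style.haveILetI false
set_option maxHeartbeats 400000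

namespace Cfsg.Lib.LFourType.Coord

open Subgroup
open Cfsg.Lib.Walter (Qt bar Oc mem_Oc)

universe u

variable {G : Type u} [Group G] [Finite G] {C : Coord G}

/-- the projection onto `C(a)/O(C(a))` -/
local notation "qk" => Cfsg.Lib.Walter.qm

variable {u : G} {L : Subgroup (Qt u)} {U : Subgroup G}

/-- the elements centralising `U` whose image lies in the component -/
def inL (u : G) (L : Subgroup (Qt u)) (U : Subgroup G) : Subgroup G :=
  (L.comap (qk u)).map (centralizer ({u} : Set G)).subtype ⊓ centralizer (U : Set G)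

theorem mem_inL {g : G} :
    g ∈ inL u L U ↔ (∃ hg : g ∈ centralizer ({u} : Set G), qk u ⟨g, hg⟩ ∈ L) ∧ g ∈ centralizer (U : Set G) := by
  constructor
  · rintro ⟨⟨x, hx, rfl⟩, hc⟩; exact ⟨⟨x.2, hx⟩, hc⟩
  · rintro ⟨⟨hg, hL⟩, hc⟩; exact ⟨⟨⟨g, hg⟩, hL, rfl⟩, hc⟩

theorem inL_le_cent {g : G} (hg : g ∈ inL u L U) : g ∈ centralizer ({u} : Set G) := (mem_inL.1 hg).1.choose

/-- an elementary abelian group in the core, normalised by the centralizer -/
structure Lines (u : G) (p : ℕ) (V : Subgroup G) : Prop where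
  prime : p.Prime
  le : V ≤ Oc u
  ne : V ≠ ⊥
  comm : ∀ x ∈ V, ∀ y ∈ V, Commute x y
  exp : ∀ x ∈ V, x ^ p = 1
  norm : centralizer ({u} : Set G) ≤ normalizer (V : Set G)

variable (F : C.Fixed) (h : C.Split u L U)
include F h

theorem Fixed.rot_cycle {ρ : G} (hρ : ∀ w ∈ C.Z, ρ * w * ρ⁻¹ = w → w = 1)
    (hρA : ρ ∈ normalizer (C.A : Set G)) {z : G} (hz : z ∈ C.Z) (hz1 : z ≠ 1) :
    ρ * (ρ * z * ρ⁻¹) * ρ⁻¹ = z * (ρ * z * ρ⁻¹) := by
  set z' := ρ * z * ρ⁻¹ with hz'd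
  set w := ρ * z' * ρ⁻¹ with hwd
  have hz' : z' ∈ C.Z := C.conj_mem_Z F.hA hρA hz
  have hz'1 : z' ≠ 1 := fun e => hz1 (conj_eq_one_iff.1 e)
  have hne : z' ≠ z := fun e => hz1 (hρ z hz e)
  have hwne : w ≠ z := by
    intro e
    have hcl : ρ * (z * z') * ρ⁻¹ = z * z' := by
      rw [show ρ * (z * z') * ρ⁻¹ = (ρ * z * ρ⁻¹) * (ρ * z' * ρ⁻¹) by group, ← hz'd, ← hwd, e,
        (C.A_comm (C.Z_le_A hz') (C.Z_le_A hz)).eq]
    exact hne (mul_left_cancel (((hρ _ (mul_mem hz hz') hcl)).trans (C.A_sq (C.Z_le_A hz)).symm))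
  exact C.Z_fourth hz hz' (C.conj_mem_Z F.hA hρA hz') hz1 hz'1 hne.symm
    (fun e => hz'1 (conj_eq_one_iff.1 e)) hwne (fun e => hz'1 (hρ z' hz' e))

theorem Fixed.Z_mem_inL {z : G} (hz : z ∈ C.Z) : z ∈ inL u L U :=
  mem_inL.2 ⟨⟨C.A_le_cent h.a_mem (C.Z_le_A hz), h.Z_mem z hz _⟩,
    mem_centralizer_iff.2 fun v hv => (C.A_comm (h.U_le hv) (C.Z_le_A hz)).eq⟩

theorem Fixed.tor_mem_inL {y z z' : G} (hy : y ∈ centralizer ({u} : Set G)) (hU : y ∈ centralizer (U : Set G))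
    (ho : Odd (orderOf y)) (hz : z ∈ C.Z) (hz1 : z ≠ 1) (hz' : z' ∈ C.Z) (hc : Commute y z)
    (hinv : z' * y * z'⁻¹ = y⁻¹) : y ∈ inL u L U :=
  mem_inL.2 ⟨⟨hy, (h.tor_comm_mem hz hz1 hz' hy ho hc hinv).choose⟩, hU⟩

variable {p : ℕ} {V : Subgroup G} (hV : Lines u p V)
include hV

theorem Fixed.odd_p : Odd p := by
  obtain ⟨x, hx, hx1⟩ : ∃ x ∈ V, x ≠ 1 := (V.bot_or_exists_ne_one).resolve_left hV.ne
  haveI : Fact p.Prime := ⟨hV.prime⟩
  exact (orderOf_eq_prime (hV.exp x hx) hx1) ▸ odd_orderOf (odd_Oc u) (hV.le hx)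

theorem Fixed.line_span {z e e' : G} (hz : z ∈ C.Z) (hz1 : z ≠ 1) (he : e ∈ V) (hez : Commute e z) (he1 : e ≠ 1)
    (he' : e' ∈ V) (he'z : Commute e' z) : e' ∈ zpowers e := by
  haveI : Fact p.Prime := ⟨hV.prime⟩
  set ℓ := V ⊓ centralizer ({z} : Set G)
  haveI := F.cyclic_fixed h.a_mem h.a_not hz hz1
  haveI : IsCyclic ℓ := isCyclic_of_injective (Subgroup.inclusion
    (inf_le_inf_right _ hV.le : ℓ ≤ Oc u ⊓ centralizer ({z} : Set G))) (Subgroup.inclusion_injective _)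
  have hle : zpowers e ≤ ℓ := zpowers_le.2 (mem_inf.2 ⟨he, mem_centralizer_singleton_iff.2 hez.eq⟩)
  have hexp : Monoid.exponent ℓ ∣ p :=
    Monoid.exponent_dvd_of_forall_pow_eq_one fun g => Subtype.ext (hV.exp g g.2.1)
  rw [IsCyclic.exponent_eq_card] at hexp
  have := eq_of_le_of_card_ge hle (by
    rw [Nat.card_zpowers, orderOf_eq_prime (hV.exp e he) he1]
    exact Nat.le_of_dvd hV.prime.pos hexp)
  exact this.symm ▸ mem_inf.2 ⟨he', mem_centralizer_singleton_iff.2 he'z.eq⟩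

theorem Fixed.line_disjoint {z w e : G} (hz : z ∈ C.Z) (hz1 : z ≠ 1) (hw : w ∈ C.Z) (hw1 : w ≠ 1) (hne : z ≠ w)
    (he : e ∈ V) (hez : Commute e z) (hew : Commute e w) : e = 1 := by
  rw [← mem_bot, ← F.Oc_cent_Z h.a_mem h.a_not]
  refine mem_inf.2 ⟨hV.le he, mem_centralizer_iff.2 fun v hv => ?_⟩
  rcases mem_four C.card_Z hz hw (C.A_sq (C.Z_le_A hz)) hz1 hw1 hne hv with rfl | rfl | rfl | rfl
  · simp
  · exact hez.eq.symm
  · exact hew.eq.symm
  · exact (hez.mul_right hew).eq.symm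

theorem Fixed.V_inverted {z w e : G} (hz : z ∈ C.Z) (hz1 : z ≠ 1) (hw : w ∈ C.Z) (hw1 : w ≠ 1) (hne : z ≠ w)
    (he : e ∈ V) (hez : Commute e z) : w * e * w⁻¹ = e⁻¹ :=
  F.inverted h.a_mem h.a_not hz hz1 hw hw1 hne (hV.le he) hez

theorem Fixed.exists_line {z : G} (hz : z ∈ C.Z) (hz1 : z ≠ 1) : ∃ e ∈ V, Commute e z ∧ e ≠ 1 := by
  obtain ⟨r, hrA, hru, -, -, hrZ⟩ := h.rot
  obtain ⟨w, hw, hw1, e, he, hew, he1⟩ : ∃ w ∈ C.Z, w ≠ 1 ∧ ∃ e ∈ V, Commute e w ∧ e ≠ 1 := by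
    by_contra hc
    push Not at hc
    refine hV.ne (le_bot_iff.1 (le_of_four' (E := C.Z) (by rw [C.card_Z])
      (fun p hp q hq => C.A_comm (C.Z_le_A hp) (C.Z_le_A hq)) (fun p hp => C.A_sq (C.Z_le_A hp))
      ((odd_Oc u).of_dvd_nat (card_dvd_of_le hV.le))
      ((C.Z_le_A.trans (C.A_le_cent h.a_mem)).trans hV.norm) fun w hw hw1 x hx => mem_bot.2 ?_))
    exact hc w hw hw1 x (mem_inf.1 hx).1 (mem_centralizer_singleton_iff.1 (mem_inf.1 hx).2)
  have step : ∀ g ∈ centralizer ({u} : Set G), ∀ v e, e ∈ V → Commute e v → e ≠ 1 →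
      g * e * g⁻¹ ∈ V ∧ Commute (g * e * g⁻¹) (g * v * g⁻¹) ∧ g * e * g⁻¹ ≠ 1 := fun g hg v e he hev he1 =>
    ⟨cj_mem (hV.norm hg) he, commute_conj hev, fun hh => he1 (conj_eq_one_iff.1 hh)⟩
  by_cases hwz : z = w
  · exact ⟨e, he, hwz ▸ hew, he1⟩
  have hw'1 : r * w * r⁻¹ ≠ 1 := fun hh => hw1 (conj_eq_one_iff.1 hh)
  by_cases hwz' : z = r * w * r⁻¹
  · obtain ⟨h1, h2, h3⟩ := step r hru w e he hew he1
    exact ⟨_, h1, hwz' ▸ h2, h3⟩
  obtain ⟨h1, h2, h3⟩ := step r hru w e he hew he1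
  obtain ⟨k1, k2, k3⟩ := step r hru _ _ h1 h2 h3
  rw [F.rot_cycle h hrZ hrA hw hw1, ← C.Z_fourth hw (C.conj_mem_Z F.hA hrA hw) hz hw1 hw'1
    (fun hh => hw1 (hrZ w hw hh.symm)) hz1 hwz hwz'] at k2
  exact ⟨_, k1, k2, k3⟩

/-- what lies in `inL` and fixes every line is trivial -/
theorem Fixed.eq_one_of_fix {g : G} (hg : g ∈ inL u L U)
    (hfix : ∀ w ∈ C.Z, w ≠ 1 → ∀ e ∈ V, Commute e w → Commute g e) : g = 1 := by
  haveI := h.normal
  haveI := h.simple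
  have hgV : g ∈ centralizer (V : Set G) := by
    have hle : V ≤ centralizer ({g} : Set G) := le_of_four' (E := C.Z) (by rw [C.card_Z])
      (fun p hp q hq => C.A_comm (C.Z_le_A hp) (C.Z_le_A hq)) (fun p hp => C.A_sq (C.Z_le_A hp))
      ((odd_Oc u).of_dvd_nat (card_dvd_of_le hV.le))
      ((C.Z_le_A.trans (C.A_le_cent h.a_mem)).trans hV.norm)
      fun w hw hw1 x hx => mem_centralizer_singleton_iff.2
        (hfix w hw hw1 x (mem_inf.1 hx).1 (mem_centralizer_singleton_iff.1 (mem_inf.1 hx).2)).eq.symm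
    exact mem_centralizer_iff.2 fun x hx => mem_centralizer_singleton_iff.1 (hle hx)
  have hzero : ∀ x ∈ inL u L U, x ∈ Oc u → x = 1 := fun x hx hxO => by
    rw [← mem_bot, ← F.Oc_cent_U h]; exact mem_inf.2 ⟨hxO, hx.2⟩
  set M := (((inL u L U ⊓ centralizer (V : Set G)).subgroupOf (centralizer ({u} : Set G))).map (qk u)).subgroupOf L
  haveI : M.Normal := ⟨fun m hm l => by
    obtain ⟨⟨x, hxu⟩, hx, hxe⟩ := mem_subgroupOf.1 hm
    obtain ⟨c, hcU, hcu, hce⟩ := h.exists_lift (h.le_cent l.2)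
    have hx' := mem_inf.1 (mem_subgroupOf.1 hx)
    have hc0 : c ∈ inL u L U := mem_inL.2 ⟨⟨hcu, hce.symm ▸ l.2⟩, hcU⟩
    refine mem_subgroupOf.2 ⟨⟨c * x * c⁻¹, mul_mem (mul_mem hcu hxu) (inv_mem hcu)⟩, mem_subgroupOf.2 (mem_inf.2
      ⟨mul_mem (mul_mem hc0 hx'.1) (inv_mem hc0), mem_centralizer_iff.2 fun v hv => ?_⟩), ?_⟩
    · have hv' := cj_mem (inv_mem (hV.norm hcu)) hv
      have := (commute_conj (g := c) (show Commute (c⁻¹ * v * c⁻¹⁻¹) x from mem_centralizer_iff.1 hx'.2 _ hv')).eq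
      rwa [show c * (c⁻¹ * v * c⁻¹⁻¹) * c⁻¹ = v by group] at this
    · rw [show (⟨c * x * c⁻¹, _⟩ : centralizer ({u} : Set G)) = ⟨c, hcu⟩ * ⟨x, hxu⟩ * ⟨c, hcu⟩⁻¹ from rfl, map_mul,
        map_mul, map_inv, hce, hxe]
      rfl⟩
  obtain ⟨⟨hgu, hgL⟩, -⟩ := mem_inL.1 hg
  rcases IsSimpleGroup.eq_bot_or_eq_top_of_normal M inferInstance with e | e
  · refine hzero g hg (mem_Oc.2 ⟨hgu, ?_⟩)
    have : (⟨_, hgL⟩ : L) ∈ M :=
      mem_subgroupOf.2 ⟨⟨g, hgu⟩, mem_subgroupOf.2 (mem_inf.2 ⟨hg, hgV⟩), rfl⟩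
    rw [e, mem_bot] at this
    exact congrArg Subtype.val this
  exfalso
  obtain ⟨z, hz, hz1⟩ := C.exists_Z_ne_one
  obtain ⟨hzu, hzL⟩ := (mem_inL.1 (F.Z_mem_inL h hz)).1
  obtain ⟨⟨x, hxu⟩, hx, hxe⟩ := mem_subgroupOf.1 (e ▸ mem_top (⟨_, hzL⟩ : L) : (⟨_, hzL⟩ : L) ∈ M)
  have hx' := mem_inf.1 (mem_subgroupOf.1 hx)
  have hxz : x⁻¹ * z = 1 := hzero _ (mul_mem (inv_mem hx'.1) (F.Z_mem_inL h hz)) (mem_Oc.2
    ⟨mul_mem (inv_mem hxu) hzu, by
      rw [show (⟨x⁻¹ * z, _⟩ : centralizer ({u} : Set G)) = ⟨x, hxu⟩⁻¹ * ⟨z, hzu⟩ from rfl, map_mul, map_inv, hxe,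
        inv_mul_cancel]⟩)
  obtain ⟨w, hw, hw1, hne⟩ := F.exists_other hz hz1
  obtain ⟨v, hv, hvw, hv1⟩ := F.exists_line h hV hw hw1
  exact hv1 (F.line_disjoint h hV hz hz1 hw hw1 hne hv ((inv_mul_eq_one.1 hxz) ▸ mem_centralizer_iff.1 hx'.2 v hv) hvw)

/-- an element of the torus at `z` centralising `U` and the line at `z` -/
theorem Fixed.exists_torus {z : G} (hz : z ∈ C.Z) (hz1 : z ≠ 1) : ∃ y ∈ inL u L U, y ^ p = 1 ∧ y ≠ 1 ∧
    Commute y z ∧ (∀ w ∈ C.Z, w ≠ 1 → z ≠ w → w * y * w⁻¹ = y⁻¹) ∧ ∀ e ∈ V, Commute e z → Commute y e := by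
  haveI : Fact p.Prime := ⟨hV.prime⟩
  obtain ⟨v, hv, hvz, hv1⟩ := F.exists_line h hV hz hz1
  have hu := h.a_mem
  have huZ := h.a_not
  have hu1 : u ≠ 1 := fun h1 => huZ (h1 ▸ one_mem _)
  obtain ⟨b, hb, eb⟩ := C.exists_comm_eq hz hu huZ
  have hbS := C.B_le hb
  have hb2 : b⁻¹ = b := inv_eq_of_mul_eq_one_right (C.B_sq hb)
  set y := b * v * b⁻¹ with hyd
  have hvu : Commute v u := mem_centralizer_singleton_iff.1 (Oc_le u (hV.le hv))
  have hbz : ∀ w ∈ C.Z, b * w * b⁻¹ = w := fun w hw => by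
    rw [(C.Z_central hw hbS).symm.eq, mul_inv_cancel_right]
  have hyz : Commute y z := by
    have := commute_conj (g := b) hvz
    rwa [hbz z hz] at this
  have hyu : Commute y u := by
    have h1 := commute_conj (g := b) (hvu.mul_right hvz)
    rwa [show b * (u * z) * b⁻¹ = (b * u * b⁻¹) * (b * z * b⁻¹) by group, eb, hbz z hz,
      mul_assoc u z z, C.A_sq (C.Z_le_A hz), mul_one] at h1
  have hyinv : ∀ w ∈ C.Z, w ≠ 1 → z ≠ w → w * y * w⁻¹ = y⁻¹ := fun w hw hw1 hne => by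
    rw [hyd, show w * (b * v * b⁻¹) * w⁻¹ = (w * b) * v * (w * b)⁻¹ by group, (C.Z_central hw hbS).eq,
      show b * w * v * (b * w)⁻¹ = b * (w * v * w⁻¹) * b⁻¹ by group, F.V_inverted h hV hz hz1 hw hw1 hne hv hvz]
    group
  have hyp : y ^ p = 1 := by
    rw [hyd, show b * v * b⁻¹ = MulAut.conj b v from rfl, ← map_pow, hV.exp v hv, map_one]
  have hy1 : y ≠ 1 := fun e => hv1 (conj_eq_one_iff.1 e)
  have hyU : y ∈ centralizer (U : Set G) := by
    obtain ⟨e, he, he1, hne⟩ : ∃ e ∈ U, e ≠ 1 ∧ u ≠ e := by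
      by_contra hc
      push Not at hc
      have hle : U ≤ zpowers u := fun v hv => by
        by_cases hv1 : v = 1
        · exact hv1 ▸ one_mem _
        · exact hc v hv hv1 ▸ mem_zpowers u
      have := card_le_of_le hle
      rw [h.card, Nat.card_zpowers, orderOf_involution (C.A_sq hu) hu1] at this
      omega
    have heA := h.U_le he
    obtain ⟨w, hw, ew⟩ := C.commutator_mem_Z hbS (C.A_le heA)
    have hbe : b * e * b⁻¹ = e * w := by
      rw [ew, mul_inv_eq_iff_eq_mul, mul_assoc e b w, (C.Z_central hw hbS).symm.eq, ← mul_assoc]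
    have hbZ : b ∉ C.A := fun hbA => by
      have : u * z = u := by
        rw [← eb, (C.A_comm hbA hu).eq, mul_inv_cancel_right]
      exact hz1 (by simpa using this)
    have hw1 : w ≠ 1 := fun e1 => by
      rw [e1, mul_one] at hbe
      exact hbZ (C.mem_A_of_commute heA (fun hh => he1 (h.U_Z e he hh)) hbS (mul_inv_eq_iff_eq_mul.1 hbe).symm)
    have hzw : z ≠ w := fun e1 => by
      have h1 : b * (u * e) * b⁻¹ = u * e := by
        rw [show b * (u * e) * b⁻¹ = (b * u * b⁻¹) * (b * e * b⁻¹) by group, eb, hbe, ← e1,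
          show u * z * (e * z) = u * (z * e) * z by group, (C.A_comm (C.Z_le_A hz) heA).eq,
          show u * (e * z) * z = u * e * (z * z) by group, C.A_sq (C.Z_le_A hz), mul_one]
      exact hbZ (C.mem_A_of_commute (mul_mem hu heA)
        (fun hh => hne ((mul_eq_one_iff_eq_inv.1 (h.U_Z _ (mul_mem h.mem_self he) hh)).trans
          (inv_eq_of_mul_eq_one_right (C.A_sq heA)))) hbS (mul_inv_eq_iff_eq_mul.1 h1).symm)
    have hv' : Commute v (e * w) := by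
      refine (mul_inv_eq_iff_eq_mul.1 ?_).symm
      rw [show e * w * v * (e * w)⁻¹ = e * (w * v * w⁻¹) * e⁻¹ by group, F.V_inverted h hV hz hz1 hw hw1 hzw hv hvz,
        show e * v⁻¹ * e⁻¹ = (e * v * e⁻¹)⁻¹ by group, F.inverted_U h hz hz1 he he1 hne (hV.le hv) hvz, inv_inv]
    have hye : Commute y e := by
      have h1 := commute_conj (g := b) hv'
      rwa [show b * (e * w) * b⁻¹ = (b * e * b⁻¹) * (b * w * b⁻¹) by group, hbe, hbz w hw,
        mul_assoc e w w, C.A_sq (C.Z_le_A hw), mul_one] at h1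
    refine mem_centralizer_iff.2 fun q hq => ?_
    rcases mem_four h.card h.mem_self he (C.A_sq hu) hu1 he1 hne hq with rfl | rfl | rfl | rfl
    · simp
    · exact hyu.eq.symm
    · exact hye.eq.symm
    · exact (hyu.mul_right hye).eq.symm
  have hyK : y ∈ centralizer ({u} : Set G) := mem_centralizer_singleton_iff.2 hyu.eq
  obtain ⟨w, hw, hw1, hne⟩ := F.exists_other hz hz1
  refine ⟨y, F.tor_mem_inL h hyK hyU ((F.odd_p h hV).of_dvd_nat (orderOf_dvd_of_pow_eq_one hyp)) hz hz1 hw hyz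
    (hyinv w hw hw1 hne), hyp, hy1, hyz, hyinv, fun e he hez => ?_⟩
  have hyO : y ∈ Oc (u * z) := eb ▸ conj_Oc b u (hV.le hv)
  have heu : Commute e u := mem_centralizer_singleton_iff.1 (Oc_le u (hV.le he))
  have h1 : y * e * y⁻¹ * e⁻¹ = 1 := by
    refine F.core_pair hu huZ hz hz1 (mul_mem (cj_mem (Oc_normalized hyK) (hV.le he)) (inv_mem (hV.le he)))
      (((hyz.mul_left hez).mul_left hyz.inv_left).mul_left hez.inv_left) ?_
    rw [show y * e * y⁻¹ * e⁻¹ = y * (e * y⁻¹ * e⁻¹) by group]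
    exact mul_mem hyO (cj_mem (Oc_normalized (mem_centralizer_singleton_iff.2 (heu.mul_right hez).eq)) (inv_mem hyO))
  exact mul_inv_eq_iff_eq_mul.1 (mul_inv_eq_one.1 h1)

/-- the torus element shears -/
theorem Fixed.shear {z y : G} (hz : z ∈ C.Z) (hz1 : z ≠ 1) (hy : y ∈ inL u L U) (hyp : y ^ p = 1) (hy1 : y ≠ 1)
    (hyz : Commute y z) (hyinv : ∀ w ∈ C.Z, w ≠ 1 → z ≠ w → w * y * w⁻¹ = y⁻¹)
    (hyline : ∀ e ∈ V, Commute e z → Commute y e) :
    ∃ w ∈ C.Z, w ≠ 1 ∧ z ≠ w ∧ (∀ e ∈ V, Commute e w → Commute y e) ∧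
      ∀ e ∈ V, Commute e (z * w) → Commute (y * e * y⁻¹ * e⁻¹) w ∧ (e ≠ 1 → y * e * y⁻¹ ≠ e) := by
  haveI : Fact p.Prime := ⟨hV.prime⟩
  have hodd := F.odd_p h hV
  have hyn := hV.norm (inL_le_cent hy)
  have hAn : ∀ {a}, a ∈ C.A → a ∈ normalizer (V : Set G) := fun ha => hV.norm (C.A_le_cent h.a_mem ha)
  have hzA := C.Z_le_A hz
  have hprod : ∀ {w : G}, w ∈ C.Z → z ≠ w → z * w ≠ 1 := fun hw hne e =>
    hne (mul_left_cancel (e.trans (C.A_sq hzA).symm)).symm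
  -- `y` fixes a line
  obtain ⟨w, hw, hw1, hne, f, hf, hfw, hf1, hyf⟩ : ∃ w ∈ C.Z, w ≠ 1 ∧ z ≠ w ∧
      ∃ f ∈ V, Commute f w ∧ f ≠ 1 ∧ Commute y f := by
    obtain ⟨w, hw, hw1, hne⟩ := F.exists_other hz hz1
    let Q : Subgroup G :=
      { carrier := {x | x ∈ V ∧ z * x * z⁻¹ = x⁻¹}
        one_mem' := ⟨one_mem _, by group⟩
        mul_mem' := fun {a b} ha hb => ⟨mul_mem ha.1 hb.1, by
          rw [show z * (a * b) * z⁻¹ = (z * a * z⁻¹) * (z * b * z⁻¹) by group, ha.2, hb.2,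
            ((hV.comm a ha.1 b hb.1).inv_inv).eq, mul_inv_rev]⟩
        inv_mem' := fun {a} ha => ⟨inv_mem ha.1, by rw [show z * a⁻¹ * z⁻¹ = (z * a * z⁻¹)⁻¹ by group, ha.2]⟩ }
    have hyQ : zpowers y ≤ normalizer (Q : Set G) := zpowers_le.2 (ZStarApps.mem_normalizer_of_maps fun x hx => ⟨
      cj_mem hyn hx.1, by
        rw [show z * (y * x * y⁻¹) * z⁻¹ = (z * y) * x * (z * y)⁻¹ by group, ← hyz.eq,
          show y * z * x * (y * z)⁻¹ = y * (z * x * z⁻¹) * y⁻¹ by group, hx.2]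
        group⟩)
    obtain ⟨e, he, hew, he1⟩ := F.exists_line h hV hw hw1
    have heQ : e ∈ Q := ⟨he, F.V_inverted h hV hw hw1 hz hz1 (Ne.symm hne) he hew⟩
    have hp : p ∣ Nat.card Q := by
      rw [← orderOf_eq_prime (hV.exp e he) he1, ← Nat.card_zpowers]; exact card_dvd_of_le (zpowers_le.2 heQ)
    have hW : IsPGroup p (zpowers y) :=
      IsPGroup.of_card (n := 1) (by rw [Nat.card_zpowers, orderOf_eq_prime hyp hy1, pow_one])
    obtain ⟨f, ⟨hfV, hfz⟩, hf1, hfy⟩ := exists_fixed hW hyQ hp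
    have hyf : Commute y f := hfy y (mem_zpowers y)
    have hwA := C.Z_le_A hw
    have hyf' : Commute y (w * f * w⁻¹) := by
      have := commute_conj (g := w) hyf
      rw [hyinv w hw hw1 hne] at this
      simpa using this.inv_left
    by_cases hP : f * (w * f * w⁻¹) = 1
    · refine ⟨z * w, mul_mem hz hw, hprod hw hne, fun e => hw1 (by simpa using e), f, hfV, ?_, hf1, hyf⟩
      refine (mul_inv_eq_iff_eq_mul.1 ?_).symm
      rw [show z * w * f * (z * w)⁻¹ = z * (w * f * w⁻¹) * z⁻¹ by group, eq_inv_of_mul_eq_one_right hP,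
        show z * f⁻¹ * z⁻¹ = (z * f * z⁻¹)⁻¹ by group, hfz, inv_inv]
    · refine ⟨w, hw, hw1, hne, _, mul_mem hfV (cj_mem (hAn hwA) hfV), ?_, hP, hyf.mul_right hyf'⟩
      refine (mul_inv_eq_iff_eq_mul.1 ?_).symm
      rw [show w * (f * (w * f * w⁻¹)) * w⁻¹ = (w * f * w⁻¹) * ((w * w) * f * (w * w)⁻¹) by group, C.A_sq hwA,
        one_mul, inv_one, mul_one, (hV.comm _ hfV _ (cj_mem (hAn hwA) hfV)).eq]
  have hfix : ∀ e ∈ V, Commute e w → Commute y e := fun e he hew => by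
    obtain ⟨i, rfl⟩ := mem_zpowers_iff.1 (F.line_span h hV hw hw1 hf hfw hf1 he hew)
    exact hyf.zpow_right i
  refine ⟨w, hw, hw1, hne, hfix, fun e he hez => ?_⟩
  set w' := z * w
  have hw' : w' ∈ C.Z := mul_mem hz hw
  have hw'1 : w' ≠ 1 := hprod hw hne
  have hzw' : z ≠ w' := fun e => hw1 (by simpa [w'] using e)
  have hww' : w ≠ w' := fun e => hz1 (by simpa [w'] using e)
  have hwA := C.Z_le_A hw
  by_cases he1 : e = 1
  · subst he1; exact ⟨by simp, fun h => absurd rfl h⟩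
  obtain ⟨i, hi⟩ := hodd
  -- the elements inverted by `z`
  have hdec : ∀ x ∈ V, z * x * z⁻¹ = x⁻¹ → ∃ a : ℕ, ∃ d ∈ V, Commute d w ∧ x = e ^ a * d := by
    intro x hx hxz
    set P := x * (w * x * w⁻¹)
    set R := x * (w * x * w⁻¹)⁻¹
    have hxw := cj_mem (hAn hwA) hx
    have hPV : P ∈ V := mul_mem hx hxw
    have hRV : R ∈ V := mul_mem hx (inv_mem hxw)
    have hPw : Commute P w := by
      refine (mul_inv_eq_iff_eq_mul.1 ?_).symm
      rw [show w * P * w⁻¹ = (w * x * w⁻¹) * ((w * w) * x * (w * w)⁻¹) by simp only [P]; group, C.A_sq hwA,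
        one_mul, inv_one, mul_one]
      exact (hV.comm _ hxw _ hx).eq
    have hRw : Commute R w' := by
      refine (mul_inv_eq_iff_eq_mul.1 ?_).symm
      rw [show w' * R * w'⁻¹ = z * ((w * x * w⁻¹) * ((w * w) * x * (w * w)⁻¹)⁻¹) * z⁻¹ by
        simp only [w', R]; group, C.A_sq hwA, one_mul, inv_one, mul_one]
      rw [show z * (w * x * w⁻¹ * x⁻¹) * z⁻¹ = (z * w) * x * (z * w)⁻¹ * (z * x * z⁻¹)⁻¹ by group,
        (C.A_comm hzA hwA).eq, show w * z * x * (w * z)⁻¹ = w * (z * x * z⁻¹) * w⁻¹ by group, hxz, inv_inv,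
        show w * x⁻¹ * w⁻¹ = (w * x * w⁻¹)⁻¹ by group]
      exact (hV.comm _ (inv_mem hxw) _ hx).eq
    have hRe : R ^ (i + 1) ∈ zpowers e := pow_mem (F.line_span h hV hw' hw'1 he hez he1 hRV hRw) _
    rw [← SetLike.mem_coe, coe_zpowers] at hRe
    obtain ⟨a, ha⟩ := mem_powers_iff_mem_zpowers.2 (hRe : R ^ (i + 1) ∈ zpowers e)
    refine ⟨a, P ^ (i + 1), pow_mem hPV _, hPw.pow_left _, ?_⟩
    have ha' : e ^ a = R ^ (i + 1) := ha
    rw [ha', ← (hV.comm R hRV P hPV).mul_pow,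
      show R * P = x * x by
        rw [(hV.comm R hRV P hPV).eq]
        simp only [P, R]
        rw [show x * (w * x * w⁻¹) * (x * (w * x * w⁻¹)⁻¹) = x * ((w * x * w⁻¹) * x) * (w * x * w⁻¹)⁻¹ by group,
          (hV.comm _ hxw _ hx).eq, ← mul_assoc, mul_inv_cancel_right],
      ← pow_two, ← pow_mul, show 2 * (i + 1) = p + 1 by omega, pow_succ, hV.exp x hx, one_mul]
  have hTe : z * (y * e * y⁻¹) * z⁻¹ = (y * e * y⁻¹)⁻¹ := by
    rw [show z * (y * e * y⁻¹) * z⁻¹ = (z * y) * e * (z * y)⁻¹ by group, ← hyz.eq,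
      show y * z * e * (y * z)⁻¹ = y * (z * e * z⁻¹) * y⁻¹ by group,
      F.V_inverted h hV hw' hw'1 hz hz1 (Ne.symm hzw') he hez]
    group
  obtain ⟨a, d, hd, hdw, hye⟩ := hdec _ (cj_mem hyn he) hTe
  have hiter : ∀ n : ℕ, ∃ c ∈ V, Commute c w ∧ y ^ n * e * (y ^ n)⁻¹ = e ^ (a ^ n) * c := by
    intro n
    induction n with
    | zero => exact ⟨1, one_mem _, Commute.one_left _, by simp⟩
    | succ n ih =>
      obtain ⟨c, hc, hcw, hn⟩ := ih
      refine ⟨d ^ (a ^ n) * c, mul_mem (pow_mem hd _) hc, (hdw.pow_left _).mul_left hcw, ?_⟩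
      rw [pow_succ' y n, show y * y ^ n * e * (y * y ^ n)⁻¹ = y * (y ^ n * e * (y ^ n)⁻¹) * y⁻¹ by group, hn,
        show y * (e ^ a ^ n * c) * y⁻¹ = (y * e ^ a ^ n * y⁻¹) * (y * c * y⁻¹) by group, (hfix c hc hcw).eq,
        mul_inv_cancel_right, show y * e ^ a ^ n * y⁻¹ = (y * e * y⁻¹) ^ a ^ n from (map_pow (MulAut.conj y) e _),
        hye, (hV.comm _ (pow_mem he a) d hd).mul_pow, ← pow_mul, ← pow_succ', mul_assoc]
  obtain ⟨c, hc, hcw, hn⟩ := hiter p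
  rw [hyp, one_mul, inv_one, mul_one] at hn
  have hc1 : c = 1 := by
    refine F.line_disjoint h hV hw hw1 hw' hw'1 hww' hc hcw ?_
    rw [show c = (e ^ (a ^ p))⁻¹ * e by nth_rewrite 2 [hn]; rw [inv_mul_cancel_left]]
    exact (hez.pow_left _).inv_left.mul_left hez
  rw [hc1, mul_one] at hn
  have hae : e ^ a = e := by
    have hoe : orderOf e = p := orderOf_eq_prime (hV.exp e he) he1
    have hmod : a ^ p ≡ a [MOD p] := (ZMod.natCast_eq_natCast_iff _ _ _).1 (by push_cast; exact ZMod.pow_card _)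
    conv_rhs => rw [hn]
    rw [pow_eq_pow_iff_modEq, hoe]
    exact hmod.symm
  rw [hae] at hye
  refine ⟨?_, fun _ hbad => ?_⟩
  · rw [hye, (hV.comm e he d hd).eq, mul_inv_cancel_right]; exact hdw
  · have hye' : Commute y e := mul_inv_eq_iff_eq_mul.1 hbad
    refine hy1 (F.eq_one_of_fix h hV hy fun v hv hv1 q hq hqv => ?_)
    rcases mem_four C.card_Z hz hw (C.A_sq hzA) hz1 hw1 hne hv with rfl | rfl | rfl | rfl
    · exact absurd rfl hv1
    · exact hyline q hq hqv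
    · exact hfix q hq hqv
    · obtain ⟨j, rfl⟩ := mem_zpowers_iff.1 (F.line_span h hV hw' hw'1 he hez he1 hq hqv)
      exact hye'.zpow_right j

end Cfsg.Lib.LFourType.Coord
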