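import Cfsg.Agent.LFourType.Torus

/-!
The torus of a moved linear side exists as soon as the scalar modulo the centre is induced.
-/

set_option autoImplicit false
set_option linter.unusedSectionVars false
set_option linter.style.haveILetI false

namespace Cfsg.Lib.LFourType.Coord

open Subgroup Spread

universe u

variable {G : Type u} [Group G] [Finite G] [IsSimpleGroup G] (C : Coord G)
  (hl : C.IsLin) (hM : C.Moved) (hM' : C.swap.Moved) (hO : Cfsg.oddCore G = ⊥)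
include hl hM hM' hO

/-- an element acting as one of the Sylow subgroup lies in it -/
theorem mem_S_of_act (n : ↥(normalizer (C.A : Set G))) (i : Fin 4) (h : (C.act n : Fin 16 → Fin 16) = tpf i) :
    (n : G) ∈ (C.S : Subgroup G) := by
  let s : ↥(normalizer (C.A : Set G)) := ⟨C.e (0, i, 0), C.S_le_normalizer_A (C.e_mem _)⟩
  have e : C.act n = C.act s := Equiv.ext fun v => by rw [h, C.act_S]
  have := mul_mem (C.e_mem (0, i, 0)) (C.A_le (C.act_injective hl hM hM' hO e))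
  rwa [show C.e (0, i, 0) * ((s : G)⁻¹ * n) = n from mul_inv_cancel_left _ _] at this

/-- an element with diagonal action normalises the Sylow subgroup -/
theorem normalizer_of_dg (n : ↥(normalizer (C.A : Set G))) (α γ : Fin 4) (hα : α ≠ 0) (hγ : γ ≠ 0)
    (h : (C.act n : Fin 16 → Fin 16) = dg α γ) : (n : G) ∈ normalizer ((C.S : Subgroup G) : Set G) := by
  refine ZStarApps.mem_normalizer_of_maps fun s hs => ?_
  obtain ⟨x, rfl⟩ := C.exists_coord hs
  obtain ⟨j, hj⟩ := (by decide +kernel : ∀ α γ : Fin 4, α ≠ 0 → γ ≠ 0 → ∀ i, ∃ j, ∀ v,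
    dg α γ (tpf i v) = tpf j (dg α γ v)) α γ hα hγ x.2.1
  let s : ↥(normalizer (C.A : Set G)) := ⟨C.e x, C.S_le_normalizer_A hs⟩
  have e : (C.act (n * s * n⁻¹) : Fin 16 → Fin 16) = tpf j := funext fun w => by
    obtain ⟨v, rfl⟩ := (C.act n).surjective w
    rw [map_mul, map_mul, map_inv, Equiv.Perm.mul_apply, Equiv.Perm.mul_apply, Equiv.Perm.inv_def, Equiv.symm_apply_apply]
    show C.act n ((C.act s : Fin 16 → Fin 16) v) = _
    rw [C.act_S, h]
    exact hj v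
  exact C.mem_S_of_act hl hM hM' hO _ j e

variable (hrho : ∃ n, (C.act n : Fin 16 → Fin 16) = dg 2 1)
include hrho

theorem exists_act_dg (α γ : Fin 4) (hα : α ≠ 0) (hγ : γ ≠ 0) :
    ∃ n, (C.act n : Fin 16 → Fin 16) = dg α γ := by
  obtain ⟨r, hr⟩ := hrho
  obtain ⟨k, hk⟩ := C.exists_act_hh hl hM
  have : ∀ i j : ℕ, ∃ n, (C.act n : Fin 16 → Fin 16) = (dg 2 1)^[i] ∘ (dg 2 3)^[j] := by
    intro i j
    induction i with
    | zero =>
      induction j with
      | zero => exact ⟨1, by rw [map_one]; rfl⟩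
      | succ j ih =>
        obtain ⟨n, hn⟩ := ih
        refine ⟨k * n, funext fun v => ?_⟩
        rw [map_mul, Equiv.Perm.mul_apply, hn, hk]
        simp only [Function.comp, Function.iterate_zero, id, Function.iterate_succ']
    | succ i ih =>
      obtain ⟨n, hn⟩ := ih
      refine ⟨r * n, funext fun v => ?_⟩
      rw [map_mul, Equiv.Perm.mul_apply, hn, hr]
      simp only [Function.comp, Function.iterate_succ']
  obtain ⟨i, j, e⟩ : ∃ i j : Fin 3, ∀ v, dg α γ v = (dg 2 1)^[i.val] ((dg 2 3)^[j.val] v) :=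
    (by decide +kernel : ∀ α γ : Fin 4, α ≠ 0 → γ ≠ 0 → ∃ i j : Fin 3, ∀ v,
      dg α γ v = (dg 2 1)^[i.val] ((dg 2 3)^[j.val] v)) α γ hα hγ
  obtain ⟨n, hn⟩ := this i.val j.val
  exact ⟨n, hn.trans (funext fun v => (e v).symm)⟩

theorem exists_tor : Nonempty C.Tor := by
  classical
  set N := normalizer (C.A : Set G)
  obtain ⟨n₀, hn₀⟩ := C.exists_act_dg hl hM hM' hO hrho 2 2 (by decide) (by decide)
  have hn3 : (n₀ : G) * n₀ * n₀ ∈ C.A := by
    have h3 : C.act (n₀ * n₀ * n₀) = C.act 1 := Equiv.ext fun v => by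
      rw [map_mul, map_mul, map_one, Equiv.Perm.mul_apply, Equiv.Perm.mul_apply, hn₀]
      exact (by decide +kernel : ∀ v, dg 2 2 (dg 2 2 (dg 2 2 v)) = v) v
    simpa using C.act_injective hl hM hM' hO h3
  set ζ : ↥(normalizer (C.A : Set G)) := n₀ ^ 4
  have hζ : (C.act ζ : Fin 16 → Fin 16) = dg 2 2 := funext fun v => by
    show C.act (n₀ ^ 4) v = _
    simp only [pow_succ, pow_zero, one_mul, map_mul, Equiv.Perm.mul_apply, hn₀]
    exact (by decide +kernel : ∀ v, dg 2 2 (dg 2 2 (dg 2 2 (dg 2 2 v))) = dg 2 2 v) v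
  -- lifts commuting with the scalar
  have hex : ∀ n : ↥N, ∃ l : ↥N, C.act l = C.act n ∧ l * ζ = ζ * l := by
    intro n
    have e : C.act (n * ζ * n⁻¹) = C.act ζ := Equiv.ext fun w => by
      obtain ⟨v, rfl⟩ := (C.act n).surjective w
      rw [map_mul, map_mul, map_inv, Equiv.Perm.mul_apply, Equiv.Perm.mul_apply, Equiv.Perm.inv_def, Equiv.symm_apply_apply, hζ]
      have hd : ∀ v, dg 2 2 v = scf 0 v := by decide +kernel
      rw [hd, hd, hl n v]
    have hw : ((n * ζ * n⁻¹ : ↥N) : G) * (ζ : G)⁻¹ ∈ C.A := by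
      have h := cj_mem ζ.2 (C.act_injective hl hM hM' hO e)
      rwa [show (ζ : G) * ((ζ : G)⁻¹ * ((n * ζ * n⁻¹ : ↥N) : G)) * (ζ : G)⁻¹ = _ from by
        rw [mul_inv_cancel_left]] at h
    obtain ⟨va, hva⟩ := C.exists_eA hw
    let u : ↥N := ⟨C.eA (scf 0 va), C.S_le_normalizer_A (C.A_le (C.eA_mem _))⟩
    refine ⟨u * n, ?_, ?_⟩
    · rw [map_mul]
      refine Equiv.ext fun v => C.eA_inj ?_
      rw [Equiv.Perm.mul_apply, C.act_spec u, (C.A_comm (C.eA_mem _) (C.eA_mem _)).eq, mul_inv_cancel_right]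
    · refine Subtype.ext ?_
      have e1 : (ζ : G) * C.eA (scf 0 va) = C.eA (scf 0 (scf 0 va)) * ζ := by
        have := C.act_spec ζ (scf 0 va)
        rw [hζ, (by decide +kernel : ∀ v, dg 2 2 v = scf 0 v)] at this
        rw [this]
        group
      have e2 : (n : G) * ζ = C.eA va * ζ * n := by
        rw [hva]
        show (n : G) * ζ = (n : G) * ζ * (n : G)⁻¹ * (ζ : G)⁻¹ * ζ * n
        group
      have e3 : ∀ v, xa (scf 0 v) v = scf 0 (scf 0 v) := by decide +kernel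
      calc C.eA (scf 0 va) * n * ζ = C.eA (scf 0 va) * C.eA va * ζ * n := by rw [mul_assoc, e2]; group
        _ = ζ * (C.eA (scf 0 va) * n) := by rw [← mul_assoc (ζ : G), e1, ← C.eA_xa, e3]
  have huniq : ∀ l l' : ↥N, l * ζ = ζ * l → l' * ζ = ζ * l' → C.act l = C.act l' → l = l' := by
    intro l l' h h' e
    have ha := C.act_injective hl hM hM' hO e
    obtain ⟨v, hv⟩ := C.exists_eA ha
    have hc : (ζ : G) * ((l' : G)⁻¹ * l) * (ζ : G)⁻¹ = (l' : G)⁻¹ * l := by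
      have h1 : Commute (l : G) ζ := congrArg Subtype.val h
      have h2 : Commute (l' : G) ζ := congrArg Subtype.val h'
      rw [(h2.inv_left.mul_left h1).symm.eq, mul_inv_cancel_right]
    rw [← hv, ← C.act_spec, hζ] at hc
    have := (by decide +kernel : ∀ v, dg 2 2 v = v → v = 0) v (C.eA_inj hc)
    rw [this, C.eA_zero] at hv
    exact Subtype.ext (inv_mul_eq_one.1 hv.symm).symm
  have hlift : ∀ α γ : Fin 4, α ≠ 0 → γ ≠ 0 → ∃ l : ↥N, (C.act l : Fin 16 → Fin 16) = dg α γ ∧ l * ζ = ζ * l := by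
    intro α γ hα hγ
    obtain ⟨n, hn⟩ := C.exists_act_dg hl hM hM' hO hrho α γ hα hγ
    obtain ⟨l, hl', hc⟩ := hex n
    exact ⟨l, by rw [hl', hn], hc⟩
  obtain ⟨s₀, hs₀⟩ := C.exists_act_sw hl hM
  obtain ⟨s, hs', hsc⟩ := hex s₀
  have hs : (C.act s : Fin 16 → Fin 16) = sw := by rw [hs', hs₀]
  let D₀ : Subgroup ↥N :=
    { carrier := {l | l * ζ = ζ * l ∧ ∃ α γ : Fin 4, α ≠ 0 ∧ γ ≠ 0 ∧ (C.act l : Fin 16 → Fin 16) = dg α γ}
      one_mem' := ⟨by simp, 1, 1, by decide, by decide, by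
        rw [map_one]
        exact funext fun v => ((by decide +kernel : ∀ v, dg 1 1 v = v) v).symm⟩
      mul_mem' := by
        rintro a b ⟨ha, α, γ, hα, hγ, ea⟩ ⟨hb, α', γ', hα', hγ', eb⟩
        refine ⟨(show Commute a ζ from ha).mul_left hb, qm α α', qm γ γ', qm_ne_zero _ _ hα hα',
          qm_ne_zero _ _ hγ hγ', funext fun v => ?_⟩
        rw [map_mul, Equiv.Perm.mul_apply, ea, eb, dg_mul]
      inv_mem' := by
        rintro a ⟨ha, α, γ, hα, hγ, ea⟩
        refine ⟨(show Commute a ζ from ha).inv_left, qm α α, qm γ γ, qm_ne_zero _ _ hα hα, qm_ne_zero _ _ hγ hγ,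
          funext fun w => ?_⟩
        obtain ⟨v, rfl⟩ := (C.act a).surjective w
        rw [map_inv, Equiv.Perm.inv_def, Equiv.symm_apply_apply, ea, dg_mul, qm_inv α hα, qm_inv γ hγ]
        exact ((by decide +kernel : ∀ v, dg 1 1 v = v) v).symm }
  have hch : ∀ (l : ↥N) (α γ : Fin 4), (C.act l : Fin 16 → Fin 16) = dg α γ → C.Ch (l : G) α γ := by
    intro l α γ e x hx
    refine ⟨pv (dg α γ (vp x)), ?_, ?_, pv_side _, fun h0 => ?_⟩
    · have := C.act_spec l (vp x)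
      rw [e, eA, eA, pv_vp x hx] at this
      exact this.symm
    · rw [dg, pv_vp _ rfl, pv_vp x hx]
    · rw [dg, pv_vp _ rfl, pv_vp x hx]
  have hsq : s * s = 1 := huniq _ _ ((show Commute s ζ from hsc).mul_left hsc) (by simp) (Equiv.ext fun v => by
    rw [map_mul, map_one, Equiv.Perm.mul_apply, hs]
    exact (by decide +kernel : ∀ v, sw (sw v) = v) v)
  have hN : ∀ n : ↥N, (n : G) * C.eA 4 * (n : G)⁻¹ ∈ C.Z →
      ∃ x ∈ (C.S : Subgroup G), ∃ d ∈ D₀, (n : G) = x * (d : G) := by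
    intro n h
    obtain ⟨α, δ, γ, hα, hγ, e1, e4⟩ := C.act_borel hl n h
    obtain ⟨i, hi⟩ := borel_norm α δ γ hα
    obtain ⟨d, hd, hdc⟩ := hlift α γ hα hγ
    refine ⟨(n : G) * (d : G)⁻¹, C.mem_S_of_act hl hM hM' hO (n * d⁻¹) i (funext fun w => ?_), d,
      ⟨hdc, α, γ, hα, hγ, hd⟩, by group⟩
    obtain ⟨v, rfl⟩ := (C.act d).surjective w
    rw [map_mul, map_inv, Equiv.Perm.mul_apply, Equiv.Perm.inv_def, Equiv.symm_apply_apply, hd, C.act_mk2 hl n, e1, e4, ← hi v]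
    exact ((by decide +kernel : ∀ i v, tpf i (tpf i v) = v) i _).symm
  have hD : D₀.map N.subtype ≤ normalizer ((C.S : Subgroup G) : Set G) := by
    rintro _ ⟨l, ⟨-, α, γ, hα, hγ, e⟩, rfl⟩
    exact C.normalizer_of_dg hl hM hM' hO l α γ hα hγ e
  refine ⟨{ D := D₀.map N.subtype, s := s, le_norm := hD, s_mem := s.2, s_sq := congrArg Subtype.val hsq,
            ch_ex := ?_, ch_surj := ?_, ch_inj := ?_, s_swap := ?_, decomp := ?_, cases := ?_, s_Z := ?_ }⟩
  · rintro _ ⟨l, ⟨-, α, γ, hα, hγ, e⟩, rfl⟩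
    exact ⟨α, γ, hα, hγ, hch l α γ e⟩
  · intro α γ hα hγ
    obtain ⟨l, e, hc⟩ := hlift α γ hα hγ
    exact ⟨l, ⟨l, ⟨hc, α, γ, hα, hγ, e⟩, rfl⟩, hch l α γ e⟩
  · rintro _ ⟨l, ⟨hc, α, γ, hα, hγ, e⟩, rfl⟩ h
    obtain ⟨rfl, rfl⟩ := Ch.unique C (hch l α γ e) h
    refine congrArg Subtype.val (huniq l 1 hc (by simp) (Equiv.ext fun v => ?_))
    rw [e, map_one]
    exact (by decide +kernel : ∀ v, dg 1 1 v = v) v
  · rintro _ ⟨l, ⟨hc, α, γ, hα, hγ, e⟩, rfl⟩ α' γ' h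
    obtain ⟨rfl, rfl⟩ := Ch.unique C (hch l α γ e) h
    have e' : (C.act (s * l * s⁻¹) : Fin 16 → Fin 16) = dg γ α := funext fun w => by
      obtain ⟨v, rfl⟩ := (C.act s).surjective w
      rw [map_mul, map_mul, map_inv, Equiv.Perm.mul_apply, Equiv.Perm.mul_apply, Equiv.Perm.inv_def, Equiv.symm_apply_apply, e, hs]
      exact (by decide +kernel : ∀ α γ v, sw (dg α γ v) = dg γ α (sw v)) α γ v
    exact ⟨⟨s * l * s⁻¹, ⟨((show Commute s ζ from hsc).mul_left hc).mul_left (show Commute s ζ from hsc).inv_left,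
      γ, α, hγ, hα, e'⟩, rfl⟩, hch _ γ α e'⟩
  · intro n hn
    obtain ⟨x, hx, d, hd, e⟩ := hN ⟨n, C.normalizer_S_le hn⟩ (C.normalizer_S_conj_Z hn C.eA_one_not_Z.1)
    exact ⟨x, hx, d, ⟨d, hd, rfl⟩, e⟩
  · intro n hn
    by_cases hz : n * C.eA 4 * n⁻¹ ∈ C.Z
    · obtain ⟨x, hx, d, hd, e⟩ := hN ⟨n, hn⟩ hz
      left
      show n ∈ _
      rw [show n = x * (d : G) from e]
      exact mul_mem (le_normalizer hx) (hD ⟨d, hd, rfl⟩)
    right
    set m : ↥N := ⟨n, hn⟩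
    obtain ⟨i, hi⟩ := (by decide +kernel : ∀ w : Fin 16, (pv w).1 ≠ 0 → ∃ i, (pv (sw (tpf i w))).1 = 0)
      (C.act m 4) (fun h0 => hz (by
        have := C.act_spec m 4
        rw [← this, eA, C.mem_Z]
        exact ⟨h0, pv_side _⟩))
    let p : ↥N := ⟨C.e (0, i, 0), C.S_le_normalizer_A (C.e_mem _)⟩
    have hz' : ((s * p * m : ↥N) : G) * C.eA 4 * ((s * p * m : ↥N) : G)⁻¹ ∈ C.Z := by
      rw [← C.act_spec, eA, C.mem_Z, map_mul, map_mul, Equiv.Perm.mul_apply, Equiv.Perm.mul_apply, C.act_S, hs]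
      exact ⟨hi, pv_side _⟩
    obtain ⟨x, hx, d, hd, e⟩ := hN _ hz'
    refine ⟨(C.e (0, i, 0))⁻¹, inv_mem (le_normalizer (C.e_mem _)), x * (d : G),
      mul_mem (le_normalizer hx) (hD ⟨d, hd, rfl⟩), ?_⟩
    rw [← e]
    show n = (C.e (0, i, 0))⁻¹ * (s : G) * ((s : G) * C.e (0, i, 0) * n)
    rw [show (C.e (0, i, 0))⁻¹ * (s : G) * ((s : G) * C.e (0, i, 0) * n) =
      (C.e (0, i, 0))⁻¹ * ((s : G) * s) * (C.e (0, i, 0) * n) by group,
      show (s : G) * s = 1 from congrArg Subtype.val hsq]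
    group
  · intro z hz h
    obtain ⟨v, rfl⟩ := C.exists_eA (C.Z_le_A hz)
    rw [← C.act_spec, hs, eA, C.mem_Z] at h
    have hv := (C.mem_Z.1 hz).1
    rw [(by decide +kernel : ∀ v, (pv v).1 = 0 → (pv (sw v)).1 = 0 → v = 0) v hv h.1, C.eA_zero]

end Cfsg.Lib.LFourType.Coord
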